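import Mathlib
import Cfsg.Agent.Cl.GFSmall

/-!
# The Sylow 2-subgroup of `M₂₂`, `M₂₃`, `McL`

Unitriangular matrices of degree three over the field with four elements, extended by the field
automorphism.
-/

set_option autoImplicit false

namespace Cfsg.Agent.Std.W

/-- The field with four elements. -/
abbrev K4 : Type := Cl.GF4

/-- A primitive element. -/
def om : K4 := Cl.TF.prim Cl.gf4

/-- The field automorphism, or the identity. -/
def tw (e : Bool) (x : K4) : K4 := Bool.rec x (x * x) e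

theorem tw_add : ∀ (e : Bool) (x y : K4), tw e (x + y) = tw e x + tw e y := by decide +kernel
theorem tw_mul : ∀ (e : Bool) (x y : K4), tw e (x * y) = tw e x * tw e y := by decide +kernel
theorem tw_xor : ∀ (e f : Bool) (x : K4), tw (xor e f) x = tw e (tw f x) := by decide +kernel

/-- The group of order 128. -/
@[ext] structure T0 where
  a : K4
  b : K4
  c : K4
  e : Bool

namespace T0

instance : DecidableEq T0 := fun p q =>
  decidable_of_iff (p.a = q.a ∧ p.b = q.b ∧ p.c = q.c ∧ p.e = q.e) T0.ext_iff.symm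

instance decAll (P : T0 → Prop) [DecidablePred P] : Decidable (∀ p, P p) :=
  decidable_of_iff (∀ a b c e, P ⟨a, b, c, e⟩) ⟨fun h p => h p.a p.b p.c p.e, fun h _ _ _ _ => h _⟩

instance decEx (P : T0 → Prop) [DecidablePred P] : Decidable (∃ p, P p) :=
  decidable_of_iff (∃ a b c e, P ⟨a, b, c, e⟩)
    ⟨fun ⟨_, _, _, _, h⟩ => ⟨_, h⟩, fun ⟨p, h⟩ => ⟨p.a, p.b, p.c, p.e, h⟩⟩

instance : Mul T0 := ⟨fun p q =>
  ⟨p.a + tw p.e q.a, p.b + tw p.e q.b, p.c + tw p.e q.c + p.a * tw p.e q.b, xor p.e q.e⟩⟩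
instance : One T0 := ⟨⟨0, 0, 0, false⟩⟩
instance : Inv T0 := ⟨fun p => ⟨tw p.e p.a, tw p.e p.b, tw p.e (p.c + p.a * p.b), p.e⟩⟩

theorem mul_def (p q : T0) : p * q =
    ⟨p.a + tw p.e q.a, p.b + tw p.e q.b, p.c + tw p.e q.c + p.a * tw p.e q.b, xor p.e q.e⟩ := rfl

instance : Group T0 := Group.ofLeftAxioms
  (fun p q r => by
    simp only [mul_def, tw_add, tw_mul, tw_xor, Bool.xor_assoc]
    congr 1 <;> ring)
  (by decide +kernel) (by decide +kernel)

/-- The coordinates. -/
def equivProd : T0 ≃ K4 × K4 × K4 × Bool where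
  toFun p := (p.a, p.b, p.c, p.e)
  invFun v := ⟨v.1, v.2.1, v.2.2.1, v.2.2.2⟩
  left_inv _ := rfl
  right_inv _ := rfl

instance : Finite T0 := Finite.of_equiv _ equivProd.symm

theorem card_eq : Nat.card T0 = 128 := by
  rw [Nat.card_congr equivProd]
  simp [Cl.card_GF4]

end T0

/-- The first root subgroup. -/
def x (a : K4) : T0 := ⟨a, 0, 0, false⟩
/-- The second root subgroup. -/
def y (b : K4) : T0 := ⟨0, b, 0, false⟩
/-- The highest root subgroup. -/
def w (c : K4) : T0 := ⟨0, 0, c, false⟩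
/-- The field automorphism. -/
def fi : T0 := ⟨0, 0, 0, true⟩

/-- The first elementary abelian subgroup of order 16. -/
def E0 : Subgroup T0 where
  carrier := {p | p.b = 0 ∧ p.e = false}
  mul_mem' := fun {p q} => (by decide +kernel : ∀ p q : T0, p.b = 0 ∧ p.e = false →
    q.b = 0 ∧ q.e = false → (p * q).b = 0 ∧ (p * q).e = false) p q
  one_mem' := ⟨rfl, rfl⟩
  inv_mem' := fun {p} => (by decide +kernel : ∀ p : T0, p.b = 0 ∧ p.e = false →
    p⁻¹.b = 0 ∧ p⁻¹.e = false) p

/-- The second elementary abelian subgroup of order 16. -/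
def F0 : Subgroup T0 where
  carrier := {p | p.a = 0 ∧ p.e = false}
  mul_mem' := fun {p q} => (by decide +kernel : ∀ p q : T0, p.a = 0 ∧ p.e = false →
    q.a = 0 ∧ q.e = false → (p * q).a = 0 ∧ (p * q).e = false) p q
  one_mem' := ⟨rfl, rfl⟩
  inv_mem' := fun {p} => (by decide +kernel : ∀ p : T0, p.a = 0 ∧ p.e = false →
    p⁻¹.a = 0 ∧ p⁻¹.e = false) p

/-- The subgroup of order 64. -/
def J0 : Subgroup T0 where
  carrier := {p | p.e = false}
  mul_mem' := fun {p q} => (by decide +kernel : ∀ p q : T0, p.e = false →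
    q.e = false → (p * q).e = false) p q
  one_mem' := rfl
  inv_mem' := fun {_} h => h

/-- The centre of `J0`. -/
def Z0 : Subgroup T0 := E0 ⊓ F0

instance : DecidablePred (· ∈ E0) := fun p => inferInstanceAs (Decidable (p.b = 0 ∧ p.e = false))
instance : DecidablePred (· ∈ F0) := fun p => inferInstanceAs (Decidable (p.a = 0 ∧ p.e = false))
instance : DecidablePred (· ∈ J0) := fun p => inferInstanceAs (Decidable (p.e = false))
instance : DecidablePred (· ∈ Z0) := fun p => inferInstanceAs (Decidable (p ∈ E0 ∧ p ∈ F0))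

instance : E0.Normal := ⟨by decide +kernel⟩
instance : F0.Normal := ⟨by decide +kernel⟩
instance : J0.Normal := ⟨by decide +kernel⟩
instance : Z0.Normal := ⟨by decide +kernel⟩

theorem card_of_equiv {H : Subgroup T0} {β : Type} (f : β → T0) (hf : Function.Injective f)
    (h : ∀ p, p ∈ H ↔ ∃ v, f v = p) : Nat.card H = Nat.card β :=
  (Nat.card_congr (Equiv.ofBijective (fun v => (⟨f v, (h _).2 ⟨v, rfl⟩⟩ : H))
    ⟨fun _ _ e => hf (congrArg Subtype.val e), fun p =>
      ((h _).1 p.2).imp fun _ e => Subtype.ext e⟩)).symm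

theorem card_E0 : Nat.card E0 = 16 := by
  rw [card_of_equiv (fun v : K4 × K4 => ⟨v.1, 0, v.2, false⟩) (by decide +kernel) (by decide +kernel)]
  simp [Cl.card_GF4]

theorem card_F0 : Nat.card F0 = 16 := by
  rw [card_of_equiv (fun v : K4 × K4 => ⟨0, v.1, v.2, false⟩) (by decide +kernel) (by decide +kernel)]
  simp [Cl.card_GF4]

theorem card_Z0 : Nat.card Z0 = 4 := by
  rw [card_of_equiv w (by decide +kernel) (by decide +kernel)]
  simp [Cl.card_GF4]

theorem card_J0 : Nat.card J0 = 64 := by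
  rw [card_of_equiv (fun v : K4 × K4 × K4 => ⟨v.1, v.2.1, v.2.2, false⟩) (by decide +kernel)
    (by decide +kernel)]
  simp [Cl.card_GF4]

/-- The automorphism interchanging `E0` and `F0`. -/
def gam : T0 →* T0 := MonoidHom.mk' (fun p => ⟨p.b, p.a, p.c + p.a * p.b, p.e⟩) (by decide +kernel)

theorem gam_gam : ∀ p, gam (gam p) = p := by decide +kernel
theorem gam_E : ∀ p, gam p ∈ E0 ↔ p ∈ F0 := by decide +kernel
theorem gam_F : ∀ p, gam p ∈ F0 ↔ p ∈ E0 := by decide +kernel
theorem gam_J : ∀ p, gam p ∈ J0 ↔ p ∈ J0 := by decide +kernel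
theorem gam_Z : ∀ p, gam p ∈ Z0 ↔ p ∈ Z0 := by decide +kernel

/-- The action of the torus on `J0`. -/
def rho (α β : K4) (p : T0) : T0 := ⟨α * p.a, β * p.b, α * β * p.c, p.e⟩

/-- An automorphism of `E0`. -/
def aE (ε : Bool) (p : T0) : T0 := ⟨p.a + tw ε p.c, p.b, p.c, p.e⟩

/-- An automorphism of `F0`. -/
def aF (ε : Bool) (p : T0) : T0 := ⟨p.a, p.b + tw ε p.c, p.c, p.e⟩

theorem E0_le : E0 ≤ J0 := fun _ h => h.2
theorem F0_le : F0 ≤ J0 := fun _ h => h.2
theorem Z0_leE : Z0 ≤ E0 := inf_le_left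
theorem Z0_leF : Z0 ≤ F0 := inf_le_right

theorem sq_E : ∀ p ∈ E0, p * p = 1 := by decide +kernel
theorem sq_F : ∀ p ∈ F0, p * p = 1 := by decide +kernel
theorem comm_E : ∀ p ∈ E0, ∀ q ∈ E0, p * q = q * p := by decide +kernel
theorem comm_F : ∀ p ∈ F0, ∀ q ∈ F0, p * q = q * p := by decide +kernel
theorem comm_Z : ∀ p ∈ Z0, ∀ q ∈ J0, p * q = q * p := by decide +kernel
theorem comm_z : ∀ q, w 1 * q = q * w 1 := by decide +kernel
theorem pow_eight : ∀ p : T0, p * p * (p * p) * (p * p * (p * p)) = 1 := by decide +kernel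
theorem exists_EF : ∀ p ∈ J0, ∃ e ∈ E0, ∃ f ∈ F0, p = e * f := by decide +kernel
theorem invol_J : ∀ p ∈ J0, p * p = 1 → p ∈ E0 ∨ p ∈ F0 := by decide +kernel
theorem mem_Z_of_comm : ∀ p ∈ E0, ∀ q ∈ F0, p * q = q * p → p ∈ Z0 ∨ q ∈ Z0 := by decide +kernel
theorem mem_J_of_comm : ∀ p : T0, p * w om = w om * p → p ∈ J0 := by decide +kernel
theorem cent_E : ∀ p : T0, p * w om = w om * p → p * x 1 = x 1 * p → p ∈ E0 := by decide +kernel
theorem center_eq : ∀ p : T0, p * x om = x om * p → p * y om = y om * p → p * fi = fi * p →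
    p = 1 ∨ p = w 1 := by decide +kernel
theorem comm_mem_Z : ∀ p ∈ J0, ∀ q ∈ J0, p * q * p⁻¹ * q⁻¹ ∈ Z0 := by decide +kernel

theorem gam_x : ∀ a, gam (x a) = y a := by decide +kernel
theorem gam_y : ∀ a, gam (y a) = x a := by decide +kernel
theorem gam_w : ∀ a, gam (w a) = w a := by decide +kernel
theorem gam_fi : gam fi = fi := by decide +kernel
theorem gam_rho1 : ∀ p, gam (rho 1 om p) = rho om 1 (gam p) := by decide +kernel
theorem gam_rho2 : ∀ p, gam (rho om 1 p) = rho 1 om (gam p) := by decide +kernel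
theorem gam_aE : ∀ ε, ∀ p ∈ E0, gam (aE ε p) = aF ε (gam p) := by decide +kernel
theorem gam_aF : ∀ ε, ∀ p ∈ F0, gam (aF ε p) = aE ε (gam p) := by decide +kernel
theorem gam_inj : Function.Injective gam := fun p q e => by rw [← gam_gam p, e, gam_gam]
theorem gam_surj : Function.Surjective gam := fun p => ⟨gam p, gam_gam p⟩

/-- `V true = E0`, `V false = F0`. -/
def V (ε : Bool) : Subgroup T0 := Bool.rec F0 E0 ε

instance (ε : Bool) : DecidablePred (· ∈ V ε) := fun p =>
  Bool.rec (inferInstanceAs (Decidable (p ∈ F0))) (inferInstanceAs (Decidable (p ∈ E0))) ε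

/-- Every element is a product of an element of `E0`, a root element and a power of `fi`. -/
theorem exists_dec : ∀ p : T0, ∃ e ∈ E0, ∃ b, p = e * y b ∨ p = e * y b * fi := by decide +kernel
/-- No element of `T0` acts on `E0` as a transvection. -/
theorem no_trv : ∀ p : T0, (∀ e ∈ E0, ∀ e' ∈ E0, e * p = p * e ∨ e' * p = p * e' ∨ e * e' * p = p * (e * e')) →
    p ∈ E0 := by decide +kernel
theorem conj_fi : ∀ p : T0, p ∉ J0 → p * p = 1 → ∃ j ∈ J0, j * p * j⁻¹ = fi := by decide +kernel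
theorem sq_of_Z : ∀ p ∈ Z0, ∃ j ∈ J0, j * j = p := by decide +kernel
theorem cent_F : ∀ p : T0, p * w om = w om * p → p * y 1 = y 1 * p → p ∈ F0 := by decide +kernel
theorem mem_Z_of_cent : ∀ p : T0, p * w om = w om * p → p * x 1 = x 1 * p → p * y 1 = y 1 * p → p ∈ Z0 := by
  decide +kernel

theorem pg : IsPGroup 2 T0 := IsPGroup.of_card (n := 7) T0.card_eq

/-- A homomorphism from relations. -/
theorem exists_hom {A : Type*} [Group A] (X Y V : K4 → A) (φ : A)
    (hX : ∀ a a', X a * X a' = X (a + a')) (hY : ∀ a a', Y a * Y a' = Y (a + a'))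
    (hV : ∀ a a', V a * V a' = V (a + a')) (hXV : ∀ a c, V c * X a = X a * V c)
    (hYV : ∀ a c, V c * Y a = Y a * V c) (hXY : ∀ a b, X a * Y b = Y b * X a * V (a * b))
    (pX : ∀ a, φ * X a = X (a * a) * φ) (pY : ∀ a, φ * Y a = Y (a * a) * φ)
    (pV : ∀ a, φ * V a = V (a * a) * φ) (hφ : φ * φ = 1) :
    ∃ ι : T0 →* A, (∀ a, ι (x a) = X a) ∧ (∀ a, ι (y a) = Y a) ∧ (∀ a, ι (w a) = V a) ∧ ι fi = φ := by
  have z : ∀ {U : K4 → A}, (∀ a a', U a * U a' = U (a + a')) → U 0 = 1 := fun {U} h => by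
    have := h 0 0
    rwa [add_zero, mul_eq_left] at this
  let P : Bool → A := fun e => Bool.rec 1 φ e
  have hP : ∀ {U : K4 → A}, (∀ a, φ * U a = U (a * a) * φ) → ∀ e a, P e * U a = U (tw e a) * P e :=
    fun {U} h e a => by
      cases e
      · simp [P, tw]
      · exact h a
  have hPP : ∀ e f, P e * P f = P (xor e f) := fun e f => by
    cases e <;> cases f <;> simp [P, hφ]
  refine ⟨MonoidHom.mk' (fun p => Y p.b * X p.a * V p.c * P p.e) fun p q => ?_, fun a => ?_,
    fun a => ?_, fun a => ?_, ?_⟩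
  · simp only [T0.mul_def]
    rw [← hPP, ← hX, ← hY, ← hV, ← hV]
    have h1 : P p.e * (Y q.b * X q.a * V q.c * P q.e) =
        Y (tw p.e q.b) * X (tw p.e q.a) * V (tw p.e q.c) * (P p.e * P q.e) := by
      simp only [← mul_assoc]
      rw [hP pY, mul_assoc (Y _), hP pX, ← mul_assoc, mul_assoc _ (P _), hP pV, ← mul_assoc]
    rw [mul_assoc _ (P p.e), h1]
    generalize P p.e * P q.e = r
    generalize tw p.e q.a = a'
    generalize tw p.e q.b = b'
    generalize tw p.e q.c = c'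
    have h2 : X p.a * V p.c * (Y b' * X a' * V c') =
        Y b' * (X p.a * X a') * (V p.c * V c' * V (p.a * b')) := by
      calc X p.a * V p.c * (Y b' * X a' * V c') = X p.a * (V p.c * Y b') * X a' * V c' := by group
        _ = X p.a * Y b' * (V p.c * X a') * V c' := by rw [hYV]; group
        _ = Y b' * X p.a * (V (p.a * b') * X a') * (V p.c * V c') := by rw [hXV, hXY]; group
        _ = Y b' * (X p.a * X a') * (V (p.a * b') * (V p.c * V c')) := by rw [hXV]; group
        _ = _ := by rw [hV, hV, hV, add_comm (p.a * b')]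
    calc Y p.b * Y b' * (X p.a * X a') * (V p.c * V c' * V (p.a * b')) * r
        = Y p.b * (Y b' * (X p.a * X a') * (V p.c * V c' * V (p.a * b'))) * r := by group
      _ = _ := by rw [← h2]; group
  all_goals simp [x, y, w, fi, P, z hX, z hY, z hV]

end Cfsg.Agent.Std.W
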