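import Mathlib
import Cfsg.Agent.Std.WT

/-!
# Subgroups and automorphisms of `T0`, and words acting on `E0`
-/

set_option autoImplicit false

namespace Cfsg.Agent.Std.W

open Subgroup

/-- The action of the letters `y 1`, `y om`, `fi`, `r1`, `r2`, `hE` (numbered `0` to `5`) on `E0`. -/
def lt (ε : Bool) : ℕ → T0 → T0
  | 0 => fun p => y 1 * p * (y 1)⁻¹
  | 1 => fun p => y om * p * (y om)⁻¹
  | 2 => fun p => fi * p * fi⁻¹
  | 3 => rho 1 om
  | 4 => rho om 1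
  | _ => aE ε

/-- The action of a word on `E0` (the last letter acts first). -/
def ev (ε : Bool) : List ℕ → T0 → T0
  | [] => fun p => p
  | a :: l => fun p => lt ε a (ev ε l p)

theorem rho1_E : ∀ p ∈ E0, rho 1 om p ∈ E0 := by decide +kernel
theorem rho2_E : ∀ p ∈ E0, rho om 1 p ∈ E0 := by decide +kernel
theorem rho1_F : ∀ p ∈ F0, rho 1 om p ∈ F0 := by decide +kernel
theorem rho2_F : ∀ p ∈ F0, rho om 1 p ∈ F0 := by decide +kernel
theorem rho1_J : ∀ p ∈ J0, rho 1 om p ∈ J0 := fun _ h => h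
theorem rho2_J : ∀ p ∈ J0, rho om 1 p ∈ J0 := fun _ h => h
theorem aE_E : ∀ ε, ∀ p ∈ E0, aE ε p ∈ E0 := fun _ _ h => h
theorem aF_F : ∀ ε, ∀ p ∈ F0, aF ε p ∈ F0 := fun _ _ h => h

theorem lt_mem (ε : Bool) (a : ℕ) {p : T0} (h : p ∈ E0) : lt ε a p ∈ E0 :=
  match a with
  | 0 => Normal.conj_mem inferInstance p h _
  | 1 => Normal.conj_mem inferInstance p h _
  | 2 => Normal.conj_mem inferInstance p h _
  | 3 => rho1_E p h
  | 4 => rho2_E p h
  | _ + 5 => h

theorem ev_mem (ε : Bool) (l : List ℕ) {p : T0} (h : p ∈ E0) : ev ε l p ∈ E0 := by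
  induction l with
  | nil => exact h
  | cons a l ih => exact lt_mem ε a ih

theorem ev_trans : ∀ ε, ∀ p ∈ E0, p ≠ 1 → ∃ l ∈ [[], [3], [3, 3], [5, 0], [5], [5, 0, 1], [5, 1], [3, 5, 4], [3, 5, 1],
    [3, 5, 0], [3, 5, 3], [3, 5], [5, 0, 4], [3, 2, 5, 0], [3, 2, 5], [5, 4], [3, 2, 5, 1], [5, 1, 5], [3, 5, 0, 1]],
      ev ε l p = w 1 := by decide +kernel
/-- `n1` conjugates `y 1` to `fi` on `E0`. -/
theorem ev_n1 : ∀ p ∈ E0, ev true [3, 3, 5, 1, 3, 5, 0] p = ev true [2, 3, 3, 5, 1, 3, 5] p := by decide +kernel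
/-- `u` conjugates `fi` to `hE` on `E0`. -/
theorem ev_u : ∀ p ∈ E0, ev true [0, 5, 1, 2] p = ev true [5, 0, 5, 1] p := by decide +kernel
/-- In the linear case `y 1` is conjugate to `hE` on `E0`. -/
theorem ev_u' : ∀ p ∈ E0, ev false [0, 5, 0] p = ev false [5, 0, 5] p := by decide +kernel
/-- `n3` fixes `w 1` and moves `w om`. -/
theorem ev_n3 : ev true [5, 3, 1, 5] (w 1) = w 1 ∧ (ev true [5, 3, 1, 5] (w om)).a ≠ 0 ∧
    (ev true [5, 3, 1, 5] (w om)).a ≠ 1 := by decide +kernel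
/-- `r2 * r1` commutes with `hE` on `E0`. -/
theorem ev_rr : ∀ p ∈ E0, ev true [4, 3, 5] p = ev true [5, 4, 3] p := by decide +kernel
theorem rr_fpf : ∀ p ∈ E0, rho om 1 (rho 1 om p) = p → p = 1 := by decide +kernel
theorem r2_fpf : ∀ p ∈ E0, rho om 1 p = p → p = 1 := by decide +kernel
theorem r2_norm : ∀ p ∈ E0, p * rho om 1 p * rho om 1 (rho om 1 p) = 1 := by decide +kernel
theorem rho1_cube : ∀ p, rho 1 om (rho 1 om (rho 1 om p)) = p := by decide +kernel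
theorem rho2_cube : ∀ p, rho om 1 (rho om 1 (rho om 1 p)) = p := by decide +kernel

theorem z_ne : w 1 ≠ 1 := by decide +kernel
theorem z_sq : w 1 * w 1 = 1 := by decide +kernel
theorem w_mem : ∀ c, w c ∈ Z0 := by decide +kernel
theorem x_mem : ∀ c, x c ∈ E0 := by decide +kernel
theorem y_mem : ∀ c, y c ∈ F0 := by decide +kernel
theorem Z_cases : ∀ p ∈ Z0, p = 1 ∨ p = w 1 ∨ p = w om ∨ p = w 1 * w om := by decide +kernel
theorem fi_sq : fi * fi = 1 := by decide +kernel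
theorem fi_notMem : fi ∉ J0 := by decide +kernel
theorem xy_comm : ∀ a b, x a * y b * (x a)⁻¹ * (y b)⁻¹ = w (a * b) := by decide +kernel
theorem y_eq : fi * y om * fi⁻¹ * (y om)⁻¹ = y 1 := by decide +kernel
theorem x_eq : fi * x om * fi⁻¹ * (x om)⁻¹ = x 1 := by decide +kernel
theorem x_sq : x om * fi * (x om * fi) = x 1 := by decide +kernel
theorem y_sq : y om * fi * (y om * fi) = y 1 := by decide +kernel
theorem mem_J_iff : ∀ p q : T0, p * q ∈ J0 ↔ (p ∈ J0 ↔ q ∈ J0) := by decide +kernel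

/-- Generation by three involutions. -/
theorem eq_top_of {S : Subgroup T0} (h1 : x om ∈ S) (h2 : y om ∈ S) (h3 : fi ∈ S) : S = ⊤ := by
  have c : ∀ {p q}, p ∈ S → q ∈ S → p * q * p⁻¹ * q⁻¹ ∈ S := fun hp hq =>
    mul_mem (mul_mem (mul_mem hp hq) (inv_mem hp)) (inv_mem hq)
  have g : ∀ {u : K4 → T0}, (∀ a, u a = 1 ∨ u a = u 1 ∨ u a = u om ∨ u a = u 1 * u om) → u 1 ∈ S → u om ∈ S →
      ∀ a, u a ∈ S := fun h a1 a2 a => by
    rcases h a with e | e | e | e <;> rw [e]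
    exacts [one_mem _, a1, a2, mul_mem a1 a2]
  have hx := g (by decide +kernel) (x_eq ▸ c h3 h1) h1
  have hy := g (by decide +kernel) (y_eq ▸ c h3 h2) h2
  have hw : ∀ a, w a ∈ S := fun a => by simpa [xy_comm] using c (hx a) (hy 1)
  refine eq_top_iff.2 fun p _ => ?_
  have : ∀ p : T0, p = y p.b * x p.a * w p.c ∨ p = y p.b * x p.a * w p.c * fi := by decide +kernel
  have h4 := mul_mem (mul_mem (hy p.b) (hx p.a)) (hw p.c)
  rcases this p with e | e <;> rw [e]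
  exacts [h4, mul_mem h4 h3]

theorem comm_of_sq {A : Subgroup T0} (h : ∀ p ∈ A, p * p = 1) {p q : T0} (hp : p ∈ A) (hq : q ∈ A) :
    p * q = q * p := by
  rw [← inv_eq_of_mul_eq_one_right (h _ (mul_mem hp hq)), mul_inv_rev, inv_eq_of_mul_eq_one_right (h p hp),
    inv_eq_of_mul_eq_one_right (h q hq)]

theorem le_or_le {A : Subgroup T0} (h : ∀ p ∈ A, p * p = 1) (hJ : A ≤ J0) : A ≤ E0 ∨ A ≤ F0 := by
  by_contra h1
  obtain ⟨⟨p, hp, p1⟩, q, hq, q1⟩ := (not_or.1 h1).imp SetLike.not_le_iff_exists.1 SetLike.not_le_iff_exists.1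
  rcases mem_Z_of_comm q ((invol_J q (hJ hq) (h q hq)).resolve_right q1) p
    ((invol_J p (hJ hp) (h p hp)).resolve_left p1) (comm_of_sq h hq hp) with e | e
  exacts [q1 e.2, p1 e.1]

theorem card_le_of_list {A : Subgroup T0} (l : List T0) (h : ∀ p ∈ A, p ∈ l) : Nat.card A ≤ l.length := by
  have h1 : (A : Set T0) ⊆ (l.toFinset : Set T0) := fun p hp => by simpa using h p hp
  calc Nat.card A = (A : Set T0).ncard := rfl
    _ ≤ (l.toFinset : Set T0).ncard := Set.ncard_le_ncard h1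
    _ ≤ l.length := by rw [Set.ncard_coe_finset]; exact l.toFinset_card_le

theorem card_le_twelve {A : Subgroup T0} (h : ∀ p ∈ A, p * p = 1) (hJ : ¬ A ≤ J0) : Nat.card A ≤ 12 := by
  obtain ⟨p, hp, p1⟩ := SetLike.not_le_iff_exists.1 hJ
  obtain ⟨j, -, e⟩ := conj_fi p p1 (h p hp)
  have k : ∀ q : T0, q * q = 1 → q * fi = fi * q → q ∈ [1, w 1, x 1, x 1 * w 1, y 1, y 1 * w 1, fi, w 1 * fi, x 1 * fi,
      x 1 * w 1 * fi, y 1 * fi, y 1 * w 1 * fi] := by decide +kernel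
  rw [← card_map_of_injective (f := (MulAut.conj j).toMonoidHom) (MulAut.conj j).injective]
  refine card_le_of_list [1, w 1, x 1, x 1 * w 1, y 1, y 1 * w 1, fi, w 1 * fi, x 1 * fi,
      x 1 * w 1 * fi, y 1 * fi, y 1 * w 1 * fi] ?_
  rintro _ ⟨q, hq, rfl⟩
  refine k _ (by rw [← map_mul, h q hq, map_one]) ?_
  rw [← e]
  exact (map_mul (MulAut.conj j) q p).symm.trans ((congrArg _ (comm_of_sq h hq hp)).trans (map_mul _ p q))

/-- The elementary abelian subgroups of order at least 16. -/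
theorem el16 {A : Subgroup T0} (h : ∀ p ∈ A, p * p = 1) (hc : 16 ≤ Nat.card A) : A = E0 ∨ A = F0 := by
  by_cases hJ : A ≤ J0
  · exact (le_or_le h hJ).imp (fun e => eq_of_le_of_card_ge e (card_E0 ▸ hc)) fun e =>
      eq_of_le_of_card_ge e (card_F0 ▸ hc)
  · have := card_le_twelve h hJ
    omega

theorem card_le_sixteen {A : Subgroup T0} (h : ∀ p ∈ A, p * p = 1) : Nat.card A ≤ 16 := by
  by_contra h1
  rcases el16 h (by omega) with e | e <;> simp [e, card_E0, card_F0] at h1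

theorem card_le_four {A : Subgroup T0} (h : ∀ p ∈ A, p * p = 1) (hZ : ∀ p ∈ A, p ∈ J0 → p ∈ Z0) :
    Nat.card A ≤ 4 := by
  by_cases hJ : A ≤ J0
  · exact card_Z0 ▸ card_le_of_le fun p hp => hZ p hp (hJ hp)
  obtain ⟨p, hp, p1⟩ := SetLike.not_le_iff_exists.1 hJ
  have k : ∀ p : T0, p ∉ J0 → ∀ q ∈ Z0, q * p = p * q → q = 1 ∨ q = w 1 := by decide +kernel
  refine card_le_of_list [1, w 1, p⁻¹, w 1 * p⁻¹] fun q hq => ?_
  by_cases h1 : q ∈ J0
  · rcases k p p1 q (hZ q hq h1) (comm_of_sq h hq hp) with e | e <;> simp [e]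
  · have h2 := mul_mem hq hp
    rcases k p p1 _ (hZ _ h2 ((mem_J_iff q p).2 (iff_of_false h1 p1))) (comm_of_sq h h2 hp) with e | e <;>
      simp [eq_mul_inv_of_mul_eq e]

theorem E_ne_F : E0 ≠ F0 := fun e => by
  have := x_mem 1
  rw [e] at this
  exact absurd this (by decide +kernel)

theorem V_sq (ε : Bool) : ∀ p ∈ V ε, p * p = 1 := by cases ε; exacts [sq_F, sq_E]
theorem V_comm (ε : Bool) : ∀ p ∈ V ε, ∀ q ∈ V ε, p * q = q * p := by cases ε; exacts [comm_F, comm_E]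
theorem V_le (ε : Bool) : V ε ≤ J0 := by cases ε; exacts [F0_le, E0_le]
theorem Z_le_V (ε : Bool) : Z0 ≤ V ε := by cases ε; exacts [Z0_leF, Z0_leE]
theorem card_V (ε : Bool) : Nat.card (V ε) = 16 := by cases ε; exacts [card_F0, card_E0]
theorem V_cent : ∀ ε, ∀ p : T0, (∀ q ∈ V ε, p * q = q * p) → p ∈ V ε := by decide +kernel
theorem V_inj : ∀ ε δ, V ε = V δ → ε = δ := by
  rintro (_ | _) (_ | _) e
  exacts [rfl, absurd e.symm E_ne_F, absurd e E_ne_F, rfl]
instance (ε : Bool) : (V ε).Normal := by cases ε; exacts [inferInstanceAs F0.Normal, inferInstanceAs E0.Normal]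

/-- An automorphism permutes `E0` and `F0`. -/
theorem aut_cases (f : T0 ≃* T0) : ∃ α, ∀ ε p, f p ∈ V (xor ε α) ↔ p ∈ V ε := by
  have h1 : ∀ ε, ∃ δ, (V ε).map f.toMonoidHom = V δ := fun ε => by
    rcases el16 (A := (V ε).map f.toMonoidHom) (by
      rintro _ ⟨p, hp, rfl⟩
      rw [← map_mul, V_sq ε p hp, map_one]) (by rw [card_map_of_injective f.injective, card_V]) with e | e
    exacts [⟨true, e⟩, ⟨false, e⟩]
  obtain ⟨a, ha⟩ := h1 false
  obtain ⟨b, hb⟩ := h1 true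
  have h2 : a ≠ b := fun e => E_ne_F (map_injective f.injective (show (V true).map f.toMonoidHom = (V false).map _ by
    rw [ha, hb, e]))
  have h3 : ∀ ε, (V ε).map f.toMonoidHom = V (xor ε a) := by
    rintro (_ | _)
    · simpa using ha
    · rw [hb]; revert h2; cases a <;> cases b <;> simp
  exact ⟨a, fun ε p => h3 ε ▸ mem_map_iff_mem f.injective⟩

theorem aut_Z (f : T0 ≃* T0) (p : T0) : f p ∈ Z0 ↔ p ∈ Z0 := by
  obtain ⟨α, h⟩ := aut_cases f
  have h1 := h true p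
  have h2 := h false p
  cases α
  · exact and_congr h1 h2
  · exact and_comm.trans (and_congr h1 h2)

theorem aut_J (f : T0 ≃* T0) (p : T0) : f p ∈ J0 ↔ p ∈ J0 := by
  have k : ∀ (f : T0 ≃* T0) p, p ∈ J0 → f p ∈ J0 := fun f p hp => mem_J_of_comm _ (by
    have := congrArg f (comm_Z _ ((aut_Z f.symm _).2 (w_mem om)) p hp)
    simpa using this.symm)
  exact ⟨fun h => by simpa using k f.symm _ h, k f p⟩

theorem aut_z (f : T0 ≃* T0) : f (w 1) = w 1 := by
  have k : ∀ q, f (w 1) * q = q * f (w 1) := fun q => by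
    have := congrArg f (comm_z (f.symm q))
    simpa using this
  exact (center_eq _ (k _) (k _) (k _)).resolve_left fun e => z_ne (by simpa using e)

/-- An involutory automorphism fixes more than the centre. -/
theorem aut_fix (f : T0 ≃* T0) (h : ∀ p, f (f p) = p) : ∃ p, f p = p ∧ p ≠ 1 ∧ p ≠ w 1 := by
  have hz := aut_z f
  have hw := (aut_Z f _).2 (w_mem om)
  by_cases h1 : f (w om) = w om
  · exact ⟨_, h1, by decide +kernel, by decide +kernel⟩
  have h2 : f (w om) = w 1 * w om := by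
    rcases Z_cases _ hw with e | e | e | e
    · exact absurd (by simpa using e) (by decide +kernel : w om ≠ 1)
    · exact absurd (f.injective (e.trans hz.symm)) (by decide +kernel)
    · exact absurd e h1
    · exact e
  obtain ⟨α, hα⟩ := aut_cases f
  have k : ∀ p ∈ E0, p ∉ Z0 → ∀ q, q ∉ Z0 → q ∈ E0 ∨ q ∈ F0 → (q ∈ E0 ∧ q = p) ∨ (q ∈ E0 ∧ p * q = q * p ∧ p * q ≠ 1 ∧
      p * q ≠ w 1) ∨ (q = p * w 1) ∨ (q * p ≠ p * q ∧ (q * p = p * q * w 1 ∨ p * q * (p * q) ≠ w 1) ∧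
        p * q * w om ≠ 1 ∧ p * q * w om ≠ w 1 ∧ p * q * (p * q) ∈ Z0 ∧ p * q * (p * q) ≠ 1) := by decide +kernel
  have k2 : ∀ p ∈ E0, p ∉ Z0 → ∃ q, f q = q ∧ q ≠ 1 ∧ q ≠ w 1 := fun p hp hp' => by
    have q1 : f p ∈ E0 ∨ f p ∈ F0 := by
      have := (hα true p).2 hp
      cases α
      exacts [.inl this, .inr this]
    rcases k p hp hp' (f p) (mt (aut_Z f p).1 hp') q1 with e | e | e | e
    · exact ⟨p, e.2, fun e => hp' (e ▸ one_mem _), fun e => hp' (e ▸ w_mem 1)⟩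
    · exact ⟨_, by rw [map_mul, h, e.2.1], e.2.2⟩
    · refine ⟨p * w om, by rw [map_mul, e, h2, mul_assoc, ← mul_assoc (w 1), z_sq, one_mul], fun e => hp' ?_,
        fun e => hp' ?_⟩ <;> rw [eq_mul_inv_of_mul_eq e] <;> decide +kernel
    · rcases e.2.1 with e1 | e1
      · exact ⟨_, by rw [map_mul, map_mul, h, h2, e1, mul_assoc, ← mul_assoc (w 1), z_sq, one_mul], e.2.2.1, e.2.2.2.1⟩
      · refine ⟨_, ?_, e.2.2.2.2.2, e1⟩
        have := comm_Z _ e.2.2.2.2.1 p (E0_le hp)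
        rw [map_mul, map_mul, h]
        calc _ = p⁻¹ * (p * f p * (p * f p) * p) := by group
          _ = _ := by rw [this]; group
  exact k2 _ (x_mem 1) (by decide +kernel)

end Cfsg.Agent.Std.W
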