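import Mathlib
import Cfsg.Prelude.Def_Local
import Cfsg.Prelude.Def_KGroupFacts
import Cfsg.Agent.Std.WT2
import Cfsg.Agent.Loc.MssSyl
import Cfsg.Agent.Wr.Dbl

/-!
# A standard subgroup of type `M₂₃` or `McL`: the configurations
-/

set_option autoImplicit false

namespace Cfsg.Agent.Std.W

open Cfsg.Agent.Loc.Mss Cfsg.Agent.Wr Subgroup

universe u

/-- A subgroup `L` with Sylow 2-subgroup `T0` and the local subgroups `N_L(E)`, `N_L(F)`, modulo a centre of odd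
order. -/
structure Lw (G : Type u) [Group G] where
  L : Subgroup G
  ι : T0 →* G
  (r1 r2 hE hF : G)
  (εE εF : Bool)
  inj : Function.Injective ι
  r1L : r1 ∈ L
  r2L : r2 ∈ L
  hEL : hE ∈ L
  hFL : hF ∈ L
  syl : Syl 2 ι.range L
  act1 : ∀ p ∈ J0, r1 * ι p * r1⁻¹ = ι (rho 1 om p)
  act2 : ∀ p ∈ J0, r2 * ι p * r2⁻¹ = ι (rho om 1 p)
  actE : ∀ p ∈ E0, hE * ι p * hE⁻¹ = ι (aE εE p)
  actF : ∀ p ∈ F0, hF * ι p * hF⁻¹ = ι (aF εF p)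
  c1 : r1 ^ 3 ∈ 𝐂[L]
  c2 : r2 ^ 3 ∈ 𝐂[L]
  c12 : r1 * r2 * r1⁻¹ * r2⁻¹ ∈ 𝐂[L]
  f1 : ι fi * r1 * ι fi * r1 ∈ 𝐂[L]
  f2 : ι fi * r2 * ι fi * r2 ∈ 𝐂[L]
  cE : ∀ g ∈ L, (∀ p ∈ E0, g * ι p = ι p * g) → ∃ p ∈ E0, g * ι p ∈ 𝐂[L]
  cF : ∀ g ∈ L, (∀ p ∈ F0, g * ι p = ι p * g) → ∃ p ∈ F0, g * ι p ∈ 𝐂[L]
  zodd : ∀ g ∈ L, g ∈ 𝐂[L] → Odd (orderOf g)

namespace Lw

variable {G : Type u} [Group G] (s : Lw G)

/-- The Sylow 2-subgroup. -/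
def T : Subgroup G := s.ι.range
/-- The first `2^4`. -/
def E : Subgroup G := E0.map s.ι
/-- The second `2^4`. -/
def F : Subgroup G := F0.map s.ι
/-- `E ⊓ F`. -/
def Z : Subgroup G := Z0.map s.ι
/-- `E ⊔ F`. -/
def J : Subgroup G := J0.map s.ι
/-- The central involution. -/
def z : G := s.ι (w 1)
/-- The normaliser of `J`. -/
def P : Subgroup G := s.T ⊔ zpowers s.r1 ⊔ zpowers s.r2
/-- The normaliser of `E`. -/
def NE : Subgroup G := s.P ⊔ zpowers s.hE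
/-- The normaliser of `F`. -/
def NF : Subgroup G := s.P ⊔ zpowers s.hF

theorem range_gam : (s.ι.comp gam).range = s.ι.range := by
  rw [MonoidHom.range_comp, MonoidHom.range_eq_top.2 gam_surj, ← MonoidHom.range_eq_map]

/-- Interchange `E` and `F`. -/
def symm : Lw G where
  L := s.L
  ι := s.ι.comp gam
  r1 := s.r2
  r2 := s.r1
  hE := s.hF
  hF := s.hE
  εE := s.εF
  εF := s.εE
  inj := s.inj.comp gam_inj
  r1L := s.r2L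
  r2L := s.r1L
  hEL := s.hFL
  hFL := s.hEL
  syl := s.range_gam ▸ s.syl
  act1 p hp := (s.act2 _ ((gam_J p).2 hp)).trans (congrArg s.ι (gam_rho1 p).symm)
  act2 p hp := (s.act1 _ ((gam_J p).2 hp)).trans (congrArg s.ι (gam_rho2 p).symm)
  actE p hp := (s.actF _ ((gam_F p).2 hp)).trans (congrArg s.ι (gam_aE _ p hp).symm)
  actF p hp := (s.actE _ ((gam_E p).2 hp)).trans (congrArg s.ι (gam_aF _ p hp).symm)
  c1 := s.c2
  c2 := s.c1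
  c12 := by simpa [mul_assoc] using inv_mem s.c12
  f1 := s.f2
  f2 := s.f1
  cE g hg h := by
    obtain ⟨p, hp, e⟩ := s.cF g hg fun p hp => by simpa [gam_gam] using h (gam p) ((gam_E p).2 hp)
    exact ⟨gam p, (gam_E p).2 hp, by simpa [gam_gam] using e⟩
  cF g hg h := by
    obtain ⟨p, hp, e⟩ := s.cE g hg fun p hp => by simpa [gam_gam] using h (gam p) ((gam_F p).2 hp)
    exact ⟨gam p, (gam_F p).2 hp, by simpa [gam_gam] using e⟩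
  zodd := s.zodd

/-- An element centralising `E` and moving `t` inside `E t`. -/
def DE (t : G) : Prop := ∃ d, (∀ p ∈ E0, d * s.ι p = s.ι p * d) ∧ ∃ p ∈ E0, p ≠ 1 ∧ d * t * d⁻¹ = s.ι p * t

/-- The wreath configuration: `T₁ = θ(T0)`, `T₂ = t T₁ t`, with the fusion induced by `NE` and `NF` on one factor. -/
structure Wre (t : G) (X : Subgroup G) (θ : T0 →* G) : Prop where
  diag : ∀ p, θ p * (t * θ p * t) = s.ι p
  comm : ∀ p q, θ p * (t * θ q * t) = t * θ q * t * θ p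
  mem : ∀ p, θ p ∈ X
  fusN : ∀ l ∈ s.NE, ∃ k ∈ X, (∀ q, k * (t * θ q * t) = t * θ q * t * k) ∧
    ∀ p q, l * s.ι p * l⁻¹ = s.ι q → k * θ p * k⁻¹ = θ q
  fusF : ∀ l ∈ s.NF, ∃ k ∈ X, (∀ q ∈ F0, k * (t * θ q * t) = t * θ q * t * k) ∧
    ∀ p ∈ F0, ∀ q, l * s.ι p * l⁻¹ = s.ι q → k * θ p * k⁻¹ = θ q

theorem map_gam {A B : Subgroup T0} (h : ∀ p, gam p ∈ A ↔ p ∈ B) : A.map s.symm.ι = B.map s.ι := by
  ext g
  exact ⟨fun ⟨p, hp, e⟩ => ⟨gam p, (h _).1 ((gam_gam p).symm ▸ hp), e⟩,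
    fun ⟨p, hp, e⟩ => ⟨gam p, (h p).2 hp, (congrArg s.ι (gam_gam p)).trans e⟩⟩

theorem symm_ι (p : T0) : s.symm.ι p = s.ι (gam p) := rfl
theorem symm_T : s.symm.T = s.T := s.range_gam
theorem symm_E : s.symm.E = s.F := s.map_gam gam_E
theorem symm_F : s.symm.F = s.E := s.map_gam gam_F
theorem symm_Z : s.symm.Z = s.Z := s.map_gam gam_Z
theorem symm_J : s.symm.J = s.J := s.map_gam gam_J
theorem symm_z : s.symm.z = s.z := congrArg s.ι (gam_w 1)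
theorem symm_P : s.symm.P = s.P := by rw [P, symm_T, P, sup_right_comm]; rfl
theorem symm_NE : s.symm.NE = s.NF := by rw [NE, symm_P]; rfl
theorem symm_NF : s.symm.NF = s.NE := by rw [NF, symm_P]; rfl
theorem symm_symm_DE {t : G} (h : s.DE t) : s.symm.symm.DE t := by
  simpa only [DE, symm_ι, gam_gam] using h

end Lw

/-- The simple group itself. -/
structure Mod (A : Type u) [Group A] extends Lw A where
  top : L = ⊤
  a7 : εE = true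
  cen : ∀ g : A, (∀ a, a * g = g * a) → g = 1
  gen : toLw.NE ⊔ toLw.NF = ⊤
  out : Nat.card (Out A) = 1 ∨ (Nat.card (Out A) = 2 ∧ ∃ α : A ≃* A, (∀ g, α (α g) = g) ∧
    ∃ a, ∀ p ∈ E0, ∃ q ∈ F0, α (ι p) = a * ι q * a⁻¹)

/-- The standard subgroup. -/
structure Bas (G : Type u) [Group G] extends Lw G where
  std : IsStandardSubgroup L
  gen : L ≤ toLw.NE ⊔ toLw.NF
  outE : ∀ g ∈ 𝐍[L], g ∈ 𝐍[toLw.E] → g ∈ L ⊔ 𝐂[L]
  outF : ∀ g ∈ 𝐍[L], g ∈ 𝐍[toLw.F] → g ∈ L ⊔ 𝐂[L]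
  idx : ∀ g ∈ 𝐍[L], ∀ g' ∈ 𝐍[L], g ∈ L ⊔ 𝐂[L] ∨ g' ∈ L ⊔ 𝐂[L] ∨ g * g' ∈ L ⊔ 𝐂[L]
  inv : ∀ g ∈ 𝐍[L], g ∉ L ⊔ 𝐂[L] → ∃ l ∈ L, g * l * (g * l) ∈ 𝐂[L]

namespace Bas

variable {G : Type u} [Group G] (b : Bas G)

/-- Interchange `E` and `F`. -/
def symm : Bas G where
  toLw := b.toLw.symm
  std := b.std
  gen := by rw [Lw.symm_NE, Lw.symm_NF, sup_comm]; exact b.gen
  outE := b.toLw.symm_E ▸ b.outF
  outF := b.toLw.symm_F ▸ b.outE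
  idx := b.idx
  inv := b.inv

/-- Commuting involutions `t` of `C(L)` and `z k` of another conjugate of `C(L)`. -/
structure Pair (g t k : G) : Prop where
  nn : g ∉ 𝐍[b.L]
  tt : t * t = 1
  t1 : t ≠ 1
  tK : t ∈ 𝐂[b.L]
  kk : k * k = 1
  kK : k ∈ 𝐂[b.L]
  kt : k * t = t * k
  mem : b.z * k ∈ cj(g, 𝐂[b.L])

/-- `⟨t⟩` is a Sylow 2-subgroup of `C(L)`, and `t` is conjugate to `z t` but not to `z`. -/
structure Two (t : G) : Prop where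
  tt : t * t = 1
  t1 : t ≠ 1
  tK : t ∈ 𝐂[b.L]
  two : ∀ k ∈ 𝐂[b.L], k * t = t * k → ∀ n, k ^ 2 ^ n = 1 → k = 1 ∨ k = t
  fus : ∃ g, g * t * g⁻¹ = b.z * t
  nz : ∀ g, g * t * g⁻¹ ≠ b.z

theorem Two.symm {b : Bas G} {t : G} (h : b.Two t) : b.symm.Two t :=
  ⟨h.tt, h.t1, h.tK, h.two, b.toLw.symm_z ▸ h.fus, b.toLw.symm_z ▸ h.nz⟩

end Bas

/-- The configuration after factoring out the odd part of `C(t) ⊓ C(L)`. -/
structure Co (K : Type u) [Group K] extends Lw K where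
  t : K
  tt : t * t = 1
  tK : t ∈ 𝐂[L]
  tL : t ∉ L
  zL : ∀ g ∈ L, g ∈ 𝐂[L] → g = 1
  nE : ∀ g, g * t = t * g → g ∈ 𝐍[toLw.E] → g ∈ L ∨ g * t ∈ L
  nF : ∀ g, g * t = t * g → g ∈ 𝐍[toLw.F] → g ∈ L ∨ g * t ∈ L
  dE : toLw.DE t
  dF : toLw.symm.DE t

namespace Co

variable {K : Type u} [Group K] (c : Co K)

/-- Interchange `E` and `F`. -/
def symm : Co K where
  toLw := c.toLw.symm
  t := c.t
  tt := c.tt
  tK := c.tK
  tL := c.tL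
  zL := c.zL
  nE := c.toLw.symm_E ▸ c.nF
  nF := c.toLw.symm_F ▸ c.nE
  dE := c.dF
  dF := c.toLw.symm_symm_DE c.dE

/-- The double `D = 2^8` of `E`. -/
structure Db (D : Subgroup K) : Prop where
  dbl : Dbl c.t c.E D
  mem : ∀ d, (∀ e ∈ c.E, d * e = e * d) → ph c.t d ∈ c.E → d * d = 1 → (ph c.t d = 1 → d ∈ c.E) → d ∈ D
  fpf : ∀ d ∈ D, d * (c.r2 * d * c.r2⁻¹) * (c.r2⁻¹ * d * c.r2) = 1

/-- The doubles of `E` and `F` and their commutators. -/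
structure DW (D W : Subgroup K) : Prop where
  hD : c.Db D
  hW : c.symm.Db W
  cm : ∀ d ∈ D, ∀ v ∈ W, v * d * v * d ∈ D ⊓ W
  on0 : ∀ p ∈ Z0, ∃ d ∈ D ⊓ W, ph c.t d = c.ι p
  phZ : ∀ d ∈ D ⊓ W, ph c.t d ∈ c.Z
  r12 : ∀ d ∈ D ⊓ W, c.r1 * d * c.r1⁻¹ = c.r2 * d * c.r2⁻¹

/-- A `P`-invariant complement `U` to `E` in `D`, and an element `g` of `W` over `y 1`. -/
structure Sec (D W U : Subgroup K) (g : K) : Prop where
  le : U ≤ D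
  inj : ∀ u ∈ U, ph c.t u = 1 → u = 1
  onto : ∀ e ∈ c.E, ∃ u ∈ U, ph c.t u = e
  nP : ∀ p ∈ c.P, ∀ u ∈ U, p * u * p⁻¹ ∈ U
  gW : g ∈ W
  phg : ph c.t g = c.ι (y 1)

/-- `[y 1, u]`. -/
def eta (u : K) : K := c.ι (y 1) * u * c.ι (y 1) * u

/-- `g` acts as `y 1` on `U` and trivially on `t U t`. -/
def Split (U : Subgroup K) (g : K) : Prop :=
  ∀ u ∈ U, g * u * g⁻¹ = u * c.eta u ∧ g * (c.t * u * c.t) * g⁻¹ = c.t * u * c.t

/-- `g` acts on `D = U × t U t` through the field with four elements. -/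
def Four (U : Subgroup K) (g : K) : Prop :=
  ∀ u ∈ U, g * u * g⁻¹ = u * (c.t * c.eta u * c.t) ∧
    g * (c.t * u * c.t) * g⁻¹ = c.t * u * c.t * c.eta u * (c.t * c.eta u * c.t)

end Co

/-- The configuration of the final fusion argument. `I` is the subgroup of `C(t)` inducing inner automorphisms. -/
structure En (G : Type u) [Group G] extends Lw G where
  a7 : εE = true
  t : G
  (X I : Subgroup G)
  θ : T0 →* G
  nX : X.Normal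
  sX : IsSimpleGroup X
  LX : L ≤ X
  wre : toLw.Wre t X θ
  tt : t * t = 1
  tK : t ∈ 𝐂[L]
  tL : t ∉ L
  tI : t ∈ I
  LI : L ≤ I
  idx : ∀ g g', g * t = t * g → g' * t = t * g' → g ∈ I ∨ g' ∈ I ∨ g * g' ∈ I
  two : ∀ g ∈ I, g * t = t * g → ∀ n, g ^ 2 ^ n = 1 → g ∈ L ∨ g * t ∈ L
  nE : ∀ g, g * t = t * g → g ∈ 𝐍[toLw.E] → g ∈ I
  fus : ∃ g, g * t * g⁻¹ = toLw.z * t
  inv : t ∉ X → ∀ g ∈ X, g * t = t * g → g ∉ I → ∃ σ ∈ X, σ * t = t * σ ∧ σ * σ = 1 ∧ σ ∉ I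

end Cfsg.Agent.Std.W
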