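import Mathlib
import Cfsg.Agent.Std.WDefs
import Cfsg.Agent.Inv.FzBasic

/-!
# A standard subgroup of type `M₂₃` or `McL`: elementary facts on `L`
-/

set_option autoImplicit false
set_option linter.unusedSectionVars false

namespace Cfsg.Agent.Std.W

open Cfsg.Agent.Loc.Mss Cfsg.Agent.Wr Subgroup

universe u

variable {G : Type u} [Group G]

theorem syl_iff [Finite G] {T L : Subgroup G} : Syl 2 T L ↔ Inv.Fz.IsSylIn 2 T L :=
  ⟨fun h => ⟨h.le, h.pg, fun _ h1 h2 h3 => h.eq_of_le h1 h3 h2⟩, fun h => ⟨h.1, h.2.1, h.not_dvd_relIndex⟩⟩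

/-- An element normalising the image of an embedding induces an automorphism. -/
theorem exists_aut {A : Type*} [Group A] {θ θ' : A →* G} (h : Function.Injective θ) (h' : Function.Injective θ')
    {g : G} (e : cj(g, θ.range) = θ'.range) : ∃ f : A ≃* A, ∀ p, g * θ p * g⁻¹ = θ' (f p) :=
  ⟨(MonoidHom.ofInjective h).trans <| ((MulAut.conj g).subgroupMap θ.range).trans <|
    (MulEquiv.subgroupCongr e).trans (MonoidHom.ofInjective h').symm, fun p =>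
      (MonoidHom.apply_ofInjective_symm h' ⟨_, e ▸ conj_mem_cj ⟨p, rfl⟩⟩).symm⟩

/-- A subgroup of index at most two. -/
theorem card_le_two_mul [Finite G] {A H : Subgroup G} (h : ∀ a ∈ A, ∀ b ∈ A, a ∈ H ∨ b ∈ H ∨ a * b ∈ H) :
    Nat.card A ≤ 2 * Nat.card (A ⊓ H : Subgroup G) := by
  by_cases h1 : A ≤ H
  · rw [inf_eq_left.2 h1]; omega
  obtain ⟨a, ha, a1⟩ := SetLike.not_le_iff_exists.1 h1
  have h2 : H.relIndex A = 2 := relIndex_eq_two_iff.2 ⟨a, ha, fun b hb => by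
    by_cases e : b ∈ H
    · exact .inr ⟨e, fun e' => a1 ((mul_mem_cancel_left e).1 e')⟩
    · exact .inl ⟨((h b hb a ha).resolve_left e).resolve_left a1, e⟩⟩
  have h3 := (H.subgroupOf A).index_mul_card
  rw [← inf_subgroupOf_left, ← relIndex, inf_relIndex_left, h2,
    Nat.card_congr (subgroupOfEquivOfLe inf_le_left).toEquiv] at h3
  exact h3.ge

theorem two_elt {A : Subgroup G} (h : IsPGroup 2 A) {g : G} (hg : g ∈ A) : ∃ n, g ^ 2 ^ n = 1 := pg_iff.1 h g hg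

namespace Lw

variable (s : Lw G)

theorem ιT (p : T0) : s.ι p ∈ s.T := ⟨p, rfl⟩
theorem T_le : s.T ≤ s.L := s.syl.le
theorem ιL (p : T0) : s.ι p ∈ s.L := s.T_le (s.ιT p)
theorem sylT : Syl 2 s.T s.L := s.syl
theorem pgT : IsPGroup 2 s.T := s.syl.pg
theorem ι_eq {p q : T0} : s.ι p = s.ι q ↔ p = q := s.inj.eq_iff
theorem ι_eq_one {p : T0} : s.ι p = 1 ↔ p = 1 := map_eq_one_iff _ s.inj
theorem ι_mem {A : Subgroup T0} {p : T0} : s.ι p ∈ A.map s.ι ↔ p ∈ A := mem_map_iff_mem s.inj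
theorem ι_E {p : T0} : s.ι p ∈ s.E ↔ p ∈ E0 := s.ι_mem
theorem ι_F {p : T0} : s.ι p ∈ s.F ↔ p ∈ F0 := s.ι_mem
theorem ι_Z {p : T0} : s.ι p ∈ s.Z ↔ p ∈ Z0 := s.ι_mem
theorem ι_J {p : T0} : s.ι p ∈ s.J ↔ p ∈ J0 := s.ι_mem
theorem mem_T {g : G} : g ∈ s.T ↔ ∃ p, s.ι p = g := Iff.rfl
theorem mem_E {g : G} : g ∈ s.E ↔ ∃ p ∈ E0, s.ι p = g := Iff.rfl
theorem mem_F {g : G} : g ∈ s.F ↔ ∃ p ∈ F0, s.ι p = g := Iff.rfl
theorem mem_Z {g : G} : g ∈ s.Z ↔ ∃ p ∈ Z0, s.ι p = g := Iff.rfl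
theorem mem_J {g : G} : g ∈ s.J ↔ ∃ p ∈ J0, s.ι p = g := Iff.rfl
theorem card_map (A : Subgroup T0) : Nat.card (A.map s.ι) = Nat.card A := card_map_of_injective s.inj
theorem card_T : Nat.card s.T = 128 := (Nat.card_congr (MonoidHom.ofInjective s.inj).toEquiv).symm.trans T0.card_eq
theorem card_E : Nat.card s.E = 16 := (s.card_map _).trans card_E0
theorem card_F : Nat.card s.F = 16 := (s.card_map _).trans card_F0
theorem card_Z : Nat.card s.Z = 4 := (s.card_map _).trans card_Z0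
theorem card_J : Nat.card s.J = 64 := (s.card_map _).trans card_J0
theorem E_le_T : s.E ≤ s.T := map_le_range _ _
theorem F_le_T : s.F ≤ s.T := map_le_range _ _
theorem J_le_T : s.J ≤ s.T := map_le_range _ _
theorem E_le_J : s.E ≤ s.J := map_mono E0_le
theorem F_le_J : s.F ≤ s.J := map_mono F0_le
theorem Z_le_E : s.Z ≤ s.E := map_mono Z0_leE
theorem Z_le_F : s.Z ≤ s.F := map_mono Z0_leF
theorem E_inf_F : s.E ⊓ s.F = s.Z := (map_inf _ _ _ s.inj).symm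
theorem E_ne_F : s.E ≠ s.F := fun e => W.E_ne_F (map_injective s.inj e)
theorem E_ne_bot : s.E ≠ ⊥ := fun e => by simpa [e] using s.card_E
theorem z_Z : s.z ∈ s.Z := s.ι_Z.2 (w_mem 1)
theorem z_E : s.z ∈ s.E := s.Z_le_E s.z_Z
theorem z_F : s.z ∈ s.F := s.Z_le_F s.z_Z
theorem z_L : s.z ∈ s.L := s.ιL _
theorem z_ne : s.z ≠ 1 := mt s.ι_eq_one.1 W.z_ne
theorem z_sq : s.z * s.z = 1 := by rw [z, ← map_mul, W.z_sq, map_one]
theorem z_comm (p : T0) : s.z * s.ι p = s.ι p * s.z := by rw [z, ← map_mul, comm_z, map_mul]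
theorem sq_E {g : G} (h : g ∈ s.E) : g * g = 1 := by
  obtain ⟨p, hp, rfl⟩ := h
  rw [← map_mul, W.sq_E p hp, map_one]
theorem comm_E {g g' : G} (h : g ∈ s.E) (h' : g' ∈ s.E) : g * g' = g' * g := by
  obtain ⟨p, hp, rfl⟩ := h
  obtain ⟨q, hq, rfl⟩ := h'
  rw [← map_mul, W.comm_E p hp q hq, map_mul]
theorem sq_F {g : G} (h : g ∈ s.F) : g * g = 1 := s.symm.sq_E (s.symm_E ▸ h)
theorem comm_F {g g' : G} (h : g ∈ s.F) (h' : g' ∈ s.F) : g * g' = g' * g :=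
  s.symm.comm_E (s.symm_E ▸ h) (s.symm_E ▸ h')
theorem ι_conj (p q : T0) : s.ι p * s.ι q * (s.ι p)⁻¹ = s.ι (p * q * p⁻¹) := by simp

theorem T_le_P : s.T ≤ s.P := le_sup_left.trans le_sup_left
theorem ιP (p : T0) : s.ι p ∈ s.P := s.T_le_P (s.ιT p)
theorem r1P : s.r1 ∈ s.P := mem_sup_left (mem_sup_right (mem_zpowers _))
theorem r2P : s.r2 ∈ s.P := mem_sup_right (mem_zpowers _)
theorem P_le_NE : s.P ≤ s.NE := le_sup_left
theorem P_le_NF : s.P ≤ s.NF := le_sup_left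
theorem hE_mem : s.hE ∈ s.NE := mem_sup_right (mem_zpowers _)
theorem hF_mem : s.hF ∈ s.NF := mem_sup_right (mem_zpowers _)
theorem P_le {S : Subgroup G} (h : ∀ p, s.ι p ∈ S) (h1 : s.r1 ∈ S) (h2 : s.r2 ∈ S) : s.P ≤ S :=
  sup_le (sup_le (by rintro _ ⟨p, rfl⟩; exact h p) (zpowers_le.2 h1)) (zpowers_le.2 h2)
theorem NE_le {S : Subgroup G} (h : s.P ≤ S) (h1 : s.hE ∈ S) : s.NE ≤ S := sup_le h (zpowers_le.2 h1)
theorem NF_le {S : Subgroup G} (h : s.P ≤ S) (h1 : s.hF ∈ S) : s.NF ≤ S := sup_le h (zpowers_le.2 h1)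
theorem P_le_L : s.P ≤ s.L := s.P_le s.ιL s.r1L s.r2L
theorem NE_le_L : s.NE ≤ s.L := s.NE_le s.P_le_L s.hEL
theorem NF_le_L : s.NF ≤ s.L := s.NF_le s.P_le_L s.hFL
theorem T_le_of {S : Subgroup G} (h1 : s.ι (x om) ∈ S) (h2 : s.ι (y om) ∈ S) (h3 : s.ι fi ∈ S) (p : T0) : s.ι p ∈ S :=
  (eq_top_of (S := S.comap s.ι) h1 h2 h3 ▸ mem_top p : p ∈ S.comap s.ι)

/-- Two elements of 2-power order of `L` that agree modulo `C(L)` are equal. -/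
theorem two_eq {g h : G} (hg : g ∈ s.L) (hh : h ∈ s.L) {n m : ℕ} (g2 : g ^ 2 ^ n = 1) (h2 : h ^ 2 ^ m = 1)
    (e : g⁻¹ * h ∈ 𝐂[s.L]) : g = h := by
  have c : Commute g (g⁻¹ * h) := mem_cent.1 e g hg
  have h1 : (g⁻¹ * h) ^ 2 ^ (n + m) = 1 := by
    have := c.mul_pow (2 ^ (n + m))
    rwa [mul_inv_cancel_left, pow_add, pow_mul g, g2, one_pow, one_mul, mul_comm, pow_mul h, h2, one_pow, mul_comm,
      ← pow_add, eq_comm] at this
  have h3 := (s.zodd _ (mul_mem (inv_mem hg) hh) e).coprime_two_right.pow_right (n + m)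
  exact inv_mul_eq_one.1 (orderOf_eq_one_iff.1 (h3.eq_one_of_dvd (orderOf_dvd_of_pow_eq_one h1)))

theorem two_one {g : G} (hg : g ∈ s.L) {n : ℕ} (g2 : g ^ 2 ^ n = 1) (e : g ∈ 𝐂[s.L]) : g = 1 :=
  (s.two_eq (one_mem _) hg (n := 0) (one_pow _) g2 (by simpa using e)).symm

/-- An element of 2-power order of `L` that acts on `E` like `ι q` lies in `ι q * E`. -/
theorem two_cE {g : G} (hg : g ∈ s.L) {n : ℕ} (g2 : g ^ 2 ^ n = 1) (q : T0)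
    (h : ∀ p ∈ E0, g * s.ι p * g⁻¹ = s.ι (q * p * q⁻¹)) : ∃ p ∈ E0, g = s.ι (q * p) := by
  obtain ⟨p, hp, e⟩ := s.cE ((s.ι q)⁻¹ * g) (mul_mem (inv_mem (s.ιL q)) hg) fun p hp => by
    calc _ = (s.ι q)⁻¹ * (g * s.ι p * g⁻¹) * g := by group
      _ = _ := by rw [h p hp]; simp [mul_assoc]
  obtain ⟨m, hm⟩ := two_elt s.pgT (s.ιT (q * p⁻¹))
  refine ⟨p⁻¹, inv_mem hp, (s.two_eq (s.ιL _) hg hm g2 ?_).symm⟩
  have := conj_mem_of_norm (norm_cent (le_normalizer (H := s.L)) (s.ιL p)) e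
  simpa [mul_assoc] using this

/-- The letters. -/
def ltr : ℕ → G
  | 0 => s.ι (y 1)
  | 1 => s.ι (y om)
  | 2 => s.ι fi
  | 3 => s.r1
  | 4 => s.r2
  | _ => s.hE

/-- The value of a word. -/
def wd (l : List ℕ) : G := (l.map s.ltr).prod

theorem wd_nil : s.wd [] = 1 := rfl
theorem wd_cons (a : ℕ) (l : List ℕ) : s.wd (a :: l) = s.ltr a * s.wd l := List.prod_cons
theorem wd_append (l l' : List ℕ) : s.wd (l ++ l') = s.wd l * s.wd l' := by simp [wd]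

theorem wd_mem (l : List ℕ) : s.wd l ∈ s.NE := by
  induction l with
  | nil => exact one_mem _
  | cons a l ih =>
    refine s.wd_cons a l ▸ mul_mem ?_ ih
    match a with
    | 0 | 1 | 2 => exact s.P_le_NE (s.ιP _)
    | 3 => exact s.P_le_NE s.r1P
    | 4 => exact s.P_le_NE s.r2P
    | _ + 5 => exact s.hE_mem

theorem wd_act (l : List ℕ) {p : T0} (hp : p ∈ E0) : s.wd l * s.ι p * (s.wd l)⁻¹ = s.ι (ev s.εE l p) := by
  induction l with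
  | nil => exact (mul_inv_eq_iff_eq_mul.2 ((one_mul _).trans (mul_one _).symm) : 1 * s.ι p * 1⁻¹ = s.ι p)
  | cons a l ih =>
    have h := ev_mem s.εE l hp
    calc _ = s.ltr a * (s.wd l * s.ι p * (s.wd l)⁻¹) * (s.ltr a)⁻¹ := by rw [wd_cons]; group
      _ = _ := by
        rw [ih]
        match a with
        | 0 | 1 | 2 => exact s.ι_conj _ _
        | 3 => exact s.act1 _ (E0_le h)
        | 4 => exact s.act2 _ (E0_le h)
        | _ + 5 => exact s.actE _ h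

/-- Two words with the same action on `E`. -/
theorem wd_cent {l l' : List ℕ} (h : ∀ p ∈ E0, ev s.εE l p = ev s.εE l' p) :
    ∀ p ∈ E0, (s.wd l')⁻¹ * s.wd l * s.ι p = s.ι p * ((s.wd l')⁻¹ * s.wd l) := fun p hp => by
  calc _ = (s.wd l')⁻¹ * (s.wd l * s.ι p * (s.wd l)⁻¹) * s.wd l := by group
    _ = _ := by rw [s.wd_act l hp, h p hp, ← s.wd_act l' hp]; group

theorem transE {p : T0} (hp : p ∈ E0) (h1 : p ≠ 1) : ∃ n ∈ s.NE, n * s.ι p * n⁻¹ = s.z := by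
  obtain ⟨l, -, e⟩ := ev_trans s.εE p hp h1
  exact ⟨_, s.wd_mem l, by rw [s.wd_act l hp, e, z]⟩

theorem transF {p : T0} (hp : p ∈ F0) (h1 : p ≠ 1) : ∃ n ∈ s.NF, n * s.ι p * n⁻¹ = s.z := by
  simpa only [symm_NE, symm_z, symm_ι, gam_gam] using
    s.symm.transE ((gam_E p).2 hp) fun e => h1 (gam_inj (e.trans (map_one _).symm))

/-- With `A₇` acting on `E`, the element `ι fi` is conjugate into `ι (y 1) * E`. -/
theorem conj_fi (h : s.εE = true) : ∃ n ∈ s.NE, ∃ p ∈ E0, n * s.ι fi * n⁻¹ = s.ι (y 1 * p) := by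
  have hn := s.wd_mem [3, 3, 5, 1, 3, 5]
  refine ⟨_, inv_mem hn, s.two_cE (n := 1) (s.NE_le_L (mul_mem (mul_mem (inv_mem hn) (s.P_le_NE (s.ιP _)))
    (inv_mem (inv_mem hn)))) (by rw [conj_pow, ← map_pow, pow_one, sq, fi_sq]; simp) _ fun p hp => ?_⟩
  have := s.wd_cent (l := [3, 3, 5, 1, 3, 5] ++ [0]) (l' := 2 :: [3, 3, 5, 1, 3, 5]) (h ▸ ev_n1) p hp
  rw [wd_append, wd_cons _ 2] at this
  simp only [wd_cons _ 0, wd_nil, mul_one, ltr] at this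
  generalize s.wd [3, 3, 5, 1, 3, 5] = n at this
  calc _ = n⁻¹ * s.ι fi * n * (s.ι p * ((s.ι fi * n)⁻¹ * (n * s.ι (y 1)))) * (s.ι (y 1))⁻¹ := by group
    _ = _ := by rw [← this, ← s.ι_conj]; group

/-- All involutions of `T` are conjugate in `L`. -/
theorem conj_T (h : s.εE = true) {p : T0} (h2 : p * p = 1) (h1 : p ≠ 1) : ∃ l ∈ s.L, l * s.ι p * l⁻¹ = s.z := by
  have k : ∀ p ∈ J0, p * p = 1 → p ≠ 1 → ∃ l ∈ s.L, l * s.ι p * l⁻¹ = s.z := fun p hp h2 h1 =>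
    (invol_J p hp h2).elim (fun e => (s.transE e h1).imp fun _ h => ⟨s.NE_le_L h.1, h.2⟩)
      fun e => (s.transF e h1).imp fun _ h => ⟨s.NF_le_L h.1, h.2⟩
  by_cases hp : p ∈ J0
  · exact k p hp h2 h1
  obtain ⟨j, -, e⟩ := W.conj_fi p hp h2
  obtain ⟨n, hn, q, hq, e1⟩ := s.conj_fi h
  obtain ⟨l, hl, e2⟩ := k (y 1 * q) (mul_mem (F0_le (y_mem 1)) (E0_le hq)) (s.ι_eq_one.1 (by
    rw [map_mul, ← e1, conj_mul, ← map_mul, fi_sq]; simp)) fun e3 => by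
      rw [e3, map_one, mul_inv_eq_one, mul_eq_left, ι_eq_one] at e1
      exact fi_notMem (e1 ▸ one_mem _)
  refine ⟨l * n * s.ι j, mul_mem (mul_mem hl (s.NE_le_L hn)) (s.ιL j), ?_⟩
  rw [← e2, ← e1, ← e, ← s.ι_conj]
  group

variable [Finite G]

/-- All involutions of `L` are conjugate. -/
theorem conj_L (h : s.εE = true) {g : G} (hg : g ∈ s.L) (h2 : g * g = 1) (h1 : g ≠ 1) :
    ∃ l ∈ s.L, l * g * l⁻¹ = s.z := by
  obtain ⟨m, hm, e⟩ := s.syl.conj_le (P := zpowers g) (IsPGroup.of_card_dvd_pow (n := 1) (by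
    rw [Nat.card_zpowers]; exact orderOf_dvd_of_pow_eq_one (by rw [pow_one, sq, h2]))) (zpowers_le.2 hg)
  obtain ⟨p, e1⟩ := e (conj_mem_cj (mem_zpowers g))
  obtain ⟨l, hl, e2⟩ := s.conj_T h (p := p) (s.ι_eq_one.1 (by rw [map_mul, e1, conj_mul, h2]; simp)) fun e3 => h1 (by
    rwa [e3, map_one, eq_comm, mul_inv_eq_one, mul_eq_left] at e1)
  exact ⟨l * m, mul_mem hl hm, by rw [← e2, e1]; group⟩

theorem norm_of {A : Subgroup T0} {g : G} (h : ∀ p ∈ A, ∃ q ∈ A, g * s.ι p * g⁻¹ = s.ι q) : g ∈ 𝐍[A.map s.ι] :=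
  mem_norm_of_cj_le (cj_le_iff.2 (by
    rintro _ ⟨p, hp, rfl⟩
    obtain ⟨q, hq, e⟩ := h p hp
    exact ⟨q, hq, e.symm⟩))

theorem P_norm {A : Subgroup T0} [A.Normal] (hA : A ≤ J0) (h1 : ∀ p ∈ A, rho 1 om p ∈ A)
    (h2 : ∀ p ∈ A, rho om 1 p ∈ A) : s.P ≤ 𝐍[A.map s.ι] :=
  s.P_le (fun q => s.norm_of fun p hp => ⟨_, Normal.conj_mem inferInstance p hp q, s.ι_conj q p⟩)
    (s.norm_of fun p hp => ⟨_, h1 p hp, s.act1 p (hA hp)⟩) (s.norm_of fun p hp => ⟨_, h2 p hp, s.act2 p (hA hp)⟩)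

theorem P_norm_E : s.P ≤ 𝐍[s.E] := s.P_norm E0_le rho1_E rho2_E
theorem P_norm_F : s.P ≤ 𝐍[s.F] := s.P_norm F0_le rho1_F rho2_F
theorem P_norm_J : s.P ≤ 𝐍[s.J] := s.P_norm le_rfl rho1_J rho2_J
theorem P_norm_Z : s.P ≤ 𝐍[s.Z] := s.E_inf_F ▸ norm_inf s.P_norm_E s.P_norm_F
theorem NE_norm : s.NE ≤ 𝐍[s.E] := s.NE_le s.P_norm_E (s.norm_of fun p hp => ⟨_, aE_E _ p hp, s.actE p hp⟩)
theorem NF_norm : s.NF ≤ 𝐍[s.F] := s.NF_le s.P_norm_F (s.norm_of fun p hp => ⟨_, aF_F _ p hp, s.actF p hp⟩)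

theorem odd_index {N : Subgroup G} (h1 : s.P ≤ N) (h2 : N ≤ s.L) : Odd (s.P.relIndex N) :=
  Nat.not_even_iff_odd.1 fun e => (s.sylT.mono (s.T_le_P.trans h1) h2).nd
    (e.two_dvd.trans (relIndex_dvd_of_le_left N s.T_le_P))

theorem pull {A : Subgroup G} (hA : A ≤ s.T) : (A.comap s.ι).map s.ι = A := map_comap_eq_self hA

theorem pull_sq {A : Subgroup G} (h : ∀ g ∈ A, g * g = 1) : ∀ p ∈ A.comap s.ι, p * p = 1 := fun p hp =>
  s.ι_eq_one.1 (by rw [map_mul, h _ hp])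

/-- The elementary abelian subgroups of order at least 16 of `T`. -/
theorem el16 {A : Subgroup G} (hA : A ≤ s.T) (h : ∀ g ∈ A, g * g = 1) (hc : 16 ≤ Nat.card A) : A = s.E ∨ A = s.F := by
  rw [← s.pull hA, card_map] at hc
  exact (W.el16 (s.pull_sq h) hc).imp (fun e => by rw [← s.pull hA, e, E]) fun e => by rw [← s.pull hA, e, F]

theorem card_le_sixteen {A : Subgroup G} (hA : A ≤ s.T) (h : ∀ g ∈ A, g * g = 1) : Nat.card A ≤ 16 := by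
  rw [← s.pull hA, card_map]
  exact W.card_le_sixteen (s.pull_sq h)

theorem card_le_four {A : Subgroup G} (hA : A ≤ s.T) (h : ∀ g ∈ A, g * g = 1) (hZ : A ⊓ s.J ≤ s.Z) :
    Nat.card A ≤ 4 := by
  rw [← s.pull hA, card_map]
  exact W.card_le_four (s.pull_sq h) fun p hp hJ => s.ι_Z.1 (hZ ⟨hp, s.ι_J.2 hJ⟩)

theorem aut_T {g : G} (hg : g ∈ 𝐍[s.T]) : ∃ f : T0 ≃* T0, ∀ p, g * s.ι p * g⁻¹ = s.ι (f p) :=
  exists_aut s.inj s.inj (cj_of_norm hg)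

/-- An element normalising `T` normalises or interchanges `E` and `F`. -/
theorem norm_T_cases {g : G} (hg : g ∈ 𝐍[s.T]) :
    (g ∈ 𝐍[s.E] ∧ g ∈ 𝐍[s.F]) ∨ (cj(g, s.E) = s.F ∧ cj(g, s.F) = s.E) := by
  obtain ⟨f, hf⟩ := s.aut_T hg
  obtain ⟨α, hα⟩ := aut_cases f
  have k : ∀ ε, cj(g, (V ε).map s.ι) = (V (xor ε α)).map s.ι := fun ε =>
    eq_of_le_of_card_ge (cj_le_iff.2 (by
      rintro _ ⟨p, hp, rfl⟩
      exact ⟨_, (hα ε p).2 hp, (hf p).symm⟩)) (by rw [card_cj, card_map, card_map, card_V, card_V])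
  cases α
  · exact .inl ⟨cj_eq_iff.1 (k true), cj_eq_iff.1 (k false)⟩
  · exact .inr ⟨k true, k false⟩

/-- Every `P`-endomorphism of `E` is trivial or the identity (hypothesis of `Wr.Dbl.avg`). -/
theorem endo_E (ε : G → G) (h0 : ∀ v ∈ s.E, ε v ∈ s.E) (h1 : ∀ a ∈ s.E, ∀ b ∈ s.E, ε (a * b) = ε a * ε b)
    (h2 : ∀ p ∈ s.P, ∀ v ∈ s.E, ε (p * v * p⁻¹) = p * ε v * p⁻¹) : (∀ v ∈ s.E, ε v = 1) ∨ ∀ v ∈ s.E, ε v = v := by
  have hx := s.ι_E.2 (x_mem 1)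
  obtain ⟨a, ha, ea⟩ := h0 _ hx
  have e1 := h2 _ s.r1P _ hx
  have e2 := h2 _ (s.ιP fi) _ hx
  rw [s.act1 _ (E0_le (x_mem 1)), (by decide +kernel : rho 1 om (x 1) = x 1), ← ea, s.act1 _ (E0_le ha), ι_eq] at e1
  rw [ι_conj, (by decide +kernel : fi * x 1 * fi⁻¹ = x 1), ← ea, ι_conj, ι_eq] at e2
  have one : ε 1 = 1 := by simpa using h1 1 (one_mem _) 1 (one_mem _)
  have key : ∀ φ : T0 →* T0, (∀ p ∈ E0, rho om 1 (φ p) = φ (rho om 1 p)) →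
      (∀ q p, q * φ p * q⁻¹ = φ (q * p * q⁻¹)) → a = φ (x 1) → ∀ p ∈ E0, ε (s.ι p) = s.ι (φ p) := fun φ k1 k2 k3 => by
    have m : ∀ p ∈ E0, ∀ q ∈ E0, ε (s.ι p) = s.ι (φ p) → ε (s.ι q) = s.ι (φ q) →
        ε (s.ι (p * q)) = s.ι (φ (p * q)) := fun p hp q hq a b => by
      rw [map_mul, h1 _ (s.ι_E.2 hp) _ (s.ι_E.2 hq), a, b, map_mul, map_mul]
    have r : ∀ p ∈ E0, φ p ∈ J0 → ε (s.ι p) = s.ι (φ p) → ε (s.ι (rho om 1 p)) = s.ι (φ (rho om 1 p)) :=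
      fun p hp hp' a => by rw [← s.act2 p (E0_le hp), h2 _ s.r2P _ (s.ι_E.2 hp), a, s.act2 _ hp', k1 p hp]
    have c : ∀ q, ∀ p ∈ E0, ε (s.ι p) = s.ι (φ p) → ε (s.ι (q * p * q⁻¹)) = s.ι (φ (q * p * q⁻¹)) :=
      fun q p hp a => by rw [← ι_conj, h2 _ (s.ιP q) _ (s.ι_E.2 hp), a, ι_conj, k2]
    have b1 : ε (s.ι (x 1)) = s.ι (φ (x 1)) := k3 ▸ ea.symm
    have b2 := r _ (x_mem 1) (k3 ▸ E0_le ha) b1
    have g : ∀ p ∈ E0, p = 1 ∨ (∃ q, p = q * x 1 * q⁻¹) ∨ (∃ q, p = q * rho om 1 (x 1) * q⁻¹) ∨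
        ∃ q, p = x 1 * (q * x 1 * q⁻¹) := by decide +kernel
    intro p hp
    rcases g p hp with rfl | ⟨q, rfl⟩ | ⟨q, rfl⟩ | ⟨q, rfl⟩
    · simpa using one
    · exact c q _ (x_mem 1) b1
    · exact c q _ (rho2_E _ (x_mem 1)) b2
    · exact m _ (x_mem 1) _ (Normal.conj_mem inferInstance _ (x_mem 1) q) b1 (c q _ (x_mem 1) b1)
  rcases (by decide +kernel : ∀ a ∈ E0, a = rho 1 om a → a = fi * a * fi⁻¹ → a = 1 ∨ a = x 1) a ha e1 e2 with e | e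
  · exact .inl (by
      rintro _ ⟨p, hp, rfl⟩
      simpa using key 1 (fun _ _ => by simp only [MonoidHom.one_apply]; decide +kernel) (by simp) e p hp)
  · exact .inr (by
      rintro _ ⟨p, hp, rfl⟩
      exact key (MonoidHom.id _) (fun _ _ => rfl) (fun _ _ => rfl) e p hp)

end Lw

namespace Co

variable (c : Co G)

theorem ti : c.t⁻¹ = c.t := inv_eq_of_mul_eq_one_right c.tt
theorem tc {g : G} (h : g ∈ c.L) : g * c.t = c.t * g := mem_cent.1 c.tK g h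
theorem r1_cube : c.r1 ^ 3 = 1 := c.zL _ (pow_mem c.r1L 3) c.c1
theorem r2_cube : c.r2 ^ 3 = 1 := c.zL _ (pow_mem c.r2L 3) c.c2
theorem r12 : c.r1 * c.r2 = c.r2 * c.r1 := by
  have := c.zL _ (mul_mem (mul_mem (mul_mem c.r1L c.r2L) (inv_mem c.r1L)) (inv_mem c.r2L)) c.c12
  rwa [mul_inv_eq_one, mul_inv_eq_iff_eq_mul] at this
theorem fi_r1 : c.ι fi * c.r1 * c.ι fi = c.r1⁻¹ :=
  eq_inv_of_mul_eq_one_left (c.zL _ (mul_mem (mul_mem (mul_mem (c.ιL _) c.r1L) (c.ιL _)) c.r1L) c.f1)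
theorem fi_r2 : c.ι fi * c.r2 * c.ι fi = c.r2⁻¹ := c.symm.fi_r1

theorem cenE {g : G} (hg : g ∈ c.L) (h : ∀ p ∈ E0, g * c.ι p = c.ι p * g) : g ∈ c.E := by
  obtain ⟨p, hp, e⟩ := c.cE g hg h
  rw [eq_inv_of_mul_eq_one_left (c.zL _ (mul_mem hg (c.ιL p)) e)]
  exact inv_mem (c.ι_E.2 hp)

theorem Db.symm_symm {c : Co G} {D : Subgroup G} (h : c.Db D) : c.symm.symm.Db D :=
  have e : c.symm.symm.E = c.E := c.toLw.symm.symm_E.trans c.toLw.symm_F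
  ⟨e ▸ h.dbl, e ▸ h.mem, h.fpf⟩

theorem DW.symm {c : Co G} {D W : Subgroup G} (h : c.DW D W) : c.symm.DW W D where
  hD := h.hW
  hW := h.hD.symm_symm
  cm v hv d hd := by
    have := inv_mem (h.cm d hd v hv)
    rwa [inf_comm, mul_inv_rev, mul_inv_rev, mul_inv_rev, h.hD.dbl.inv hd, h.hW.dbl.inv hv, ← mul_assoc,
      ← mul_assoc] at this
  on0 p hp := inf_comm D W ▸ h.on0 _ ((gam_Z p).2 hp)
  phZ d hd := c.toLw.symm_Z ▸ h.phZ d (inf_comm W D ▸ hd)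
  r12 d hd := (h.r12 d (inf_comm W D ▸ hd)).symm

variable [Finite G]

/-- `C(t) ⊓ N(E)` normalises the double of `E`. -/
theorem Db.norm {c : Co G} {D : Subgroup G} (h : c.Db D) {n : G} (hn : n * c.t = c.t * n) (hE : n ∈ 𝐍[c.E]) :
    ∀ d ∈ D, n * d * n⁻¹ ∈ D := fun d hd => by
  refine h.mem _ (fun e he => ?_) (ph_conj hn d ▸ conj_mem_of_norm hE (h.dbl.mem d hd))
    (by rw [conj_mul, h.dbl.sq d hd]; simp) fun e => conj_mem_of_norm hE (h.dbl.ker hd ?_)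
  · have := h.dbl.comm d hd _ (h.dbl.le (conj_mem_of_norm' hE he))
    calc _ = n * (d * (n⁻¹ * e * n)) * n⁻¹ := by group
      _ = _ := by rw [this]; group
  · rwa [ph_conj hn, mul_inv_eq_one, mul_eq_left] at e

theorem Db.nNE {c : Co G} {D : Subgroup G} (h : c.Db D) : ∀ n ∈ c.NE, ∀ d ∈ D, n * d * n⁻¹ ∈ D := fun _ hn =>
  h.norm (c.tc (c.NE_le_L hn)) (c.NE_norm hn)

theorem DW.nW {c : Co G} {D W : Subgroup G} (h : c.DW D W) : W ≤ 𝐍[D] := fun v hv =>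
  mem_norm_of_cj_le (cj_le_iff.2 fun d hd => by
    rw [h.hW.dbl.inv hv]; exact (mul_mem_cancel_right hd).1 (h.cm d hd v hv).1)

/-- `NE` is the normal closure of `P`. -/
theorem gen_P {S : Subgroup G} (h : c.P ≤ S) (hn : c.NE ≤ 𝐍[S]) : c.NE ≤ S := by
  have k : ∀ (l : List ℕ) (a : ℕ), c.ltr a ∈ S → (∀ p ∈ E0, ev c.εE (l ++ [a]) p = ev c.εE (5 :: l) p) →
      c.hE ∈ S := fun l a ha e => by
    have h1 := c.cenE (c.NE_le_L (mul_mem (inv_mem (c.wd_mem _)) (c.wd_mem _))) (c.wd_cent e)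
    have h2 := conj_mem_of_norm (hn (c.wd_mem l)) (mul_mem (h (c.T_le_P (c.E_le_T h1))) (inv_mem ha))
    rw [Lw.wd_append, Lw.wd_cons _ 5, Lw.wd_cons _ a, Lw.wd_nil] at h2
    simpa [mul_assoc, Lw.ltr] using h2
  refine c.NE_le h ?_
  cases e : c.εE
  · exact k [0, 5] 0 (h (c.ιP _)) (e ▸ ev_u')
  · exact k [0, 5, 1] 2 (h (c.ιP _)) (e ▸ ev_u)

/-- With `A₇` acting on `E`, `NE` is the normal closure of `y 1`. -/
theorem gen_y (a7 : c.εE = true) {S : Subgroup G} (h : c.ι (y 1) ∈ S) (hn : c.NE ≤ 𝐍[S]) : c.NE ≤ S := by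
  have cj : ∀ {n g}, n ∈ c.NE → g ∈ S → n * g * n⁻¹ ∈ S := fun h1 h2 => conj_mem_of_norm (hn h1) h2
  have cm : ∀ {n g}, n ∈ c.NE → g ∈ S → g * n * g⁻¹ * n⁻¹ ∈ S := fun h1 h2 => by
    simpa [mul_assoc] using mul_mem h2 (cj h1 (inv_mem h2))
  have hz : c.z ∈ S := by
    have := cm (c.P_le_NE (c.ιP (x 1))) h
    rwa [← map_inv, ← map_inv, ← map_mul, ← map_mul, ← map_mul,
      (by decide +kernel : y 1 * x 1 * (y 1)⁻¹ * (x 1)⁻¹ = w 1)] at this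
  have hE : ∀ p ∈ E0, c.ι p ∈ S := fun p hp => by
    by_cases e : p = 1
    · rw [e, map_one]; exact one_mem _
    obtain ⟨n, hn, e⟩ := c.transE hp e
    have := cj (inv_mem hn) (e ▸ hz)
    simpa [mul_assoc] using this
  have hf : c.ι fi ∈ S := by
    obtain ⟨n, hn, p, hp, e⟩ := c.conj_fi a7
    have := cj (inv_mem hn) (e ▸ map_mul c.ι _ _ ▸ mul_mem h (hE p hp))
    simpa [mul_assoc] using this
  have hy : c.ι (y om) ∈ S := by
    have := cj (c.P_le_NE c.r1P) h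
    rwa [c.act1 _ (F0_le (y_mem 1)), (by decide +kernel : rho 1 om (y 1) = y om)] at this
  have hr : ∀ r ∈ c.P, r ^ 3 = 1 → c.ι fi * r * c.ι fi = r⁻¹ → r ∈ S := fun r hr h3 e => by
    have := cm (c.P_le_NE hr) hf
    rwa [← map_inv, inv_eq_of_mul_eq_one_right fi_sq, e, ← mul_inv_rev,
      inv_eq_of_mul_eq_one_right (b := r) (by rw [← h3, pow_three'])] at this
  exact c.gen_P (c.P_le (c.T_le_of (hE _ (x_mem _)) hy hf) (hr _ c.r1P c.r1_cube c.fi_r1)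
    (hr _ c.r2P c.r2_cube c.fi_r2)) hn

end Co

end Cfsg.Agent.Std.W
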