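import Mathlib
import Cfsg.Agent.Std.WAct
import Cfsg.Agent.Spor.Out.Gen
import Cfsg.Agent.Spor.Comp.Pres

/-!
# The structure `Mod` from permutation tables

Eleven letters: `x 1`, `x ω`, `y 1`, `y ω`, `w 1`, `w ω`, the field automorphism, `r1`, `r2`, `hE`, `hF`.
-/

set_option autoImplicit false

namespace Cfsg.Agent.Std.W.WM

open Cfsg.Agent.Loc.Mss Cfsg.Agent.Wr Cfsg.Agent.Spor Subgroup

/-- The word of a root element. -/
def kw (i : ℕ) (a : K4) : List ℕ :=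
  if a = 0 then [] else if a = 1 then [i] else if a = om then [i + 1] else [i, i + 1]

/-- The word of an element of `T0`. -/
def wT (p : T0) : List ℕ := kw 2 p.b ++ (kw 0 p.a ++ (kw 4 p.c ++ Bool.rec [] [6] p.e))

/-- The letters generating `E`. -/
def sE : ℕ → ℕ := getP 8 255 0x05040100

/-- The letters generating `F`. -/
def sF : ℕ → ℕ := getP 8 255 0x05040302

/-- Two words agree on the base. -/
def Ag (U : ℕ → ℕ → ℕ) (Bs v w : List ℕ) : Prop :=
  band (lettersLt 11 v) (band (lettersLt 11 w) (agreeL U v w Bs)) = true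

noncomputable instance (U : ℕ → ℕ → ℕ) (Bs v w : List ℕ) : Decidable (Ag U Bs v w) :=
  inferInstanceAs (Decidable (_ = true))

/-- The relations of `T0`. -/
def C1 (U : ℕ → ℕ → ℕ) (Bs : List ℕ) : Prop := ∀ a b : K4,
  (Ag U Bs (kw 0 a ++ kw 0 b) (kw 0 (a + b)) ∧ Ag U Bs (kw 2 a ++ kw 2 b) (kw 2 (a + b)) ∧
    Ag U Bs (kw 4 a ++ kw 4 b) (kw 4 (a + b))) ∧
  (Ag U Bs (kw 4 b ++ kw 0 a) (kw 0 a ++ kw 4 b) ∧ Ag U Bs (kw 4 b ++ kw 2 a) (kw 2 a ++ kw 4 b) ∧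
    Ag U Bs (kw 0 a ++ kw 2 b) (kw 2 b ++ kw 0 a ++ kw 4 (a * b))) ∧
  Ag U Bs ([6] ++ kw 0 a) (kw 0 (a * a) ++ [6]) ∧ Ag U Bs ([6] ++ kw 2 a) (kw 2 (a * a) ++ [6]) ∧
    Ag U Bs ([6] ++ kw 4 a) (kw 4 (a * a) ++ [6])

noncomputable instance (U : ℕ → ℕ → ℕ) (Bs : List ℕ) : Decidable (C1 U Bs) := by unfold C1; infer_instance

/-- The action of the other letters. -/
def C2 (U : ℕ → ℕ → ℕ) (Bs : List ℕ) (ε : Bool) : Prop := ∀ p : T0, (Ag U Bs (wT p) [] → p = 1) ∧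
  (p ∈ J0 → Ag U Bs ([7] ++ wT p) (wT (rho 1 om p) ++ [7]) ∧ Ag U Bs ([8] ++ wT p) (wT (rho om 1 p) ++ [8])) ∧
  (p ∈ E0 → Ag U Bs ([9] ++ wT p) (wT (aE true p) ++ [9])) ∧
  (p ∈ F0 → Ag U Bs ([10] ++ wT p) (wT (aF ε p) ++ [10]))

noncomputable instance (U : ℕ → ℕ → ℕ) (Bs : List ℕ) (ε : Bool) : Decidable (C2 U Bs ε) := by
  unfold C2; infer_instance

/-- The relations of the complement. -/
def C3 (U : ℕ → ℕ → ℕ) (Bs : List ℕ) : Prop := Ag U Bs [6, 6] [] ∧ Ag U Bs [7, 7, 7] [] ∧ Ag U Bs [8, 8, 8] [] ∧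
  Ag U Bs [7, 8] [8, 7] ∧ Ag U Bs [6, 7, 6, 7] [] ∧ Ag U Bs [6, 8, 6, 8] []

noncomputable instance (U : ℕ → ℕ → ℕ) (Bs : List ℕ) : Decidable (C3 U Bs) := by unfold C3; infer_instance

/-- The sixteen products of four letters. -/
def l16 : List (List ℕ) := [[], [0], [1], [0, 1], [2], [0, 2], [1, 2], [0, 1, 2], [3], [0, 3], [1, 3], [0, 1, 3],
  [2, 3], [0, 2, 3], [1, 2, 3], [0, 1, 2, 3]]

/-- Final test of the search for the centraliser of four letters. -/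
noncomputable def accC (T S : ℕ → ℕ → ℕ) (Bs : List ℕ) (v : List ℕ) : Bool :=
  bor (!allLt 4 fun j => agreeF (fun b => traceP T v (S j b)) (fun b => S j (traceP T v b)) Bs)
    (anyL l16 fun v' => agreeF (traceP T v) (traceP S v') Bs)

theorem lt_wT : ∀ p : T0, lettersLt 11 (wT p) = true := by decide +kernel

theorem dec_T : ∀ p : T0, p = y p.b * (x p.a * (w p.c * Bool.rec 1 fi p.e)) := by decide +kernel

variable {G α : Type} [Group G] [MulAction G α] {e : ℕ → α} {n : ℕ} {T S U : ℕ → ℕ → ℕ} {k g u : ℕ → G} {M c : ℕ}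
  {inv : ℕ → ℕ} {Bs : List ℕ}

theorem cent_le (h : OutModel e n T S k g M inv Bs c) {SA : ℕ → ℕ → ℕ} {A : ℕ → G} (hA : Tabs e n SA A 4)
    {l : Lv} {L : List Lv} {hw : List ℕ} (hL : ChainOK e n T k (l :: L) M)
    (hX : band (lettersLt M hw) (band l.free (srcOK T SA n 4 hw (l :: L) [])) = true)
    (hs : ∀ q < n, siftTop T SA inv n hw (accC T SA Bs) l L q = true) (a : G) (ha : ∀ j < 4, a * A j = A j * a) :
    a ∈ genLt A 4 := by
  obtain ⟨v, h1, rfl, h3⟩ := h.sif.search hA hA hL hX hs (c := a) (h.top ▸ trivial) ha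
  have h4 := h.sif.tabs.evalW h1
  unfold accC at h3
  rw [(allLt_iff _ _).2 fun j hj =>
    agreeF_of_eq h.sif.inj h.sif.lt (h4.mul (hA j hj)) ((hA j hj).mul h4) (ha j hj)] at h3
  obtain ⟨v', hv, h5⟩ := (anyL_iff l16 fun v' => agreeF (traceP T v) (traceP SA v') Bs).1 h3
  have h6 : lettersLt 4 v' = true := (by decide +kernel : ∀ v' ∈ l16, lettersLt 4 v' = true) v' hv
  rw [eq_of_agreeF h.base h.sif.lt h4 (hA.evalW h6) h5]
  exact evalW_mem_genLt _ h6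

/-- An involutory automorphism from an involution `P` of the points. -/
theorem exists_aut (h : OutModel e n T S k g M inv Bs c) {S' : ℕ → ℕ → ℕ} {g' : ℕ → G}
    (h' : Tabs e n S' g' 3) {P : ℕ → ℕ}
    (h1 : allRange 0 n (fun i => force (P i) fun p => band (blt p n) (allLt 3 fun x => band (blt (S x i) n)
      (Nat.beq (S' x p) (P (S x i))))) = true)
    (h2 : allRange 0 n (fun i => band (blt (P i) n) (Nat.beq (P (P i)) i)) = true) :
    ∃ τ : G ≃* G, (∀ a, τ (τ a) = a) ∧ ∀ a f, Tab e n f a → Tab e n (fun i => P (f (P i))) (τ a) := by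
  have h3 : ∀ i < n, P i < n ∧ P (P i) = i := fun i hi => by
    simpa only [band_iff, blt_iff, nbeq_iff] using allRange_zero h2 i hi
  have hb : ∀ a : G, (∀ i < n, a • e i = e i) → a = 1 := fun a ha =>
    h.base a trivial fun b hb => ha b ((lettersLt_iff _ _).1 h.sif.lt b hb)
  obtain ⟨ψ, -, -, a2⟩ := exists_hom_of_tabs h.tabs h.sif.inj (h'.restrict' h1) (injOn_restrict h.sif.inj h2)
    fun a _ ha => hb a fun i hi => by simpa only [(h3 i hi).2] using ha _ (h3 i hi).1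
  let φ : G →* G := ψ.comp ((MulEquiv.subgroupCongr h.gen).trans Subgroup.topEquiv).symm.toMonoidHom
  have h4 : ∀ a : G, ∀ i < n, ∀ j < n, a • e i = e j → φ a • e (P i) = e (P j) := fun a i hi j hj h5 =>
    (a2 ⟨a, h.gen ▸ trivial⟩ i hi j hj).1 h5
  have h5 : ∀ a, φ (φ a) = a := fun a => by
    rw [← inv_mul_eq_one]
    refine hb _ fun i hi => ?_
    obtain ⟨j, hj, h6⟩ := h.tabs.smul_mem (a := a) (h.gen ▸ trivial) hi
    have h7 := h4 _ _ (h3 i hi).1 _ (h3 j hj).1 (h4 a i hi j hj h6)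
    rw [(h3 i hi).2, (h3 j hj).2] at h7
    rw [mul_smul, h6, inv_smul_eq_iff, h7]
  refine ⟨MonoidHom.toMulEquiv φ φ (MonoidHom.ext h5) (MonoidHom.ext h5), h5, fun a f hf i hi => ?_⟩
  obtain ⟨h6, h7⟩ := hf _ (h3 i hi).1
  have h8 := h4 a _ (h3 i hi).1 _ h6 h7
  rw [(h3 i hi).2] at h8
  exact ⟨(h3 _ h6).1, h8⟩

theorem mod_of (h : OutModel e n T S k g M inv Bs c) (hu : Tabs e n U u 11) {ε : Bool} (c1 : C1 U Bs)
    (c2 : C2 U Bs ε) (c3 : C3 U Bs) {m : ℕ} (hc : c = 128 * m) (hm : ¬ 2 ∣ m)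
    (cE : ∀ a : G, (∀ j < 4, a * u (sE j) = u (sE j) * a) → a ∈ genLt (fun j => u (sE j)) 4)
    (cF : ∀ a : G, (∀ j < 4, a * u (sF j) = u (sF j) * a) → a ∈ genLt (fun j => u (sF j)) 4)
    {bk : ℕ → List ℕ} (hg : allLt 3 (fun j => band (lettersLt 11 (bk j)) (agreeF (S j) (traceP U (bk j)) Bs)) = true)
    (ho : Nat.card (Out G) = 1 ∨ (Nat.card (Out G) = 2 ∧ ∃ τ : G ≃* G, (∀ a, τ (τ a) = a) ∧
      ∀ p ∈ E0, ∃ q ∈ F0, τ (evalW u (wT p)) = evalW u (wT q))) : Nonempty (Mod G) := by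
  have ev : ∀ {v v' : List ℕ}, Ag U Bs v v' → evalW u v = evalW u v' := fun hv =>
    hu.eq_of_base (h.base.mono le_top) h.sif.lt hv
  have ev2 : ∀ {a b v : List ℕ}, Ag U Bs (a ++ b) v → evalW u a * evalW u b = evalW u v := fun hv =>
    (evalW_append _ _ _).symm.trans (ev hv)
  have ev3 : ∀ {a b a' b' : List ℕ}, Ag U Bs (a ++ b) (a' ++ b') → evalW u a * evalW u b = evalW u a' * evalW u b' :=
    fun hv => (ev2 hv).trans (evalW_append _ _ _)
  have e1 : ∀ i, evalW u [i] = u i := fun i => by simp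
  obtain ⟨d6, d7, d8, d78, d67, d68⟩ := c3
  have d6 := ev d6
  have d7 := ev d7
  have d8 := ev d8
  have d78 := ev d78
  have d67 := ev d67
  have d68 := ev d68
  simp only [evalW_cons, evalW_nil, mul_one] at d6 d7 d8 d78 d67 d68
  obtain ⟨ι, i1, i2, i3, i4⟩ := exists_hom (fun a => evalW u (kw 0 a)) (fun a => evalW u (kw 2 a))
    (fun a => evalW u (kw 4 a)) (u 6) (fun a b => ev2 (c1 a b).1.1) (fun a b => ev2 (c1 a b).1.2.1)
    (fun a b => ev2 (c1 a b).1.2.2) (fun a b => ev3 (c1 a b).2.1.1) (fun a b => ev3 (c1 a b).2.1.2.1)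
    (fun a b => (ev3 (c1 a b).2.1.2.2).trans (by rw [evalW_append])) (fun a => e1 6 ▸ ev3 (c1 a a).2.2.1)
    (fun a => e1 6 ▸ ev3 (c1 a a).2.2.2.1) (fun a => e1 6 ▸ ev3 (c1 a a).2.2.2.2) d6
  have hι : ∀ p, ι p = evalW u (wT p) := fun p => by
    conv_lhs => rw [dec_T p]
    rw [map_mul, map_mul, map_mul, i1, i2, i3, wT, evalW_append, evalW_append, evalW_append]
    cases p.e
    · simp
    · rw [e1, ← i4]
  have hinj : Function.Injective ι := (injective_iff_map_eq_one ι).2 fun p hp => (c2 p).1 (by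
    rw [hι] at hp
    exact (band_iff _ _).2 ⟨lt_wT p, (band_iff _ _).2 ⟨rfl,
      agreeF_of_eq h.sif.inj h.sif.lt (hu.evalW (lt_wT p)) (hu.evalW (w := []) rfl) hp⟩⟩)
  have act : ∀ {i : ℕ} {p q : T0}, Ag U Bs ([i] ++ wT p) (wT q ++ [i]) → u i * ι p * (u i)⁻¹ = ι q := fun hv => by
    have := ev3 hv
    rw [e1, ← hι, ← hι] at this
    rw [this, mul_inv_cancel_right]
  have u0 : u 0 = ι (x 1) := by rw [i1]; exact (e1 0).symm
  have u1 : u 1 = ι (x om) := by rw [i1]; exact (e1 1).symm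
  have u2 : u 2 = ι (y 1) := by rw [i2]; exact (e1 2).symm
  have u3 : u 3 = ι (y om) := by rw [i2]; exact (e1 3).symm
  have u4 : u 4 = ι (w 1) := by rw [i3]; exact (e1 4).symm
  have u5 : u 5 = ι (w om) := by rw [i3]; exact (e1 5).symm
  have uE : ∀ j < 4, u (sE j) ∈ E0.map ι := fun j hj => by
    interval_cases j
    exacts [⟨_, x_mem _, u0.symm⟩, ⟨_, x_mem _, u1.symm⟩, ⟨_, Z0_leE (w_mem _), u4.symm⟩,
      ⟨_, Z0_leE (w_mem _), u5.symm⟩]
  have uF : ∀ j < 4, u (sF j) ∈ F0.map ι := fun j hj => by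
    interval_cases j
    exacts [⟨_, y_mem _, u2.symm⟩, ⟨_, y_mem _, u3.symm⟩, ⟨_, Z0_leF (w_mem _), u4.symm⟩,
      ⟨_, Z0_leF (w_mem _), u5.symm⟩]
  have hE : ∀ a : G, (∀ p ∈ E0, a * ι p = ι p * a) → ∃ p ∈ E0, ι p = a := fun a ha =>
    genLt_le uE (cE a fun j hj => by
      obtain ⟨p, hp, h1⟩ := uE j hj
      exact h1 ▸ ha p hp)
  have hF : ∀ a : G, (∀ p ∈ F0, a * ι p = ι p * a) → ∃ p ∈ F0, ι p = a := fun a ha =>
    genLt_le uF (cF a fun j hj => by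
      obtain ⟨p, hp, h1⟩ := uF j hj
      exact h1 ▸ ha p hp)
  have cen : ∀ a : G, (∀ b, b * a = a * b) → a = 1 := fun a ha => by
    obtain ⟨p, hp, rfl⟩ := hE a fun p _ => (ha _).symm
    have h1 : ∀ q, p * q = q * p := fun q => hinj (by rw [map_mul, map_mul, ha])
    rcases center_eq p (h1 _) (h1 _) (h1 _) with rfl | rfl
    · exact map_one ι
    · have h2 := act ((c2 (w 1)).2.1 rfl).1
      rw [ha, mul_inv_cancel_right] at h2
      exact absurd (hinj h2) (by decide +kernel)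
  have one : ∀ {a : G}, a = 1 → a ∈ 𝐂[(⊤ : Subgroup G)] := fun ha => ha ▸ one_mem _
  have hcard : Nat.card ι.range = 128 := (Nat.card_congr (MonoidHom.ofInjective hinj).toEquiv).symm.trans T0.card_eq
  let s : Lw G :=
    { L := ⊤, ι := ι, r1 := u 7, r2 := u 8, hE := u 9, hF := u 10, εE := true, εF := ε, inj := hinj
      r1L := trivial, r2L := trivial, hEL := trivial, hFL := trivial
      syl := ⟨le_top, (MonoidHom.range_eq_map ι).symm ▸ (pg.to_subgroup ⊤).map ι, by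
        have h1 := ι.range.card_mul_index
        rw [hcard, h.card, hc] at h1
        rw [relIndex_top_right, Nat.eq_of_mul_eq_mul_left (by norm_num) h1]
        exact hm⟩
      act1 := fun p hp => act ((c2 p).2.1 hp).1
      act2 := fun p hp => act ((c2 p).2.1 hp).2
      actE := fun p hp => act ((c2 p).2.2.1 hp)
      actF := fun p hp => act ((c2 p).2.2.2 hp)
      c1 := one (by rw [← d7, pow_three])
      c2 := one (by rw [← d8, pow_three])
      c12 := one (by rw [d78]; group)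
      f1 := one (by rw [i4, ← d67]; simp only [mul_assoc])
      f2 := one (by rw [i4, ← d68]; simp only [mul_assoc])
      cE := fun a _ ha => by
        obtain ⟨p, hp, rfl⟩ := hE a ha
        exact ⟨p, hp, one (by rw [← map_mul, sq_E p hp, map_one])⟩
      cF := fun a _ ha => by
        obtain ⟨p, hp, rfl⟩ := hF a ha
        exact ⟨p, hp, one (by rw [← map_mul, sq_F p hp, map_one])⟩
      zodd := fun a _ ha => by
        rw [cen a fun b => mem_centralizer_iff.1 ha b trivial, orderOf_one]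
        exact odd_one }
  refine ⟨⟨s, rfl, rfl, cen, ?_, ho.imp_right fun ⟨h1, τ, h2, h3⟩ => ⟨h1, τ, h2, 1, fun p hp => ?_⟩⟩⟩
  · have h1 : ∀ j < 11, u j ∈ s.NE ⊔ s.NF := fun j hj => by
      have h2 : ∀ p, ι p ∈ s.NE ⊔ s.NF := fun p => mem_sup_left (s.P_le_NE (s.ιP p))
      interval_cases j
      exacts [u0 ▸ h2 _, u1 ▸ h2 _, u2 ▸ h2 _, u3 ▸ h2 _, u4 ▸ h2 _, u5 ▸ h2 _, i4 ▸ h2 _,
        mem_sup_left (s.P_le_NE s.r1P), mem_sup_left (s.P_le_NE s.r2P), mem_sup_left s.hE_mem, mem_sup_right s.hF_mem]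
    refine top_unique (h.gen ▸ genLt_le fun j hj => ?_)
    obtain ⟨h2, h3⟩ := (band_iff _ _).1 ((allLt_iff _ _).1 hg j hj)
    rw [eq_of_agreeF h.base h.sif.lt (h.tabs j hj) (hu.evalW h2) h3]
    exact genLt_le h1 (evalW_mem_genLt _ h2)
  · obtain ⟨q, hq, h4⟩ := h3 p hp
    exact ⟨q, hq, by rw [one_mul, inv_one, mul_one]; exact (congrArg τ (hι p)).trans (h4.trans (hι q).symm)⟩

end Cfsg.Agent.Std.W.WM
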