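import Mathlib
import Cfsg.Agent.Std.WAct
import Cfsg.Prelude.Def_Classification2
import Cfsg.Agent.Std.WMdl
import Cfsg.Agent.Spor.Out.Mathieu

set_option autoImplicit false
set_option maxRecDepth 100000
set_option exponentiation.threshold 100000

namespace Cfsg.Agent.Std.W

open Cfsg.Agent.Loc.Mss Cfsg.Agent.Wr Subgroup

universe u

variable {G : Type u} [Group G] [Finite G]

namespace WM23

open Cfsg.Agent.Spor Cfsg.Agent.Spor.OutC WM

/-- The tables of the eleven letters. -/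
noncomputable def Ut : BT :=
(.node (.node (.node (.node (.leaf (nat_lit 0xbcd74b05407950cac52d389c419a50))
 (.leaf (nat_lit 0xbda54341b53ac0f4052e609441ccb1)))
 (.leaf (nat_lit 0xbb9b42a8227daac4492b382641c226)))
 (.node (.node (.leaf (nat_lit 0xbd9a3282117baac598883aa69a0452))
 (.leaf (nat_lit 0xbd86d489467ba8c5c6683c085ac801)))
 (.leaf (nat_lit 0xbd9b49c6403baac4048b788a919950))))
 (.node (.node (.node (.leaf (nat_lit 0xb9a34122a57802c52d323da041cdae))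
 (.leaf (nat_lit 0xb99741494e3c1a3ac5287d80464c25)))
 (.leaf (nat_lit 0xbae74a80417a0acb192e3a9a41c612)))
 (.node (.leaf (nat_lit 0xbda64a98227b8ac580683c9b44c22a))
 (.leaf (nat_lit 0xbd9a99803162ca74488e79ab418a0a)))))

/-- The tables of the eleven letters. -/
noncomputable def U : ℕ → ℕ → ℕ := fun x i => Nat.land (Nat.shiftRight (BT.get Ut x) (Nat.mul (nat_lit 5) i)) (nat_lit 31)

/-- The eleven letters as words. -/
noncomputable def ws : LT :=
(.node (.node (.node (.node (.leaf [nat_lit 12,nat_lit 0,nat_lit 12,nat_lit 5,nat_lit 10,nat_lit 0,nat_lit 6,nat_lit 8,nat_lit 3,nat_lit 1,nat_lit 6,nat_lit 3,nat_lit 2])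
 (.leaf [nat_lit 6,nat_lit 0,nat_lit 12,nat_lit 7,nat_lit 10,nat_lit 9,nat_lit 0]))
 (.leaf [nat_lit 4,nat_lit 13,nat_lit 6,nat_lit 0,nat_lit 10,nat_lit 1,nat_lit 6,nat_lit 8,nat_lit 3,nat_lit 6,nat_lit 4,nat_lit 1]))
 (.node (.node (.leaf [nat_lit 12,nat_lit 4,nat_lit 10,nat_lit 6,nat_lit 8,nat_lit 4,nat_lit 7,nat_lit 4,nat_lit 3,nat_lit 2,nat_lit 1])
 (.leaf [nat_lit 3,nat_lit 12,nat_lit 4,nat_lit 10,nat_lit 6,nat_lit 8,nat_lit 4,nat_lit 7,nat_lit 4,nat_lit 2,nat_lit 1]))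
 (.leaf [nat_lit 12,nat_lit 0,nat_lit 12,nat_lit 5,nat_lit 10,nat_lit 4,nat_lit 7,nat_lit 8,nat_lit 3,nat_lit 6,nat_lit 3,nat_lit 2,nat_lit 0])))
 (.node (.node (.node (.leaf [nat_lit 14,nat_lit 1,nat_lit 12,nat_lit 3,nat_lit 0,nat_lit 10,nat_lit 5,nat_lit 7,nat_lit 8,nat_lit 4,nat_lit 6,nat_lit 5,nat_lit 0])
 (.leaf [nat_lit 6,nat_lit 12,nat_lit 3,nat_lit 0,nat_lit 10,nat_lit 1,nat_lit 6,nat_lit 8,nat_lit 1,nat_lit 6,nat_lit 4,nat_lit 1,nat_lit 0]))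
 (.leaf [nat_lit 12,nat_lit 8,nat_lit 11,nat_lit 7,nat_lit 9,nat_lit 3,nat_lit 6,nat_lit 2,nat_lit 1,nat_lit 0]))
 (.node (.leaf [nat_lit 11,nat_lit 0,nat_lit 12,nat_lit 11,nat_lit 4,nat_lit 10,nat_lit 9,nat_lit 0,nat_lit 6,nat_lit 5,nat_lit 1])
 (.leaf [nat_lit 11,nat_lit 0,nat_lit 12,nat_lit 0,nat_lit 11,nat_lit 0,nat_lit 6,nat_lit 8,nat_lit 7,nat_lit 4,nat_lit 7,nat_lit 5,nat_lit 0]))))

/-- The generators as words in the eleven letters. -/
noncomputable def bk : ℕ → List ℕ := tri [nat_lit 0,nat_lit 1,nat_lit 9,nat_lit 10,nat_lit 9,nat_lit 3,nat_lit 7,nat_lit 9,nat_lit 8,nat_lit 10,nat_lit 9,nat_lit 3,nat_lit 6]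
  [nat_lit 3,nat_lit 9,nat_lit 2,nat_lit 7,nat_lit 7,nat_lit 10,nat_lit 9,nat_lit 10,nat_lit 8,nat_lit 8,nat_lit 9,nat_lit 10,nat_lit 7,nat_lit 7,nat_lit 3]
  [nat_lit 8,nat_lit 9,nat_lit 2,nat_lit 9,nat_lit 3,nat_lit 7,nat_lit 7,nat_lit 9,nat_lit 10,nat_lit 8,nat_lit 8,nat_lit 1]

/-- The base. -/
def Bs : List ℕ := [nat_lit 0,nat_lit 16,nat_lit 7,nat_lit 2,nat_lit 8,nat_lit 18]

theorem ws_ok : allLt 11 (fun j => band (lettersLt 18 (ws.get j))
    (allRange 0 24 fun i => Nat.beq (traceP m23_T (ws.get j) i) (U j i))) = true := by decide +kernel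

theorem c1 : C1 U Bs := by decide +kernel

theorem c2 : C2 U Bs false := by decide +kernel

theorem c3 : C3 U Bs := by decide +kernel

theorem bk_ok : allLt 3 (fun j => band (lettersLt 11 (bk j)) (agreeF (m23_S j) (traceP U (bk j)) Bs)) = true := by
  decide +kernel

/-- The first level of the search. -/
noncomputable def lE : Lv := ⟨m23_E (nat_lit 0), nat_lit 0, nat_lit 1, true, nat_lit 0, [], []⟩

/-- The other levels. -/
noncomputable def LE : List Lv :=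
  [⟨m23_E (nat_lit 1), nat_lit 16, nat_lit 13, false, nat_lit 0, [nat_lit 1], []⟩,
   ⟨m23_E (nat_lit 2), nat_lit 7, nat_lit 5, false, nat_lit 0, [nat_lit 3], []⟩,
   ⟨m23_E (nat_lit 3), nat_lit 2, nat_lit 10, false, nat_lit 2, [nat_lit 0,nat_lit 2], []⟩,
   ⟨m23_E (nat_lit 4), nat_lit 8, nat_lit 2, false, nat_lit 0, [nat_lit 0,nat_lit 3], []⟩,
   ⟨m23_E (nat_lit 5), nat_lit 18, nat_lit 8, false, nat_lit 3, [nat_lit 0], []⟩]

/-- From the source points to the base. -/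
def hE : List ℕ := [nat_lit 0,nat_lit 7,nat_lit 5,nat_lit 9,nat_lit 7,nat_lit 7,nat_lit 10,nat_lit 13,nat_lit 3]

/-- The tables of the four generators. -/
noncomputable def SE : ℕ → ℕ → ℕ := fun x => U (sE x)

theorem sE_ok : allRange (nat_lit 0) (nat_lit 24) (siftTop m23_T SE m23_inv (nat_lit 24) hE (accC m23_T SE Bs) lE LE) = true := by
  decide +kernel

/-- The first level of the search. -/
noncomputable def lF : Lv := ⟨m23_E (nat_lit 0), nat_lit 0, nat_lit 3, true, nat_lit 0, [], [nat_lit 2]⟩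

/-- The other levels. -/
noncomputable def LF : List Lv :=
  [⟨m23_E (nat_lit 1), nat_lit 16, nat_lit 9, false, nat_lit 0, [nat_lit 1], []⟩,
   ⟨m23_E (nat_lit 2), nat_lit 7, nat_lit 18, true, nat_lit 0, [], [nat_lit 0,nat_lit 3]⟩,
   ⟨m23_E (nat_lit 3), nat_lit 2, nat_lit 10, false, nat_lit 0, [nat_lit 2], []⟩,
   ⟨m23_E (nat_lit 4), nat_lit 8, nat_lit 15, true, nat_lit 0, [], [nat_lit 0]⟩,
   ⟨m23_E (nat_lit 5), nat_lit 18, nat_lit 4, false, nat_lit 3, [nat_lit 0], []⟩]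

/-- From the source points to the base. -/
def hF : List ℕ := [nat_lit 3,nat_lit 5,nat_lit 7,nat_lit 0,nat_lit 9,nat_lit 6,nat_lit 0,nat_lit 10,nat_lit 9,nat_lit 13,nat_lit 0]

/-- The tables of the four generators. -/
noncomputable def SF : ℕ → ℕ → ℕ := fun x => U (sF x)

theorem sF_ok : allRange (nat_lit 0) (nat_lit 24) (siftTop m23_T SF m23_inv (nat_lit 24) hF (accC m23_T SF Bs) lF LF) = true := by
  decide +kernel

theorem mod {A α : Type} [Group A] [MulAction A α] {e : ℕ → α} {y : ℕ → A} (he : Set.InjOn e (Set.Iio 24))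
    (h0 : Tabs e 24 m23_S y 3) (hc : Nat.card A = 10200960) : Nonempty (Mod A) :=
  have h := m23_model he h0 hc
  have hu := h.sif.tabs.words ws_ok
  mod_of h hu c1 c2 c3 (m := 79695) (by norm_num) (by norm_num)
    (cent_le h (hu.comp (ι := sE) (by decide +kernel)) (l := lE) (L := LE) (hw := hE)
      ⟨_, m23_sl0 he h0 hc, _, m23_sl1 he h0 hc, _, m23_sl2 he h0 hc, _, m23_sl3 he h0 hc, _, m23_sl4 he h0 hc, _, m23_sl5 he h0 hc, rfl⟩
      (by decide +kernel) (allRange_zero sE_ok))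
    (cent_le h (hu.comp (ι := sF) (by decide +kernel)) (l := lF) (L := LF) (hw := hF)
      ⟨_, m23_sl0 he h0 hc, _, m23_sl1 he h0 hc, _, m23_sl2 he h0 hc, _, m23_sl3 he h0 hc, _, m23_sl4 he h0 hc, _, m23_sl5 he h0 hc, rfl⟩
      (by decide +kernel) (allRange_zero sF_ok))
    bk_ok (.inl (m23_out he h0 hc))

end WM23

theorem mod_M23 : Nonempty (Mod ↥Cfsg.Spor.M23) :=
  open Cfsg.Agent.Spor Cfsg.Agent.Spor.OutC in
  WM23.mod pt_injOn (m23_c.2.subL (K := Spor.M23) fun l hl =>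
    ⟨(m23_c.1 l hl).1, fix_pt m23_c.2 _ (by decide +kernel) l hl⟩) Golay.card_M23

end Cfsg.Agent.Std.W
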