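import Mathlib
import Cfsg.Agent.Std.OND

/-!
Facts about a Sylow `2`-subgroup of `4 · L₃(4) · 2²`, checked in the model.
-/

set_option autoImplicit false
set_option synthInstance.maxSize 100000
set_option synthInstance.maxHeartbeats 1000000
set_option maxRecDepth 100000
set_option exponentiation.threshold 10000
set_option Elab.async false

namespace Cfsg.Agent.Std.ON

open Cfsg.Agent.ONT Cfsg.Agent.Spor Cfsg.Agent.Spor.PC Cfsg.Agent.Rec Cfsg.Agent.Inv.Fz Subgroup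

universe u v

variable {X : Type u} [Group X]

/-- The facts for both covers. -/
structure FA (T P Z : Subgroup X) (z y a : X) : Prop where
  cen : ∀ t ∈ T, (∀ p ∈ P, t * p = p * t) → t ∈ Z
  pw : ∀ t ∈ T, t ^ 16 ∈ Z
  na : ∀ t ∈ T, t * a * t⁻¹ * a⁻¹ ∈ Z
  ny : ∀ t ∈ T, t * y * t⁻¹ = y ∨ t * y * t⁻¹ = y⁻¹
  sq : ∀ t ∈ T, ∃ p ∈ P, t * t * p⁻¹ ∈ Z
  az : ∃ m ∈ P, m * m = 1 ∧ m * a * m⁻¹ = a * z
  p16 : ∀ p ∈ P, p ^ 16 = 1
  g0 : ∀ t ∈ T, t * t ∈ Z → t * y ≠ y * t → ∃ l ∈ P, Let (l * t * l⁻¹ * t⁻¹) fun f => f * f = 1 ∧ f ≠ 1 ∧ f ≠ z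
  g1 : ∀ u ∈ T, u * u * a⁻¹ ∈ Z → ∃ x ∈ P, x * a = a * x ∧ u * x ≠ x * u

/-- `u` behaves like a conjugate of `y` with square `a`. -/
abbrev Rt (P Z : Subgroup X) (a u : X) : Prop :=
  u * u * a⁻¹ ∈ Z ∧ ∀ x ∈ P, x * a = a * x → Let (x * u * x⁻¹ * u⁻¹) fun d => d = 1 ∨ d = a

/-- The facts for the cover which occurs in the O'Nan group. -/
structure FB (T P Z : Subgroup X) (z y a b e : X) : Prop where
  bP : b ∈ P
  eP : e ∈ P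
  bas : b * b = a ∧ e * e = 1 ∧ e * b = b * e ∧ e ≠ 1 ∧ e ≠ z ∧ e ≠ a ∧ e ≠ a * z
  rt : ∀ u ∈ T, Rt P Z a u → u * b⁻¹ ∈ Z ∨ u * b ∈ Z
  two : ∀ u ∈ T, u * a = a * u → u * b * u⁻¹ * b⁻¹ ∈ Z → (∀ x ∈ P, x * a = a * x → Let (x * u * x⁻¹ * u⁻¹) fun d =>
    (d * d = 1 → d = 1 ∨ d = a) ∧ (d * d * (d * d) = 1 → d * d = 1 ∨ d * d = a)) →
    u ∈ Z ∨ u * b ∈ Z ∨ u * (b * b) ∈ Z ∨ u * b⁻¹ ∈ Z
  ab : ∀ v ∈ P, v * b = b * v → ∀ w ∈ P, w * b = b * w → v * w = w * v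
  ce : ∀ t ∈ T, t * a = a * t → t * e = e * t → t * y ≠ y * t → t * t ∈ Z
  nE : ∀ f ∈ P, f * f = 1 → f * b = b * f → ∀ p ∈ P, p * f * p⁻¹ = f ∨ p * f * p⁻¹ = f * z
  rE : ∀ f ∈ P, f * f = 1 → f * b = b * f → f ≠ 1 → f ≠ z → ∀ v ∈ P, v * v = f →
    (∀ x ∈ P, x * f = f * x → x * v * x⁻¹ = v ∨ x * v * x⁻¹ = v⁻¹) → v * b = b * v
  f4 : ∀ t ∈ T, t * y = y * t → t * b * t⁻¹ = b⁻¹ → ∀ f ∈ P, f * f = 1 → f * b = b * f → t * f = f * t →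
    f = 1 ∨ f = z ∨ f = a ∨ f = a * z

/-- An outer element inverting the centraliser of `b`. -/
abbrev FC (T P Z : Subgroup X) (y b c s : X) : Prop :=
  c ∈ T ∧ s ∈ T ∧ s * s ∈ Z ∧ (∀ v ∈ P, v * b = b * v → s * v * s⁻¹ = v⁻¹) ∧
    ∀ t ∈ T, (t * y = y * t → t ∈ P ∨ t⁻¹ * c ∈ P) ∧ (t * y ≠ y * t → t⁻¹ * s ∈ P ∨ t⁻¹ * (c * s) ∈ P)

variable {g : ℕ → X} {R : ℕ → ℕ → ℕ}

theorem lists (h : IsPC g 10 R) (hi : invOK R 10 = true) : (pcCod h hi).ListsL [rangeDom 10, rangeDom 8, rangeDom 2]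
    [genLt g 10, genLt g 8, genLt g 2] :=
  (lists_range h hi le_rfl).cons ((lists_range h hi (by norm_num)).cons ((lists_range h hi (by norm_num)).cons
    Cod.listsL_nil))

theorem rep3 (h : IsPC g 10 R) (hi : invOK R 10 = true) : (pcCod h hi).RepL [1, 2, 4] [g 0, g 1, g 2] :=
  (rep_gen h hi (k := 0) (by norm_num)).cons ((rep_gen h hi (k := 1) (by norm_num)).cons
    ((rep_gen h hi (k := 2) (by norm_num)).cons Cod.repL_nil))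

theorem rep7 (h : IsPC g 10 R) (hi : invOK R 10 = true) : (pcCod h hi).RepL [1, 2, 4, 232, 10, 256, 544]
    [g 0, g 1, g 2, elt g 10 232, elt g 10 10, elt g 10 256, elt g 10 544] := by
  have r : ∀ c < 2 ^ 10, (pcCod h hi).Rep c (elt g 10 c) := fun c hc => ⟨hc, rfl⟩
  exact (rep3 h hi).append ((r _ (by norm_num)).cons ((r _ (by norm_num)).cons ((r _ (by norm_num)).cons
    ((r _ (by norm_num)).cons Cod.repL_nil))))

theorem fa0 (h : IsPC g 10 R0) : FA (genLt g 10) (genLt g 8) (genLt g 2) (g 0) (g 1) (g 2) := by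
  have h1 := lists h inv0
  have h2 := rep3 h inv0
  generalize genLt g 10 = T, genLt g 8 = P, genLt g 2 = Z, g 0 = z, g 1 = y, g 2 = a at h1 h2 ⊢
  have h3 : ∀ t ∈ T, t * t ∈ P := h1.decide h2 (by decide +kernel)
  refine ⟨?_, ?_, ?_, ?_, fun t ht => ⟨_, h3 t ht, by simp⟩, ?_, ?_, ?_, ?_⟩ <;>
    exact h1.decide h2 (by decide +kernel)

theorem fa2 (h : IsPC g 10 R2) : FA (genLt g 10) (genLt g 8) (genLt g 2) (g 0) (g 1) (g 2) ∧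
    ∀ u ∈ genLt g 10, ¬ Rt (genLt g 8) (genLt g 2) (g 2) u := by
  have h1 := lists h inv2
  have h2 := rep3 h inv2
  generalize genLt g 10 = T, genLt g 8 = P, genLt g 2 = Z, g 0 = z, g 1 = y, g 2 = a at h1 h2 ⊢
  have h3 : ∀ t ∈ T, t * t ∈ P := h1.decide h2 (by decide +kernel)
  refine ⟨⟨?_, ?_, ?_, ?_, fun t ht => ⟨_, h3 t ht, by simp⟩, ?_, ?_, ?_, ?_⟩, ?_⟩ <;>
    exact h1.decide h2 (by decide +kernel)

theorem fb0 (h : IsPC g 10 R0) : ∃ b e c s, FB (genLt g 10) (genLt g 8) (genLt g 2) (g 0) (g 1) (g 2) b e ∧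
    FC (genLt g 10) (genLt g 8) (genLt g 2) (g 1) b c s := by
  have h1 := lists h inv0
  have h2 := rep7 h inv0
  generalize elt g 10 232 = b, elt g 10 10 = e, elt g 10 256 = c, elt g 10 544 = s at h2
  generalize genLt g 10 = T, genLt g 8 = P, genLt g 2 = Z, g 0 = z, g 1 = y, g 2 = a at h1 h2 ⊢
  refine ⟨b, e, c, s, ?_, h1.decide h2 (by decide +kernel)⟩
  constructor <;> exact h1.decide h2 (by decide +kernel)

end Cfsg.Agent.Std.ON
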