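import Mathlib
import Cfsg.Agent.Std.ONb

/-!
Transfer of the facts from the model to the normaliser of `4 · L₃(4)`.
-/

set_option autoImplicit false
set_option synthInstance.maxSize 100000
set_option synthInstance.maxHeartbeats 1000000
set_option maxRecDepth 100000
set_option exponentiation.threshold 10000

namespace Cfsg.Agent.Std.ON

open Cfsg.Agent.ONT Cfsg.Agent.Spor Cfsg.Agent.Spor.PC Cfsg.Agent.Rec Cfsg.Agent.Spor.MX Cfsg.Agent.Inv.Fz Subgroup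

universe u v

variable {G : Type u} [Group G] {η : Γ →* G} {q : ℕ}

/-- The centraliser of the image. -/
def KK (η : Γ →* G) : Subgroup G := centralizer (η.range : Set G)

/-- A Sylow `2`-subgroup of the image. -/
noncomputable def PP (η : Γ →* G) : Subgroup G := (clos eT).map η

theorem mem_KK {k : G} : k ∈ KK η ↔ ∀ γ, η γ * k = k * η γ :=
  ⟨fun h γ => h _ ⟨γ, rfl⟩, by rintro h _ ⟨γ, rfl⟩; exact h γ⟩

theorem normK {h k : G} (hh : h ∈ normalizer (η.range : Set G)) (hk : k ∈ KK η) : h * k * h⁻¹ ∈ KK η :=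
  mem_KK.2 fun γ => by
    obtain ⟨δ, e⟩ := conj_mem_of_mem_norm (inv_mem hh) (mem_rg η γ)
    calc _ = h * (η δ * k) * h⁻¹ := by rw [e]; group
      _ = _ := by rw [mem_KK.1 hk, e]; group

/-- The stabiliser of the involution `w` modulo the centraliser. -/
def H1 (η : Γ →* G) : Subgroup G where
  carrier := {h | h ∈ normalizer (η.range : Set G) ∧ h * η w0 * h⁻¹ * (η w0)⁻¹ ∈ KK η}
  one_mem' := ⟨one_mem _, by simp⟩
  mul_mem' := fun {g h} hg hh => ⟨mul_mem hg.1 hh.1, by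
    convert mul_mem (normK hg.1 hh.2) hg.2 using 1
    group⟩
  inv_mem' := fun {g} hg => ⟨inv_mem hg.1, by
    convert normK (inv_mem hg.1) (inv_mem hg.2) using 1
    group⟩

theorem cenW : (centralizer {wL}).index = 315 ∧ centralizer {wL} ≤ (clos eT).map π0 := by
  have h0 := repL.words _ cU_ok
  have h1 : clos ((WT.drop 4).map (evalW (nth 1 (tri xL wL)))) ≤ (clos eT).map π0 := clos_le.2 fun x hx => by
    obtain ⟨w, hw, rfl⟩ := List.mem_map.1 hx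
    exact ⟨_, mem_clos (List.mem_map_of_mem (List.mem_of_mem_drop hw)), π0_ev w⟩
  generalize (WT.drop 4).map (evalW (nth 1 (tri xL wL))) = e at h0 h1
  obtain ⟨h2, h3 : _ = 64⟩ := h0.gen U_ok
  have h4 : ∀ u ∈ clos e, u * wL = wL * u :=
    (h2.cons Cod.listsL_nil).decide (e := [xL, xL⁻¹, wL]) repL (by decide +kernel)
  have h5 : _ = 315 := (repL.orb (repL.term wL (t := .v 2) (ht := ⟨rfl⟩) (by decide +kernel)) I_ok).2
  have h6 : centralizer {wL} = clos e := le_antisymm (fun g hg => mem_of_cls (xs := tri xL wL) (topL ▸ le_top) h4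
    (by rw [topL, card_top, l3k_cardG, h5, h3]) g (topL ▸ mem_top g) (mem_cen.1 hg)) fun u hu => mem_cen.2 (h4 u hu)
  have h7 := (clos e).index_mul_card
  rw [h3, l3k_cardG] at h7
  exact ⟨by rw [h6]; omega, h6 ▸ h1⟩

theorem y_eT : y1 ∈ clos eT := eT1 ▸ nth_mem_clos eT 1
theorem w_eT : w0 ∈ clos eT := eT2 ▸ nth_mem_clos eT 2
theorem yP : η y1 ∈ PP η := ⟨_, y_eT, rfl⟩
theorem aP : η w0 ∈ PP η := ⟨_, w_eT, rfl⟩
theorem PL : PP η ≤ η.range := map_le_range _ _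

theorem ZK {γ : Γ} (h : γ ∈ Z0) : η γ ∈ KK η := mem_KK.2 fun δ => (Cv.comm h δ).symm

theorem invL {δ : Γ} (h : δ * δ ∈ Z0) : δ ∈ Z0 ∨ ∃ μ, μ⁻¹ * δ * μ * w0⁻¹ ∈ Z0 := by
  rcases L_inv (l := π0 δ) (by rw [← map_mul, π0_eq_one]; exact h) with h3 | ⟨l, -, h3⟩
  · exact .inl (π0_eq_one.1 h3)
  · obtain ⟨μ, rfl⟩ := π0_surj l
    exact .inr ⟨μ, π0_eq_one.1 (by simp only [map_mul, map_inv, π0_w, ← h3]; group)⟩

namespace Cv

variable (c : Cv η q)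
include c

theorem memK {γ : Γ} : η γ ∈ KK η ↔ γ ∈ Z0 := ⟨fun h => mem_Z0 c.ne fun δ => (mem_KK.1 h δ).symm, ZK⟩

theorem memH {γ : Γ} : η γ ∈ H1 η ↔ π0 γ ∈ centralizer {wL} := by
  refine (and_iff_right (le_normalizer (mem_rg η γ))).trans ?_
  rw [← map_inv, ← map_inv, ← map_mul, ← map_mul, ← map_mul, c.memK, ← π0_eq_one, mem_cen']
  simp only [map_mul, map_inv, π0_w, mul_inv_eq_one]

theorem memP {γ : Γ} (h : π0 γ ∈ centralizer {wL}) : η γ ∈ PP η := by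
  obtain ⟨δ, hδ, e⟩ := cenW.2 h
  have h1 := zpowers_le.2 yP (map_Z0 c.hκ (z := δ⁻¹ * γ) (π0_eq_one.1 (by rw [map_mul, map_inv, e, inv_mul_cancel])))
  rwa [map_mul, map_inv, mul_mem_cancel_left (inv_mem (show η δ ∈ PP η from ⟨δ, hδ, rfl⟩))] at h1

theorem HL {l : G} (h : l ∈ H1 η) (hl : l ∈ η.range) : l ∈ PP η := by
  obtain ⟨γ, rfl⟩ := hl
  exact c.memP (c.memH.1 h)

theorem split {h : G} (hh : h ∈ normalizer (η.range : Set G)) : ∃ μ, (η μ)⁻¹ * h ∈ H1 η := by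
  obtain ⟨δ, e⟩ := conj_mem_of_mem_norm hh (mem_rg η w0)
  rcases invL (δ := δ) (ker_le c.ne (by rw [map_mul, e, conj_mul, ← map_mul, Z0_facts.2.1]; simp)) with h1 | ⟨μ, h1⟩
  · have h2 := normK (inv_mem hh) (ZK h1)
    rw [e, show h⁻¹ * (h * η w0 * h⁻¹) * h⁻¹⁻¹ = η w0 by group, c.memK] at h2
    exact absurd h2 (hZ.decide rep5 (by decide +kernel))
  · refine ⟨μ, mul_mem (inv_mem (le_normalizer (mem_rg η μ))) hh, ?_⟩
    convert ZK (η := η) h1 using 1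
    simp only [map_mul, map_inv, e]
    group

theorem idx : (H1 η).relIndex (normalizer (η.range : Set G)) = 315 := by
  rw [← cenW.1, ← index_comap_of_surjective _ π0_surj, show (centralizer {wL}).comap π0 = (H1 η).comap η from
    Subgroup.ext fun γ => c.memH.symm, index_comap]
  refine (Nat.card_congr (Equiv.ofBijective (quotientSubgroupOfEmbeddingOfLE (H1 η) le_normalizer)
    ⟨Function.Embedding.injective _, fun x => ?_⟩)).symm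
  obtain ⟨⟨h, hh⟩, rfl⟩ := QuotientGroup.mk_surjective x
  obtain ⟨μ, h1⟩ := c.split hh
  exact ⟨QuotientGroup.mk ⟨_, mem_rg η μ⟩, QuotientGroup.eq.2 h1⟩

end Cv

section

variable {B : Type} [Group B] {ι : Γ →* B}

/-- Corresponding elements of the images. -/
def RD (η : Γ →* G) (ι : Γ →* B) (p : G) (t : B) : Prop := (p, t) ∈ (η.prod ι).range

/-- Elements acting in the same way. -/
def RN (η : Γ →* G) (ι : Γ →* B) (h : G) (t : B) : Prop := (h, t) ∈ normalizer ((η.prod ι).range : Set (G × B))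

variable {p p' h h' : G} {t t' u u' : B}

theorem rd (γ : Γ) : RD η ι (η γ) (ι γ) := ⟨γ, rfl⟩
theorem rd1 : RD η ι 1 1 := one_mem ((η.prod ι).range)
theorem RD.mul (a : RD η ι p u) (b : RD η ι p' u') : RD η ι (p * p') (u * u') := mul_mem a b
theorem RD.inv (a : RD η ι p u) : RD η ι p⁻¹ u⁻¹ := inv_mem a
theorem RD.rn (a : RD η ι p u) : RN η ι p u := le_normalizer a
theorem RN.mul (a : RN η ι h t) (b : RN η ι h' t') : RN η ι (h * h') (t * t') := mul_mem a b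
theorem RN.inv (a : RN η ι h t) : RN η ι h⁻¹ t⁻¹ := inv_mem a
theorem RN.pow (a : RN η ι h t) (n : ℕ) : RN η ι (h ^ n) (t ^ n) := pow_mem a n
theorem RN.cj (a : RN η ι h t) (b : RD η ι p u) : RD η ι (h * p * h⁻¹) (t * u * t⁻¹) := conj_mem_of_mem_norm a b
theorem RN.cm (a : RN η ι h t) (b : RD η ι p u) : RD η ι (p * h * p⁻¹ * h⁻¹) (u * t * u⁻¹ * t⁻¹) := by
  simpa only [mul_assoc] using b.mul (a.cj b.inv)

theorem RN.norm (a : RN η ι h t) : h ∈ normalizer (η.range : Set G) := mem_normalizer_iff.2 fun x =>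
  ⟨fun ⟨γ, e⟩ => (a.cj (rd γ)).imp fun _ e' => e ▸ congrArg Prod.fst e', fun ⟨γ, e⟩ =>
    (a.inv.cj (rd γ)).imp fun _ e' => (congrArg Prod.fst e').trans (by rw [e]; group)⟩

theorem rdP (hp : p ∈ PP η) : ∃ u ∈ PP ι, RD η ι p u := by
  obtain ⟨γ, h, rfl⟩ := hp
  exact ⟨_, ⟨γ, h, rfl⟩, rd γ⟩

theorem rdP' (hu : u ∈ PP ι) : ∃ p ∈ PP η, RD η ι p u := by
  obtain ⟨γ, h, rfl⟩ := hu
  exact ⟨_, ⟨γ, h, rfl⟩, rd γ⟩

/-- The data for the transfer. -/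
structure Tr (η : Γ →* G) (ι : Γ →* B) (T Z : Subgroup B) : Prop where
  ker : ∀ γ, ι γ = 1 ↔ η γ = 1
  ZK : Z ≤ KK ι
  PT : PP ι ≤ T
  fa : FA T (PP ι) Z (ι y1 * ι y1) (ι y1) (ι w0)
  out : ∀ i ∈ [0, 1, 9, 11], ∃ u ∈ T, ∃ ν, ∀ γ, ι ν * u * ι γ * (ι ν * u)⁻¹ = ι (σ i γ)

namespace Tr

variable {T Z : Subgroup B} (m : Tr η ι T Z)
include m

theorem eq (a : RD η ι p u) (b : RD η ι p' u') : p = p' ↔ u = u' := by
  obtain ⟨γ, e⟩ := a.inv.mul b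
  rw [← inv_mul_eq_one, ← inv_mul_eq_one (a := u), ← show η γ = p⁻¹ * p' from congrArg Prod.fst e,
    ← show ι γ = u⁻¹ * u' from congrArg Prod.snd e, m.ker]

theorem com (a : RN η ι h t) (b : RD η ι p u) : h * p = p * h ↔ t * u = u * t := by
  rw [← mul_inv_eq_iff_eq_mul, ← mul_inv_eq_iff_eq_mul (a := t * u), m.eq (a.cj b) b]

theorem mem (a : RN η ι h t) (ht : t ∈ T) : h ∈ KK η ↔ t ∈ Z :=
  ⟨fun h1 => m.fa.cen t ht (by rintro _ ⟨γ, -, rfl⟩; exact (m.com a (rd γ)).1 (mem_KK.1 h1 γ).symm),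
    fun h1 => mem_KK.2 fun γ => ((m.com a (rd γ)).2 (mem_KK.1 (m.ZK h1) γ).symm).symm⟩

theorem toK (a : RN η ι h t) (h1 : t ∈ Z) : h ∈ KK η :=
  mem_KK.2 fun γ => ((m.com a (rd γ)).2 (mem_KK.1 (m.ZK h1) γ).symm).symm

theorem memH (a : RN η ι h t) (ht : t ∈ T) : h ∈ H1 η :=
  ⟨a.norm, m.toK ((a.cj (rd _)).mul (rd _).inv).rn (m.fa.na t ht)⟩

theorem PH : PP η ≤ H1 η := fun _ hp => (rdP (ι := ι) hp).elim fun _ h => m.memH h.2.rn (m.PT h.1)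

variable [Finite G] (c : Cv η q) (c' : Cv ι q)
include c c'

theorem loc (hh : h ∈ H1 η) : ∃ t ∈ T, RN η ι h t := by
  obtain ⟨i, hi, μ, h1⟩ := c.aut hh.1
  obtain ⟨u, hu, ν, h2⟩ := m.out i hi
  have : Finite ((η.prod ι).range : Set (G × B)) := Set.finite_range _
  have h3 : RN η ι (η μ * h) (ι ν * u) := mem_normalizer_fintype (by
    rintro _ ⟨γ, rfl⟩
    exact ⟨σ i γ, Prod.ext (h1 γ).symm (h2 γ).symm⟩)
  have h4 : RN η ι (η (ν⁻¹ * μ) * h) u := by simpa [mul_assoc] using (rd ν).inv.rn.mul h3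
  have h5 := c'.memP (c.memH.1 ((mul_mem_cancel_right hh).1 (m.memH h4 hu)))
  exact ⟨_, mul_mem (inv_mem (m.PT h5)) hu, by simpa only [inv_mul_cancel_left] using (rd (ν⁻¹ * μ)).inv.rn.mul h4⟩

theorem faG : FA (H1 η) (PP η) (KK η) (η y1 * η y1) (η y1) (η w0) := by
  have y := rd (η := η) (ι := ι) y1
  have a := rd (η := η) (ι := ι) w0
  refine ⟨fun h hh h1 => ?_, fun h hh => ?_, fun h hh => hh.2, fun h hh => ?_, fun h hh => ?_, ?_, fun p hp => ?_,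
    fun h hh h1 h2 => ?_, fun h hh h1 => ?_⟩
  · obtain ⟨t, ht, r⟩ := m.loc c c' hh
    refine m.toK r (m.fa.cen t ht fun u hu => ?_)
    obtain ⟨p, hp, d⟩ := rdP' (η := η) hu
    exact (m.com r d).1 (h1 p hp)
  · obtain ⟨t, ht, r⟩ := m.loc c c' hh
    exact m.toK (r.pow 16) (m.fa.pw t ht)
  · obtain ⟨t, ht, r⟩ := m.loc c c' hh
    exact (m.fa.ny t ht).imp (m.eq (r.cj y) y).2 (m.eq (r.cj y) y.inv).2
  · obtain ⟨t, ht, r⟩ := m.loc c c' hh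
    obtain ⟨u, hu, h1⟩ := m.fa.sq t ht
    obtain ⟨p, hp, d⟩ := rdP' (η := η) hu
    exact ⟨p, hp, m.toK ((r.mul r).mul d.inv.rn) h1⟩
  · obtain ⟨u, hu, h1, h2⟩ := m.fa.az
    obtain ⟨p, hp, d⟩ := rdP' (η := η) hu
    exact ⟨p, hp, (m.eq (d.mul d) rd1).2 h1, (m.eq (d.rn.cj a) (a.mul (y.mul y))).2 h2⟩
  · obtain ⟨u, hu, d⟩ := rdP (ι := ι) hp
    exact (m.eq (show RD η ι (p ^ 16) (u ^ 16) from pow_mem d 16) rd1).2 (m.fa.p16 u hu)
  · obtain ⟨t, ht, r⟩ := m.loc c c' hh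
    obtain ⟨u, hu, h3, h4, h5⟩ := m.fa.g0 t ht ((m.mem (r.mul r) (mul_mem ht ht)).1 h1) (mt (m.com r y).2 h2)
    obtain ⟨p, hp, d⟩ := rdP' (η := η) hu
    exact ⟨p, hp, (m.eq ((r.cm d).mul (r.cm d)) rd1).2 h3, mt (m.eq (r.cm d) rd1).1 h4,
      mt (m.eq (r.cm d) (y.mul y)).1 h5⟩
  · obtain ⟨t, ht, r⟩ := m.loc c c' hh
    obtain ⟨u, hu, h3, h4⟩ := m.fa.g1 t ht ((m.mem ((r.mul r).mul a.inv.rn)
      (mul_mem (mul_mem ht ht) (inv_mem (m.PT aP)))).1 h1)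
    obtain ⟨p, hp, d⟩ := rdP' (η := η) hu
    exact ⟨p, hp, (m.com d.rn a).2 h3, mt (m.com r d).1 h4⟩

omit [Finite G] c c' in
theorem rt (r : RN η ι h t) (ht : t ∈ T) (h1 : Rt (PP η) (KK η) (η w0) h) : Rt (PP ι) Z (ι w0) t := by
  have a := rd (η := η) (ι := ι) w0
  refine ⟨(m.mem ((r.mul r).mul a.inv.rn) (mul_mem (mul_mem ht ht) (inv_mem (m.PT aP)))).1 h1.1, fun u hu h2 => ?_⟩
  obtain ⟨p, hp, d⟩ := rdP' (η := η) hu
  exact (h1.2 p hp ((m.com d.rn a).2 h2)).imp (m.eq (r.cm d) rd1).1 (m.eq (r.cm d) a).1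

theorem fbG {b e x s : B} (f : FB T (PP ι) Z (ι y1 * ι y1) (ι y1) (ι w0) b e) (f' : FC T (PP ι) Z (ι y1) b x s) :
    ∃ b e, FB (H1 η) (PP η) (KK η) (η y1 * η y1) (η y1) (η w0) b e ∧ (KK η ≤ η.range →
      ∀ g ∈ H1 η, g ∉ η.range → g * η y1 = η y1 * g → ∀ w ∈ H1 η, w * η y1 ≠ η y1 * w →
        ∃ s ∈ H1 η, s * s ∈ KK η ∧ ∀ v ∈ PP η, v * b = b * v → s * v * s⁻¹ = v⁻¹) := by
  have y := rd (η := η) (ι := ι) y1
  have a := rd (η := η) (ι := ι) w0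
  have z := y.mul y
  obtain ⟨b', hb, b₀⟩ := rdP' (η := η) f.bP
  obtain ⟨e', he, e₀⟩ := rdP' (η := η) f.eP
  have bT := m.PT f.bP
  obtain ⟨b1, b2, b3, b4, b5, b6, b7⟩ := f.bas
  refine ⟨b', e', ⟨hb, he, ⟨(m.eq (b₀.mul b₀) a).2 b1, (m.eq (e₀.mul e₀) rd1).2 b2, (m.com e₀.rn b₀).2 b3,
    mt (m.eq e₀ rd1).1 b4, mt (m.eq e₀ z).1 b5, mt (m.eq e₀ a).1 b6, mt (m.eq e₀ (a.mul z)).1 b7⟩,
    fun h hh h1 => ?_, fun h hh h1 h2 h3 => ?_, fun v hv h1 w hw h2 => ?_, fun h hh h1 h2 h3 => ?_,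
    fun v hv h1 h2 w hw => ?_, fun v hv h1 h2 h3 h4 w hw h5 h6 => ?_, fun h hh h1 h2 v hv h3 h4 h5 => ?_⟩,
    fun hK g hg g1 g2 w hw w1 => ?_⟩
  · obtain ⟨t, ht, r⟩ := m.loc c c' hh
    exact (f.rt t ht (m.rt r ht h1)).imp (m.toK (r.mul b₀.inv.rn)) (m.toK (r.mul b₀.rn))
  · obtain ⟨t, ht, r⟩ := m.loc c c' hh
    refine (f.two t ht ((m.com r a).1 h1) ((m.mem ((r.cj b₀).mul b₀.inv).rn
      (mul_mem (mul_mem (mul_mem ht bT) (inv_mem ht)) (inv_mem bT))).1 h2) fun u hu h4 => ?_).imp (m.toK r)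
      (Or.imp (m.toK (r.mul b₀.rn)) (Or.imp (m.toK (r.mul (b₀.mul b₀).rn)) (m.toK (r.mul b₀.inv.rn))))
    obtain ⟨p, hp, d⟩ := rdP' (η := η) hu
    obtain ⟨h5, h6⟩ := h3 p hp ((m.com d.rn a).2 h4)
    have d1 := r.cm d
    have d2 := d1.mul d1
    exact ⟨fun h7 => (h5 ((m.eq d2 rd1).2 h7)).imp (m.eq d1 rd1).1 (m.eq d1 a).1,
      fun h7 => (h6 ((m.eq (d2.mul d2) rd1).2 h7)).imp (m.eq d2 rd1).1 (m.eq d2 a).1⟩
  · obtain ⟨u, hu, d⟩ := rdP (ι := ι) hv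
    obtain ⟨u', hu', d'⟩ := rdP (ι := ι) hw
    exact (m.com d.rn d').2 (f.ab u hu ((m.com d.rn b₀).1 h1) u' hu' ((m.com d'.rn b₀).1 h2))
  · obtain ⟨t, ht, r⟩ := m.loc c c' hh
    exact m.toK (r.mul r) (f.ce t ht ((m.com r a).1 h1) ((m.com r e₀).1 h2) (mt (m.com r y).2 h3))
  · obtain ⟨u, hu, d⟩ := rdP (ι := ι) hv
    obtain ⟨u', hu', d'⟩ := rdP (ι := ι) hw
    exact (f.nE u hu ((m.eq (d.mul d) rd1).1 h1) ((m.com d.rn b₀).1 h2) u' hu').imp (m.eq (d'.rn.cj d) d).2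
      (m.eq (d'.rn.cj d) (d.mul z)).2
  · obtain ⟨u, hu, d⟩ := rdP (ι := ι) hv
    obtain ⟨u', hu', d'⟩ := rdP (ι := ι) hw
    refine (m.com d'.rn b₀).2 (f.rE u hu ((m.eq (d.mul d) rd1).1 h1) ((m.com d.rn b₀).1 h2) (mt (m.eq d rd1).2 h3)
      (mt (m.eq d z).2 h4) u' hu' ((m.eq (d'.mul d') d).1 h5) fun x hx h7 => ?_)
    obtain ⟨p, hp, d''⟩ := rdP' (η := η) hx
    exact (h6 p hp ((m.com d''.rn d).2 h7)).imp (m.eq (d''.rn.cj d') d').1 (m.eq (d''.rn.cj d') d'.inv).1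
  · obtain ⟨t, ht, r⟩ := m.loc c c' hh
    obtain ⟨u, hu, d⟩ := rdP (ι := ι) hv
    exact (f.f4 t ht ((m.com r y).1 h1) ((m.eq (r.cj b₀) b₀.inv).1 h2) u hu ((m.eq (d.mul d) rd1).1 h3)
      ((m.com d.rn b₀).1 h4) ((m.com r d).1 h5)).imp (m.eq d rd1).2 (Or.imp (m.eq d z).2
        (Or.imp (m.eq d a).2 (m.eq d (a.mul z)).2))
  · obtain ⟨hx, hs, s1, s2, s3⟩ := f'
    obtain ⟨t, ht, r⟩ := m.loc c c' hg
    obtain ⟨t', ht', r'⟩ := m.loc c c' hw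
    have k : ∀ {h t u}, RN η ι h t → t⁻¹ * u ∈ PP ι → ∃ h', RN η ι h' u := fun r hu => by
      obtain ⟨p, -, d⟩ := rdP' (η := η) hu
      exact ⟨_, by simpa only [mul_inv_cancel_left] using r.mul d.rn⟩
    obtain ⟨x', rx⟩ := k r (((s3 t ht).1 ((m.com r y).1 g2)).resolve_left fun hP => by
      obtain ⟨p, hp, d⟩ := rdP' (η := η) hP
      exact g1 ((mul_mem_cancel_right (inv_mem (PL hp))).1 (hK (m.toK (r.mul d.inv.rn) (by simp)))))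
    obtain ⟨s', rs⟩ : ∃ s', RN η ι s' s := by
      rcases (s3 t' ht').2 (mt (m.com r' y).2 w1) with h | h
      · exact k r' h
      · obtain ⟨s', rs⟩ := k r' h
        exact ⟨_, by simpa only [inv_mul_cancel_left] using rx.inv.mul rs⟩
    refine ⟨s', m.memH rs hs, m.toK (rs.mul rs) s1, fun v hv h1 => ?_⟩
    obtain ⟨u, hu, d⟩ := rdP (ι := ι) hv
    exact (m.eq (rs.cj d) d.inv).2 (s2 u hu ((m.com d.rn b₀).1 h1))

end Tr

theorem Mdl.tr {r s : B} (m : Mdl η ι r s)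
    (f : FA (genLt (gs ι r s) 10) (genLt (gs ι r s) 8) (genLt (gs ι r s) 2) (gs ι r s 0) (gs ι r s 1) (gs ι r s 2)) :
    genLt (gs ι r s) 8 = PP ι ∧ gs ι r s 0 = ι y1 * ι y1 ∧ gs ι r s 1 = ι y1 ∧ gs ι r s 2 = ι w0 ∧
      Tr η ι (genLt (gs ι r s) 10) (genLt (gs ι r s) 2) := by
  have h1 : genLt (gs ι r s) 8 = PP ι := by
    rw [PP, ← genLt_nth]
    exact (Spor.map_genLt ι fun k hk => (Mdl.g1 hk).symm).symm
  have e0 : gs ι r s 0 = ι y1 * ι y1 := by rw [Mdl.g1 (by norm_num), eT0, map_mul]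
  have e1 : gs ι r s 1 = ι y1 := by rw [Mdl.g1 (by norm_num), eT1]
  have e2 : gs ι r s 2 = ι w0 := by rw [Mdl.g1 (by norm_num), eT2]
  rw [h1, e0, e1, e2] at f
  have m8 := inv_mem (mem_genLt (gs ι r s) (show 8 < 10 by norm_num))
  have m9 := inv_mem (mem_genLt (gs ι r s) (show 9 < 10 by norm_num))
  rw [Mdl.g8, inv_inv] at m8
  rw [Mdl.g9, inv_inv] at m9
  refine ⟨h1, e0, e1, e2, m.ker, genLt_le fun k hk => ?_, h1 ▸ genLt_le fun k hk => mem_genLt _ (by omega), f,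
    fun i hi => ?_⟩
  · interval_cases k
    exacts [e0 ▸ mul_mem (ZK y1_mem) (ZK y1_mem), e1 ▸ ZK y1_mem]
  · simp only [List.mem_cons, List.not_mem_nil, or_false] at hi
    rcases hi with rfl | rfl | rfl | rfl
    · exact ⟨1, one_mem _, 1, fun γ => by simp [σ_0]⟩
    · exact ⟨_, m8, (ev x0 w0 M1)⁻¹, fun γ => by rw [map_inv, inv_mul_cancel_left, m.actr]⟩
    · exact ⟨_, m9, (ev x0 w0 M9)⁻¹, fun γ => by rw [map_inv, inv_mul_cancel_left, m.acts]⟩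
    · refine ⟨_, mul_mem m8 m9, x0 * σ 1 (ev x0 w0 M9)⁻¹ * (ev x0 w0 M1)⁻¹, fun γ => ?_⟩
      simp only [σ_11, map_mul, map_inv, ← m.actr, ← m.acts]
      group

end

theorem Cv.facts [Finite G] (c : Cv η q) : PP η ≤ H1 η ∧ FA (H1 η) (PP η) (KK η) (η y1 * η y1) (η y1) (η w0) ∧
    ∀ h ∈ H1 η, Rt (PP η) (KK η) (η w0) h →
      ∃ b e, FB (H1 η) (PP η) (KK η) (η y1 * η y1) (η y1) (η w0) b e ∧ (KK η ≤ η.range →
        ∀ g ∈ H1 η, g ∉ η.range → g * η y1 = η y1 * g → ∀ w ∈ H1 η, w * η y1 ≠ η y1 * w →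
          ∃ s ∈ H1 η, s * s ∈ KK η ∧ ∀ v ∈ PP η, v * b = b * v → s * v * s⁻¹ = v⁻¹) := by
  obtain ⟨B, _, ι, r, s, m⟩ := c.exists_mdl
  have c' := m.cv c
  have hq := c.hq
  simp only [List.mem_cons, List.not_mem_nil, or_false] at hq
  rcases hq with rfl | rfl
  · have h := m.pc c rel0 tab0
    obtain ⟨h1, e0, e1, e2, t⟩ := m.tr (fa0 h)
    obtain ⟨b, e, x, s, f, f'⟩ := fb0 h
    rw [h1, e1] at f f'
    rw [e0, e2] at f
    exact ⟨t.PH, t.faG c c', fun _ _ _ => t.fbG c c' f f'⟩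
  · obtain ⟨f, f'⟩ := fa2 (m.pc c rel2 tab2)
    obtain ⟨h1, e0, e1, e2, t⟩ := m.tr f
    rw [h1, e2] at f'
    refine ⟨t.PH, t.faG c c', fun h hh h2 => ?_⟩
    obtain ⟨u, hu, r⟩ := t.loc c c' hh
    exact absurd (t.rt r hu h2) (f' u hu)

end Cfsg.Agent.Std.ON
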