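import Mathlib
import Cfsg.Agent.Std.WAct

/-!
# A standard subgroup of type `M₂₃` or `McL`: the wreath configuration
-/

set_option autoImplicit false
set_option linter.unusedSectionVars false

namespace Cfsg.Agent.Std.W

open Cfsg.Agent.Loc.Mss Cfsg.Agent.Wr Subgroup

universe u

/-- The symmetries of the square `Bool × Bool`: `σ` interchanges the coordinates, `α`, `β` flip them. -/
@[ext] structure D8 where
  σ : Bool
  α : Bool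
  β : Bool

namespace D8

instance : DecidableEq D8 := fun p q => decidable_of_iff (p.σ = q.σ ∧ p.α = q.α ∧ p.β = q.β) D8.ext_iff.symm

instance decAll (P : D8 → Prop) [DecidablePred P] : Decidable (∀ p, P p) :=
  decidable_of_iff (∀ a b c, P ⟨a, b, c⟩) ⟨fun h p => h p.σ p.α p.β, fun h _ _ _ => h _⟩

instance decEx (P : D8 → Prop) [DecidablePred P] : Decidable (∃ p, P p) :=
  decidable_of_iff (∃ a b c, P ⟨a, b, c⟩) ⟨fun ⟨_, _, _, h⟩ => ⟨_, h⟩, fun ⟨p, h⟩ => ⟨p.σ, p.α, p.β, h⟩⟩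

instance : Mul D8 := ⟨fun d e => ⟨xor d.σ e.σ, xor d.α (cond d.σ e.β e.α), xor d.β (cond d.σ e.α e.β)⟩⟩
instance : One D8 := ⟨⟨false, false, false⟩⟩
instance : Inv D8 := ⟨fun d => ⟨d.σ, cond d.σ d.β d.α, cond d.σ d.α d.β⟩⟩
instance : Group D8 := Group.ofLeftAxioms (by decide) (by decide) (by decide)

/-- First coordinate of the image of `(ε, δ)`. -/
def a1 (d : D8) (ε δ : Bool) : Bool := xor (cond d.σ δ ε) d.α
/-- Second coordinate of the image of `(ε, δ)`. -/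
def a2 (d : D8) (ε δ : Bool) : Bool := xor (cond d.σ ε δ) d.β
/-- The type of `t`. -/
def tau : D8 := ⟨true, false, false⟩

theorem a_mul : ∀ (d e : D8) (ε δ : Bool), (d * e).a1 ε δ = d.a1 (e.a1 ε δ) (e.a2 ε δ) ∧
    (d * e).a2 ε δ = d.a2 (e.a1 ε δ) (e.a2 ε δ) := by decide
theorem eq_of_a : ∀ d e : D8, (∀ ε δ, d.a1 ε δ = e.a1 ε δ ∧ d.a2 ε δ = e.a2 ε δ) → d = e := by decide
theorem pow_four : ∀ d : D8, d * d * (d * d) = 1 := by decide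

end D8

namespace En

variable {G : Type u} [Group G] (e : En G)

theorem ti : e.t⁻¹ = e.t := inv_eq_of_mul_eq_one_right e.tt
theorem tl (g : G) : e.t * (e.t * g) = g := by rw [← mul_assoc, e.tt, one_mul]
theorem tc {g : G} (h : g ∈ e.L) : g * e.t = e.t * g := mem_cent.1 e.tK g h
theorem t_ne : e.t ≠ 1 := fun h => e.tL (h ▸ one_mem _)
theorem tXt {g : G} (h : g ∈ e.X) : e.t * g * e.t ∈ e.X := by simpa [e.ti] using e.nX.conj_mem g h e.t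

/-- The second factor. -/
def θ2 : T0 →* G := MonoidHom.mk' (fun p => e.t * e.θ p * e.t) fun p q => by simp [mul_assoc, e.tl]

theorem θ2_def (p : T0) : e.θ2 p = e.t * e.θ p * e.t := rfl
theorem comm12 (p q : T0) : e.θ p * e.θ2 q = e.θ2 q * e.θ p := e.wre.comm p q
theorem diag (p : T0) : e.θ p * e.θ2 p = e.ι p := e.wre.diag p
theorem t_θ2 (p : T0) : e.t * e.θ2 p * e.t = e.θ p := by simp [θ2_def, mul_assoc, e.tl, e.tt]

/-- The embedding of `T0 × T0`. -/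
def Θ : T0 × T0 →* G := e.θ.noncommCoprod e.θ2 e.comm12

theorem Θ_def (p q : T0) : e.Θ (p, q) = e.θ p * e.θ2 q := rfl
theorem Θ_left (p : T0) : e.Θ (p, 1) = e.θ p := by simp [Θ_def]
theorem Θ_right (p : T0) : e.Θ (1, p) = e.θ2 p := by simp [Θ_def]
theorem Θ_diag (p : T0) : e.Θ (p, p) = e.ι p := e.diag p
theorem t_Θ (p q : T0) : e.t * e.Θ (p, q) * e.t = e.Θ (q, p) := by
  rw [Θ_def, Θ_def, e.comm12 q]
  simp [θ2_def, mul_assoc, e.tt]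
theorem Θ_mem (v : T0 × T0) : e.Θ v ∈ e.X := mul_mem (e.wre.mem _) (e.tXt (e.wre.mem _))

theorem θ_inj : Function.Injective e.θ := fun p q h => e.inj (by rw [← diag, ← diag, θ2_def, θ2_def, h])
theorem θ2_inj : Function.Injective e.θ2 := fun p q h => e.θ_inj (by rw [← t_θ2, h, t_θ2])

theorem Θ_inj : Function.Injective e.Θ := (injective_iff_map_eq_one _).2 fun ⟨a, b⟩ h => by
  have h1 : e.Θ (b, a) = 1 := by rw [← t_Θ, h, mul_one, e.tt]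
  have h2 : e.θ a = e.θ2 b⁻¹ := by rw [map_inv]; exact eq_inv_of_mul_eq_one_left h
  have h3 : e.θ2 a = e.θ b⁻¹ := by rw [map_inv]; exact eq_inv_of_mul_eq_one_right h1
  have h4 : a = b⁻¹ := e.inj (by rw [← diag, ← diag, h2, h3, comm12])
  have h5 : ∀ q, a * q = q * a := fun q => e.θ_inj (by rw [map_mul, map_mul, h2, comm12])
  have h6 : a * a = 1 := by rcases center_eq a (h5 _) (h5 _) (h5 _) with h | h <;> simp [h, W.z_sq]
  have h7 : a = 1 := e.ι_eq_one.1 (by rw [← diag, h3, ← h4, ← map_mul, h6, map_one])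
  rw [h7, eq_comm, inv_eq_one] at h4
  rw [h7, h4]; rfl

theorem Θ_eq {v v' : T0 × T0} : e.Θ v = e.Θ v' ↔ v = v' := e.Θ_inj.eq_iff

/-- The image of `A × B`. -/
def pr (A B : Subgroup T0) : Subgroup G := (A.prod B).map e.Θ

variable {A B A' B' : Subgroup T0}

theorem Θ_pr {p q : T0} : e.Θ (p, q) ∈ e.pr A B ↔ p ∈ A ∧ q ∈ B := mem_map_iff_mem e.Θ_inj
theorem mem_pr {g : G} : g ∈ e.pr A B ↔ ∃ p ∈ A, ∃ q ∈ B, e.Θ (p, q) = g :=
  ⟨fun ⟨v, hv, h⟩ => ⟨v.1, hv.1, v.2, hv.2, h⟩, fun ⟨p, hp, q, hq, h⟩ => ⟨(p, q), ⟨hp, hq⟩, h⟩⟩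
theorem mem_pr1 {g : G} : g ∈ e.pr A ⊥ ↔ ∃ p ∈ A, e.θ p = g := by simp [mem_pr, Θ_left]
theorem mem_pr2 {g : G} : g ∈ e.pr ⊥ A ↔ ∃ p ∈ A, e.θ2 p = g := by simp [mem_pr, Θ_right]
theorem θ_pr {p : T0} : e.θ p ∈ e.pr A B ↔ p ∈ A := by rw [← Θ_left, Θ_pr]; simp
theorem θ2_pr {p : T0} : e.θ2 p ∈ e.pr A B ↔ p ∈ B := by rw [← Θ_right, Θ_pr]; simp
theorem pr_mono (h : A ≤ A') (h' : B ≤ B') : e.pr A B ≤ e.pr A' B' := map_mono (prod_mono h h')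
theorem pr_le_X : e.pr A B ≤ e.X := by rintro _ ⟨v, -, rfl⟩; exact e.Θ_mem v
theorem pr_inf : e.pr A B ⊓ e.pr A' B' = e.pr (A ⊓ A') (B ⊓ B') := by
  rw [pr, pr, ← map_inf _ _ _ e.Θ_inj]
  congr 1
  ext v
  simp only [mem_inf, mem_prod]
  tauto
theorem pr_eq (h : e.pr A B = e.pr A' B') : A = A' ∧ B = B' :=
  ⟨ext fun p => by rw [← e.θ_pr (B := B), h, θ_pr], ext fun p => by rw [← e.θ2_pr (A := A), h, θ2_pr]⟩
theorem card_pr : Nat.card (e.pr A B) = Nat.card A * Nat.card B := by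
  rw [pr, card_map_of_injective e.Θ_inj, Nat.card_congr (prodEquiv A B).toEquiv, Nat.card_prod]
theorem pr_le {S : Subgroup G} (h : ∀ p ∈ A, e.θ p ∈ S) (h' : ∀ p ∈ B, e.θ2 p ∈ S) : e.pr A B ≤ S := fun _ hg => by
  obtain ⟨p, hp, q, hq, rfl⟩ := e.mem_pr.1 hg
  exact mul_mem (h p hp) (h' q hq)
theorem cj_t_pr : cj(e.t, e.pr A B) = e.pr B A := by
  have k : ∀ A B : Subgroup T0, cj(e.t, e.pr A B) ≤ e.pr B A := fun A B => cj_le_iff.2 fun g hg => by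
    obtain ⟨p, hp, q, hq, rfl⟩ := e.mem_pr.1 hg
    rw [ti, t_Θ, Θ_pr]
    exact ⟨hq, hp⟩
  exact le_antisymm (k A B) (le_cj_iff_inv_le.2 (e.ti.symm ▸ k B A))

/-- The first factor. -/
def T1 : Subgroup G := e.pr ⊤ ⊥
/-- The second factor. -/
def T2 : Subgroup G := e.pr ⊥ ⊤
/-- `T₁ × T₂`, of order `2 ^ 14`. -/
def S0 : Subgroup G := e.pr ⊤ ⊤
/-- The Thompson subgroup. -/
def Jt : Subgroup G := e.pr J0 J0
/-- Its centre. -/
def Zt : Subgroup G := e.pr Z0 Z0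
/-- The four elementary abelian subgroups of order 256. -/
def Wt (ε δ : Bool) : Subgroup G := e.pr (V ε) (V δ)
/-- The first factor of `Wt true true`. -/
def E1 : Subgroup G := e.pr E0 ⊥
/-- The central involution of `T₁`. -/
def z1 : G := e.θ (w 1)
/-- The central involution of `T₂`. -/
def z2 : G := e.θ2 (w 1)

theorem T1_eq : e.T1 = e.θ.range := ext fun _ => e.mem_pr1.trans (by simp)
theorem T2_eq : e.T2 = e.θ2.range := ext fun _ => e.mem_pr2.trans (by simp)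
theorem S0_eq : e.S0 = e.Θ.range := by rw [S0, pr, top_prod_top, ← MonoidHom.range_eq_map]
theorem θ_T1 (p : T0) : e.θ p ∈ e.T1 := e.θ_pr.2 trivial
theorem θ2_T2 (p : T0) : e.θ2 p ∈ e.T2 := e.θ2_pr.2 trivial
theorem Θ_S0 (v : T0 × T0) : e.Θ v ∈ e.S0 := e.Θ_pr.2 ⟨trivial, trivial⟩
theorem mem_S0 {g : G} : g ∈ e.S0 ↔ ∃ p q, e.Θ (p, q) = g := by simp [S0, mem_pr]
theorem pr_le_S0 : e.pr A B ≤ e.S0 := e.pr_mono le_top le_top
theorem T_le_S0 : e.T ≤ e.S0 := by rintro _ ⟨p, rfl⟩; exact e.Θ_diag p ▸ e.Θ_S0 _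
theorem sup_eq : e.T1 ⊔ e.T2 = e.S0 := le_antisymm (sup_le e.pr_le_S0 e.pr_le_S0)
  (e.pr_le (fun p _ => mem_sup_left (e.θ_T1 p)) fun p _ => mem_sup_right (e.θ2_T2 p))
theorem card_S0 : Nat.card e.S0 = 2 ^ 14 := by rw [S0, card_pr, card_top, T0.card_eq]; rfl
theorem pg_S0 : IsPGroup 2 e.S0 := IsPGroup.of_card e.card_S0
theorem card_Wt (ε δ : Bool) : Nat.card (e.Wt ε δ) = 256 := by rw [Wt, card_pr, card_V, card_V]
theorem Wt_sq {ε δ : Bool} {g : G} (h : g ∈ e.Wt ε δ) : g * g = 1 := by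
  obtain ⟨p, hp, q, hq, rfl⟩ := e.mem_pr.1 h
  rw [← map_mul, Prod.mk_mul_mk, V_sq ε p hp, V_sq δ q hq]
  exact map_one _
theorem Wt_le (ε δ : Bool) : e.Wt ε δ ≤ e.Jt := e.pr_mono (V_le ε) (V_le δ)
theorem Jt_le {S : Subgroup G} (h1 : e.Wt true true ≤ S) (h2 : e.Wt false false ≤ S) : e.Jt ≤ S :=
  e.pr_le (fun p hp => by
    obtain ⟨a, ha, b, hb, rfl⟩ := exists_EF p hp
    exact map_mul e.θ a b ▸ mul_mem (h1 (e.θ_pr.2 ha)) (h2 (e.θ_pr.2 hb))) fun p hp => by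
    obtain ⟨a, ha, b, hb, rfl⟩ := exists_EF p hp
    exact map_mul e.θ2 a b ▸ mul_mem (h1 (e.θ2_pr.2 ha)) (h2 (e.θ2_pr.2 hb))
theorem z12 : e.z1 * e.z2 = e.z := e.diag _
theorem t_z1 : e.t * e.z1 * e.t = e.z2 := rfl
theorem z1_S0 {g : G} (h : g ∈ e.S0) : e.z1 * g = g * e.z1 := by
  obtain ⟨p, q, rfl⟩ := e.mem_S0.1 h
  rw [z1, ← Θ_left, ← map_mul, ← map_mul, Prod.mk_mul_mk, Prod.mk_mul_mk, comm_z, one_mul, mul_one]
theorem z2_S0 {g : G} (h : g ∈ e.S0) : e.z2 * g = g * e.z2 := by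
  obtain ⟨p, q, rfl⟩ := e.mem_S0.1 h
  rw [z2, ← Θ_right, ← map_mul, ← map_mul, Prod.mk_mul_mk, Prod.mk_mul_mk, comm_z, one_mul, mul_one]
theorem t_norm_S0 : e.t ∈ 𝐍[e.S0] := cj_eq_iff.1 e.cj_t_pr
theorem t_norm_Jt : e.t ∈ 𝐍[e.Jt] := cj_eq_iff.1 e.cj_t_pr
theorem S0_norm [A.Normal] [B.Normal] : e.S0 ≤ 𝐍[e.pr A B] := norm_of_forall_cj_le fun g hg => cj_le_iff.2 fun a ha => by
  obtain ⟨p, q, rfl⟩ := e.mem_S0.1 hg
  obtain ⟨p', hp, q', hq, rfl⟩ := e.mem_pr.1 ha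
  rw [← map_inv, ← map_mul, ← map_mul]
  exact e.Θ_pr.2 ⟨Normal.conj_mem inferInstance _ hp p, Normal.conj_mem inferInstance _ hq q⟩
/-- The fixed points of `t` in `S0`. -/
theorem mem_T_of {g : G} (h : g ∈ e.S0) (ht : g * e.t = e.t * g) : g ∈ e.T := by
  obtain ⟨p, q, rfl⟩ := e.mem_S0.1 h
  have := e.t_Θ p q
  rw [← ht, mul_assoc, e.tt, mul_one, Θ_eq, Prod.mk.injEq] at this
  rw [← this.1, Θ_diag]
  exact e.ιT p
/-- An involution in the coset `S0 t` is conjugate to `t` in `T₁`. -/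
theorem conj_t {g : G} (h : g ∈ e.S0) (h2 : g * e.t * (g * e.t) = 1) : ∃ p, e.θ p * e.t * (e.θ p)⁻¹ = g * e.t := by
  obtain ⟨p, q, rfl⟩ := e.mem_S0.1 h
  have h1 : e.Θ (p, q) * e.Θ (q, p) = 1 := by rw [← e.t_Θ p q, ← h2]; group
  rw [← map_mul, map_eq_one_iff _ e.Θ_inj, Prod.mk_mul_mk, Prod.mk_eq_one] at h1
  refine ⟨p, ?_⟩
  rw [eq_inv_of_mul_eq_one_right h1.1, Θ_def, θ2_def]
  simp [mul_assoc, e.tt]

/-- Interchange the two factors. -/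
def flip : En G :=
  { e with
    θ := e.θ2
    wre :=
      { diag := fun p => by rw [t_θ2, ← comm12, diag]
        comm := fun p q => by rw [t_θ2, comm12]
        mem := fun p => e.tXt (e.wre.mem p)
        fusN := fun l hl => by
          obtain ⟨k, hk, h1, h2⟩ := e.wre.fusN l hl
          refine ⟨e.t * k * e.t, e.tXt hk, fun q => ?_, fun p q h => ?_⟩
          · calc _ = e.t * (k * (e.t * e.θ q * e.t)) * e.t := by simp [θ2_def, mul_assoc, e.tl, e.tt]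
              _ = _ := by rw [h1]; simp [θ2_def, mul_assoc, e.tl]
          · rw [θ2_def, θ2_def, ← h2 p q h]; simp [mul_assoc, e.tl, e.ti]
        fusF := fun l hl => by
          obtain ⟨k, hk, h1, h2⟩ := e.wre.fusF l hl
          refine ⟨e.t * k * e.t, e.tXt hk, fun q hq => ?_, fun p hp q h => ?_⟩
          · calc _ = e.t * (k * (e.t * e.θ q * e.t)) * e.t := by simp [θ2_def, mul_assoc, e.tl, e.tt]
              _ = _ := by rw [h1 q hq]; simp [θ2_def, mul_assoc, e.tl]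
          · rw [θ2_def, θ2_def, ← h2 p hp q h]; simp [mul_assoc, e.tl, e.ti] } }

theorem flip_θ (p : T0) : e.flip.θ p = e.θ2 p := rfl
theorem flip_θ2 (p : T0) : e.flip.θ2 p = e.θ p := e.t_θ2 p
theorem flip_Θ (p q : T0) : e.flip.Θ (p, q) = e.Θ (q, p) := by rw [Θ_def, flip_θ2, flip_θ, ← comm12, Θ_def]
theorem flip_pr : e.flip.pr A B = e.pr B A := ext fun g => by
  simp only [mem_pr, flip_Θ]
  exact ⟨fun ⟨p, hp, q, hq, h⟩ => ⟨q, hq, p, hp, h⟩, fun ⟨p, hp, q, hq, h⟩ => ⟨q, hq, p, hp, h⟩⟩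

/-- `n` permutes the four subgroups `Wt` like `d`. -/
def Ty (n : G) (d : D8) : Prop := ∀ ε δ, cj(n, e.Wt ε δ) = e.Wt (d.a1 ε δ) (d.a2 ε δ)

variable {e}

theorem Ty.mul {n n' : G} {d d' : D8} (h : e.Ty n d) (h' : e.Ty n' d') : e.Ty (n * n') (d * d') := fun ε δ => by
  rw [← cj_cj, h', h, (D8.a_mul d d' ε δ).1, (D8.a_mul d d' ε δ).2]
theorem Ty.uniq {n : G} {d d' : D8} (h : e.Ty n d) (h' : e.Ty n d') : d = d' := D8.eq_of_a d d' fun ε δ =>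
  (e.pr_eq ((h ε δ).symm.trans (h' ε δ))).imp (V_inj _ _) (V_inj _ _)
theorem ty_one {n : G} : e.Ty n 1 ↔ ∀ ε δ, n ∈ 𝐍[e.Wt ε δ] :=
  forall₂_congr fun ε δ => by rw [← cj_eq_iff]; cases ε <;> cases δ <;> rfl
theorem Ty.inv {n : G} {d : D8} (h : e.Ty n d) : e.Ty n⁻¹ d⁻¹ := fun ε δ => by
  have h1 := h (d⁻¹.a1 ε δ) (d⁻¹.a2 ε δ)
  rw [← (D8.a_mul d d⁻¹ ε δ).1, ← (D8.a_mul d d⁻¹ ε δ).2, mul_inv_cancel] at h1
  rw [← cj_inv_cj (e.Wt (d⁻¹.a1 ε δ) _) n, h1]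
  cases ε <;> cases δ <;> rfl
theorem ty_S0 {n : G} (h : n ∈ e.S0) : e.Ty n 1 := ty_one.2 fun _ _ => e.S0_norm h
theorem ty_t : e.Ty e.t D8.tau := fun ε δ => e.cj_t_pr.trans (by cases ε <;> cases δ <;> rfl)
theorem Ty.norm [Finite G] {n : G} {d : D8} (h : e.Ty n d) : n ∈ 𝐍[e.Jt] :=
  mem_norm_of_cj_le (cj_le_iff_le_inv.2 (e.Jt_le (cj_le_iff_le_inv.1 ((h _ _).le.trans (e.Wt_le _ _)))
    (cj_le_iff_le_inv.1 ((h _ _).le.trans (e.Wt_le _ _)))))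

variable (e)

/-- A Sylow 2-subgroup of `G`. -/
structure Sy (S : Subgroup G) : Prop where
  syl : Syl 2 S ⊤
  le : e.S0 ≤ S
  tS : e.t ∈ S
  nJ : S ≤ 𝐍[e.Jt]
  wc : ∀ g, cj(g, e.Jt) ≤ S → cj(g, e.Jt) = e.Jt
  mem0 : ∀ s ∈ S, e.Ty s 1 → s ∈ e.S0
  twoJ : ∀ g, e.Ty g 1 → g ∈ 𝐂[e.Zt] → ∀ n, g ^ 2 ^ n = 1 → g ∈ e.Jt
  twoD : ∀ g ∈ 𝐂[e.Wt true true], ∀ n, g ^ 2 ^ n = 1 → g ∈ e.Wt true true

/-- The fusion of the involutions of `S0` and of `t`. -/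
structure Sy2 (S : Subgroup G) : Prop extends e.Sy S where
  nz1 : ∀ g, g * e.z1 * g⁻¹ ≠ e.z
  inv12 : ∀ g p, p * p = 1 → g * e.θ p * g⁻¹ ∈ e.S0 → g * e.θ p * g⁻¹ ∈ e.T1 ∨ g * e.θ p * g⁻¹ ∈ e.T2
  perm : ∀ s ∈ S, ∃ d, e.Ty s d ∧ ∃ f1 f2 : T0 ≃* T0, (∀ ε p, f1 p ∈ V (xor ε (cond d.σ d.β d.α)) ↔ p ∈ V ε) ∧
    (∀ ε p, f2 p ∈ V (xor ε (cond d.σ d.α d.β)) ↔ p ∈ V ε) ∧
      ∀ p q, s * e.Θ (p, q) * s⁻¹ = e.Θ (cond d.σ (f2 q, f1 p) (f1 p, f2 q))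
  clA : ∀ g d, g * e.t * g⁻¹ ∈ S → e.Ty (g * e.t * g⁻¹) d → d.σ = true
  tX : e.t ∉ e.X

end En

end Cfsg.Agent.Std.W
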