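import Mathlib
import Cfsg.Agent.Std.WDblA

/-!
# The double of `E` is elementary abelian
-/

set_option autoImplicit false

namespace Cfsg.Agent.Std.W

open Cfsg.Agent.Loc.Mss Cfsg.Agent.Wr Subgroup

universe u

namespace DblA

theorem add_N {A : Type*} [AddCommGroup A] (Y R : A →+ A) (h4 : ∀ x : A, x + x + (x + x) = 0)
    (YY : ∀ x, Y (Y x) = x) (RRR : ∀ x, R (R (R x)) = x) (YR : ∀ x, Y (R (Y (R x))) = R (R (Y x))) {a : A}
    (Ra : R a = a) {n : A} (hn : n = Y a - a + R (Y a - a) + R (R (Y a - a))) : R n = n ∧ Y n = n := by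
  have h1 := YR a
  rw [Ra] at h1
  have h2 := congrArg Y h1
  subst hn
  simp only [map_add, map_sub, YY, RRR, Ra] at *
  exact ⟨by abel1, by linear_combination (norm := abel1) h1 - h2 + h4 a - h4 (Y a)⟩

theorem add_excl {A : Type*} [AddCommGroup A] (Y R S : A →+ A) (h4 : ∀ x : A, x + x + (x + x) = 0)
    (YY : ∀ x, Y (Y x) = x) (RRR : ∀ x, R (R (R x)) = x) (YR : ∀ x, Y (R (Y (R x))) = R (R (Y x)))
    (YS : ∀ x, Y (S x) = S (Y x)) (RS : ∀ x, R (S x) = S (R x)) (fp : ∀ x, x + S x + S (S x) = 0)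
    (k1 : ∀ n, n + n = 0 → R n = n → Y n = n → n = 0) (k2 : ∀ n, n + n = 0 → R n + S n + n = 0 → n = 0)
    {a0 u z : A} (hu : a0 + a0 = u) (Ru : R u = u) (Yu : Y u = u + z) (e1 : z + R z + R (R z) = 0)
    (e2 : R z = S z) : z = 0 := by
  obtain ⟨a, ha⟩ : ∃ a, a = a0 + R a0 + R (R a0) := ⟨_, rfl⟩
  have Ra : R a = a := by rw [ha]; simp only [map_add, RRR]; abel1
  have aa : a + a = u := by
    have h1 := congrArg R hu
    have h2 := congrArg R h1
    simp only [map_add, Ru] at h1 h2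
    linear_combination (norm := abel1) ha + ha + h1 + h2 - hu + h4 a0
  obtain ⟨c, hc⟩ : ∃ c, c = Y a - a := ⟨_, rfl⟩
  have cc : c + c = z := by
    have h1 := congrArg Y aa
    rw [map_add, Yu] at h1
    linear_combination (norm := abel1) hc + hc + h1 - aa
  have c1 := congrArg R cc
  have c2 := congrArg R c1
  have c3 := congrArg S cc
  simp only [map_add] at c1 c2 c3
  obtain ⟨n1, n2⟩ := add_N Y R h4 YY RRR YR Ra rfl
  rw [← hc] at n1 n2
  have N0 := k1 _ (by linear_combination (norm := abel1) cc + c1 + c2 + e1) n1 n2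
  have d0 := k2 (R c - S c) (by linear_combination (norm := abel1) c1 - c3 + e2) (by
    simp only [map_sub, RS]; linear_combination (norm := abel1) N0 - fp c)
  have h1 := congrArg Y d0
  have h2 : Y c = -c := by rw [hc, map_sub, YY]; abel1
  have h3 : Y (R c) = R (R c) - c := by
    have := YR a
    rw [Ra] at this
    simp only [hc, map_sub, Ra, this]; abel1
  rw [map_sub, map_zero, YS, h2, map_neg, h3] at h1
  linear_combination (norm := abel1) N0 - h1 - d0 - cc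

variable {G : Type u} [Group G]

theorem y_r1 (s : Lw G) (b : K4) : s.ι (y b) * s.r1 * s.ι (y b) * s.r1 = s.r1 * s.r1 * s.ι (y b) := by
  have h1 := s.act1 _ (F0_le (y_mem b))
  have h2 := s.act1 _ (rho1_J _ (F0_le (y_mem b)))
  rw [← (by decide +kernel : ∀ b, y b * rho 1 om (y b) = rho 1 om (rho 1 om (y b))), map_mul, ← h1] at h2
  calc _ = s.ι (y b) * (s.r1 * s.ι (y b) * s.r1⁻¹) * s.r1 * s.r1 := by group
    _ = _ := by rw [← h2]; group

/-- The action on an abelian subgroup, written additively. -/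
theorem exists_act {D : Subgroup G} [IsMulCommutative D] {n : G} (hn : n ∈ 𝐍[D]) :
    ∃ σ : Additive D →+ Additive D, ∀ y, ((σ y).toMul : G) = n * y.toMul * n⁻¹ :=
  ⟨AddMonoidHom.mk' (fun y => Additive.ofMul ⟨n * y.toMul * n⁻¹, conj_mem_of_norm hn y.toMul.2⟩)
    fun y y' => congrArg Additive.ofMul (Subtype.ext (by simp)), fun _ => rfl⟩

theorem add_ext {D : Subgroup G} {y y' : Additive D} : y = y' ↔ (y.toMul : G) = y'.toMul :=
  ⟨fun e => e ▸ rfl, fun e => Additive.toMul.injective (Subtype.ext e)⟩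

theorem conj_congr {g g' : G} (h : g = g') (x : G) : g * x * g⁻¹ = g' * x * g'⁻¹ := h ▸ rfl

variable [Finite G] (c : Co G)

theorem not_four (h2 : ∀ d ∈ D0 c, d * d = ph c.t d) : False := by
  have hD := ab c
  haveI : IsMulCommutative (D0 c) := ⟨⟨fun x y => Subtype.ext (hD.cm _ x.2 _ y.2)⟩⟩
  letI : CommGroup (D0 c) := { (inferInstance : Group (D0 c)) with mul_comm := fun x y => Subtype.ext (hD.cm _ x.2 _ y.2) }
  obtain ⟨Y, hY⟩ := exists_act (P_norm c (c.ιP (y 1)))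
  obtain ⟨R, hR⟩ := exists_act (P_norm c c.r1P)
  obtain ⟨S, hS⟩ := exists_act (P_norm c c.r2P)
  have kv : ∀ n : Additive (D0 c), n + n = 0 → ∃ p ∈ E0, c.ι p = n.toMul := fun n e =>
    hD.ker' n.toMul.2 ((h2 _ n.toMul.2).symm.trans (add_ext.1 e))
  obtain ⟨a, ha, ea⟩ := hD.onto _ (c.ι_E.2 (x_mem 1))
  have hz := E0_le (Z0_leE (w_mem 1))
  refine c.z_ne (add_ext.1 (add_excl Y R S (fun x => add_ext.2 (c.sq_E ((pre c).sq_mem x.toMul.2.1)))
    (fun x => add_ext.2 ?_) (fun x => add_ext.2 ?_) (fun x => add_ext.2 ?_) (fun x => add_ext.2 ?_)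
    (fun x => add_ext.2 ?_) (fun x => add_ext.2 ?_) (fun n e e1 e2 => add_ext.2 ?_) (fun n e e1 => add_ext.2 ?_)
    (a0 := Additive.ofMul ⟨a, ha⟩) (u := Additive.ofMul ⟨_, hD.le (c.ι_E.2 (x_mem 1))⟩)
    (z := Additive.ofMul ⟨_, hD.le c.z_E⟩) (add_ext.2 ((h2 a ha).trans ea)) (add_ext.2 ?_) (add_ext.2 ?_)
    (add_ext.2 ?_) (add_ext.2 ?_)))
  · have : c.ι (y 1) * c.ι (y 1) = 1 := c.sq_F (c.ι_F.2 (y_mem 1))
    simpa [hY, mul_assoc] using conj_congr this x.toMul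
  · simpa [hR, mul_assoc, pow_three] using conj_congr c.r1_cube x.toMul
  · simpa [hR, hY, mul_assoc] using conj_congr (y_r1 c.toLw 1) x.toMul
  · simpa [hS, hY, mul_assoc] using conj_congr (y_r2 c.toLw 1).symm x.toMul
  · simpa [hS, hR, mul_assoc] using conj_congr c.r12 x.toMul
  · have h3 : c.r2 * c.r2 = c.r2⁻¹ := eq_inv_of_mul_eq_one_left (by rw [← c.r2_cube, pow_three'])
    have h4 := conj_congr h3 x.toMul
    have h5 := fpf c x.toMul.2
    rw [inv_inv] at h4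
    rw [nr, ← h4] at h5
    simpa [hS, mul_assoc] using h5
  · obtain ⟨p, hp, e3⟩ := kv n e
    rw [add_ext, hR, ← e3, c.act1 _ (E0_le hp), c.ι_eq] at e1
    rw [add_ext, hY, ← e3, c.ι_conj, c.ι_eq] at e2
    rw [← e3, (by decide +kernel : ∀ p ∈ E0, rho 1 om p = p → y 1 * p * (y 1)⁻¹ = p → p = 1) p hp e1 e2, map_one]
    rfl
  · obtain ⟨p, hp, e3⟩ := kv n e
    have e4 : c.r1 * n.toMul * c.r1⁻¹ * (c.r2 * n.toMul * c.r2⁻¹) * n.toMul = 1 := by
      simpa only [toMul_add, coe_mul, hR, hS, toMul_zero, coe_one] using add_ext.1 e1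
    rw [← e3, c.act1 _ (E0_le hp), c.act2 _ (E0_le hp), ← map_mul, ← map_mul, c.ι_eq_one] at e4
    rw [← e3, (by decide +kernel : ∀ p ∈ E0, rho 1 om p * rho om 1 p * p = 1 → p = 1) p hp e4, map_one]
    rfl
  · rw [hR]
    exact (c.act1 _ (E0_le (x_mem 1))).trans (congrArg c.ι (by decide +kernel))
  · rw [hY]
    exact (c.ι_conj _ _).trans ((congrArg c.ι (by decide +kernel)).trans (map_mul c.ι (x 1) (w 1)))
  · simp only [toMul_add, coe_mul, hR, toMul_ofMul, Lw.z]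
    rw [c.act1 _ hz, c.act1 _ (rho1_J _ hz), ← map_mul, ← map_mul]
    exact c.ι_eq_one.2 (by decide +kernel)
  · rw [hR, hS]
    exact (c.act1 _ hz).trans ((congrArg c.ι (by decide +kernel)).trans (c.act2 _ hz).symm)

theorem sq_one : ∀ d ∈ D0 c, d * d = 1 := by
  have hD := ab c
  have k : ∀ e, ∃ f, e ∈ c.E → f ∈ c.E ∧ ∀ d ∈ D0 c, ph c.t d = e → d * d = f := fun e => by
    by_cases he : e ∈ c.E
    · obtain ⟨a, ha, rfl⟩ := hD.onto e he
      refine ⟨a * a, fun _ => ⟨(pre c).sq_mem ha.1, fun d hd e => ?_⟩⟩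
      obtain ⟨v, hv, rfl⟩ := same c ha hd e.symm
      exact (pre c).sq_mul_V ha.1 hv
    · exact ⟨1, fun h => absurd h he⟩
  choose ε hε using k
  rcases c.endo_E ε (fun v hv => (hε v hv).1) (fun a ha b hb => by
      obtain ⟨a, ha', rfl⟩ := hD.onto a ha
      obtain ⟨b, hb', rfl⟩ := hD.onto b hb
      rw [← (hε _ ha).2 a ha' rfl, ← (hε _ hb).2 b hb' rfl,
        ← (hε _ (mul_mem ha hb)).2 _ (mul_mem ha' hb') (hD.mul' ha' hb'), mul_assoc, ← mul_assoc b,
        hD.cm b hb' a ha']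
      group)
    (fun p hp v hv => by
      obtain ⟨a, ha, rfl⟩ := hD.onto v hv
      rw [← (hε _ hv).2 a ha rfl, ← (hε _ (conj_mem_of_norm (c.P_norm_E hp) hv)).2 _
        (conj_mem_of_norm (P_norm c hp) ha) (ph_conj (c.tc (c.P_le_L hp)) a), conj_mul]) with h | h
  · exact fun d hd => ((hε _ hd.1.2).2 d hd rfl).trans (h _ hd.1.2)
  · exact (not_four c fun d hd => ((hε _ hd.1.2).2 d hd rfl).trans (h _ hd.1.2)).elim

end DblA

variable {G : Type u} [Group G] [Finite G]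

theorem Co.exists_db (c : Co G) : ∃ D, c.Db D := by
  refine ⟨DblA.D0 c, (DblA.ab c).dbl (DblA.sq_one c), fun d h1 h2 h3 h4 => ?_, fun d hd => DblA.fpf c hd⟩
  refine (DblA.mem_or c ⟨h1, h2⟩).elim id fun h => ?_
  have h5 := DblA.sq_one c _ h
  rw [(DblA.pre c).sq_mul_t ⟨h1, h2⟩, h3, one_mul] at h5
  exact DblA.E_le c (h4 h5)

end Cfsg.Agent.Std.W
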