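import Mathlib
import Cfsg.Agent.Rec.HN.Cover

/-! More named elements and small subsets of `2.HS.2`. -/

set_option autoImplicit false
set_option maxRecDepth 100000
set_option exponentiation.threshold 100000

namespace Cfsg.Agent.Std.HN

open Cfsg.Agent.Spor Cfsg.Agent.Rec Cfsg.Agent.Rec.HN

/-- Words for the new elements. -/
def wM : List (List ℕ) := [[31, 2], [33, 33], [10, 7, 2], [24, 21, 3], [34, 21, 19], [2, 8], [16, 2, 8, 16, 16], [29, 24, 23], [29, 12, 2], [3, 9]]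

/-- Their codes. -/
def cM0 : List ℕ := [(nat_lit 0x6bf51c4d03d), (nat_lit 0x3b4964f643a), (nat_lit 0xa8ed7c7505a), (nat_lit 0x3e493976d20), (nat_lit 0x7b23e5c7975), (nat_lit 0x67e61c2e0e9), (nat_lit 0xea3700d040), (nat_lit 0xfe11c67914), (nat_lit 0x72e49e9e52c), (nat_lit 0x172b500d913)]

/-- The codes of all names. -/
def cM : List ℕ := [(nat_lit 0x40e80d913), (nat_lit 0x28a8d448d6a), (nat_lit 0x27e8d04956d), (nat_lit 0x178b540c800), (nat_lit 0x12f13800019), (nat_lit 0x3081ceb5091), (nat_lit 0x9168d448d6a), (nat_lit 0x672bc0114f5), (nat_lit 0x42aa757f370), (nat_lit 0x67b4ade9a76), (nat_lit 0x1785780c800), (nat_lit 0x11e37054310), (nat_lit 0x415e00c800), (nat_lit 0x91f80e03f), (nat_lit 0x710e00b6991), (nat_lit 0x1c039c80b9e), (nat_lit 0x6467aa3296f), (nat_lit 0x3e0b0048d6a), (nat_lit 0x13f3a8a1cf2), (nat_lit 0x53a5907585b), (nat_lit 0x6bf51c4d03d), (nat_lit 0x3b4964f643a), (nat_lit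 0xa8ed7c7505a), (nat_lit 0x3e493976d20), (nat_lit 0x7b23e5c7975), (nat_lit 0x67e61c2e0e9), (nat_lit 0xea3700d040), (nat_lit 0xfe11c67914), (nat_lit 0x72e49e9e52c), (nat_lit 0x172b500d913)]

theorem wM_ok : beqL (wM.map (evC A cN)) cM0 = true := by decide +kernel

/-- A listed subgroup. -/
noncomputable def F0_t : ST :=
(.node (nat_lit 0x45936a294e9) (.node (nat_lit 0x27e8d04956d) (.node (nat_lit 0x172b500d913) (.leaf (nat_lit 0x20e40c800) (nat_lit 0))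
 (.leaf (nat_lit 0x172b500d913) (nat_lit 257))
) (.node (nat_lit 0x3b4964f643a) (.leaf (nat_lit 0x27e8d04956d) (nat_lit 256))
 (.leaf (nat_lit 0x3b4964f643a) (nat_lit 258))
)) (.node (nat_lit 0x91699c48d6a) (.node (nat_lit 0x85739629ce7) (.leaf (nat_lit 0x45936a294e9) (nat_lit 514))
 (.leaf (nat_lit 0x85739629ce7) (nat_lit 770))
) (.node (nat_lit 0xab01a8f5c39) (.leaf (nat_lit 0x91699c48d6a) (nat_lit 513))
 (.leaf (nat_lit 0xab01a8f5c39) (nat_lit 514))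
)))

theorem F0_ok : genOK A [(nat_lit 0x27e8d04956d), (nat_lit 0x172b500d913), (nat_lit 0x3b4964f643a)] F0_t (nat_lit 8) = true := by decide +kernel

/-- A listed subgroup. -/
noncomputable def F_t : ST :=
(.node (nat_lit 0x45936a294e9) (.node (nat_lit 0x27e8d04956d) (.node (nat_lit 0x172b500d913) (.node (nat_lit 0x40e80d913) (.leaf (nat_lit 0x20e40c800) (nat_lit 0))
 (.leaf (nat_lit 0x40e80d913) (nat_lit 256))
) (.node (nat_lit 0x178b540c800) (.leaf (nat_lit 0x172b500d913) (nat_lit 514))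
 (.leaf (nat_lit 0x178b540c800) (nat_lit 258))
)) (.node (nat_lit 0x3b4964f643a) (.node (nat_lit 0x28a8d448d6a) (.leaf (nat_lit 0x27e8d04956d) (nat_lit 257))
 (.leaf (nat_lit 0x28a8d448d6a) (nat_lit 513))
) (.node (nat_lit 0x3b8968f5c39) (.leaf (nat_lit 0x3b4964f643a) (nat_lit 259))
 (.leaf (nat_lit 0x3b8968f5c39) (nat_lit 515))
))) (.node (nat_lit 0x9149a44956d) (.node (nat_lit 0x85739629ce7) (.node (nat_lit 0x45b36e29ce7) (.leaf (nat_lit 0x45936a294e9) (nat_lit 515))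
 (.leaf (nat_lit 0x45b36e29ce7) (nat_lit 771))
) (.node (nat_lit 0x86b392294e9) (.leaf (nat_lit 0x85739629ce7) (nat_lit 1027))
 (.leaf (nat_lit 0x86b392294e9) (nat_lit 771))
)) (.node (nat_lit 0xab01a8f5c39) (.node (nat_lit 0x91699c48d6a) (.leaf (nat_lit 0x9149a44956d) (nat_lit 514))
 (.leaf (nat_lit 0x91699c48d6a) (nat_lit 770))
) (.node (nat_lit 0xab2194f643a) (.leaf (nat_lit 0xab01a8f5c39) (nat_lit 771))
 (.leaf (nat_lit 0xab2194f643a) (nat_lit 515))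
))))

theorem F_ok : genOK A [(nat_lit 0x40e80d913), (nat_lit 0x27e8d04956d), (nat_lit 0x178b540c800), (nat_lit 0x3b4964f643a)] F_t (nat_lit 16) = true := by decide +kernel

/-- A listed class. -/
noncomputable def X1_t : ST :=
(.node (nat_lit 0x45e4182d8eb) (.node (nat_lit 0x28f4c04856c) (.node (nat_lit 0xeb1800d040) (.node (nat_lit 0x4646817b14) (.node (nat_lit 0x1074e0611b) (.node (nat_lit 0xe9b43b018) (.node (nat_lit 0xe74a05118) (.leaf (nat_lit 0xe7499fc83) (nat_lit 1536))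
 (.leaf (nat_lit 0xe74a05118) (nat_lit 1793))
) (.node (nat_lit 0xe9b627973) (.leaf (nat_lit 0xe9b43b018) (nat_lit 1280))
 (.node (nat_lit 0x1074d9ec82) (.leaf (nat_lit 0xe9b627973) (nat_lit 1793))
 (.leaf (nat_lit 0x1074d9ec82) (nat_lit 2305))
))) (.node (nat_lit 0x109b227172) (.node (nat_lit 0x109b03a816) (.leaf (nat_lit 0x1074e0611b) (nat_lit 1024))
 (.leaf (nat_lit 0x109b03a816) (nat_lit 2049))
) (.node (nat_lit 0x345e803ab9) (.leaf (nat_lit 0x109b227172) (nat_lit 1536))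
 (.node (nat_lit 0x385d0042bc) (.leaf (nat_lit 0x345e803ab9) (nat_lit 1025))
 (.leaf (nat_lit 0x385d0042bc) (nat_lit 1793))
)))) (.node (nat_lit 0xd8c3625bf8) (.node (nat_lit 0xb71de01cb2) (.node (nat_lit 0x4848418316) (.leaf (nat_lit 0x4646817b14) (nat_lit 1792))
 (.leaf (nat_lit 0x4848418316) (nat_lit 1537))
) (.node (nat_lit 0xb91ee014b0) (.leaf (nat_lit 0xb71de01cb2) (nat_lit 2304))
 (.node (nat_lit 0xd6c32253f6) (.leaf (nat_lit 0xb91ee014b0) (nat_lit 2049))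
 (.leaf (nat_lit 0xd6c32253f6) (nat_lit 2305))
))) (.node (nat_lit 0xe46140e03f) (.node (nat_lit 0xe245d9b91a) (.leaf (nat_lit 0xd8c3625bf8) (nat_lit 2049))
 (.leaf (nat_lit 0xe245d9b91a) (nat_lit 1537))
) (.node (nat_lit 0xe66100d040) (.leaf (nat_lit 0xe46140e03f) (nat_lit 1536))
 (.node (nat_lit 0xe84599b121) (.leaf (nat_lit 0xe66100d040) (nat_lit 1793))
 (.leaf (nat_lit 0xe84599b121) (nat_lit 1281))
))))) (.node (nat_lit 0x19eae19b121) (.node (nat_lit 0x11e3700d040) (.node (nat_lit 0x1172bc402fa) (.node (nat_lit 0xed1840e03f) (.leaf (nat_lit 0xeb1800d040) (nat_lit 1281))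
 (.leaf (nat_lit 0xed1840e03f) (nat_lit 2049))
) (.node (nat_lit 0x11b2b83eafb) (.leaf (nat_lit 0x1172bc402fa) (nat_lit 1536))
 (.node (nat_lit 0x11c3840e03f) (.leaf (nat_lit 0x11b2b83eafb) (nat_lit 1793))
 (.leaf (nat_lit 0x11c3840e03f) (nat_lit 2305))
))) (.node (nat_lit 0x1555aa92a34) (.node (nat_lit 0x1515b692235) (.leaf (nat_lit 0x11e3700d040) (nat_lit 1537))
 (.leaf (nat_lit 0x1515b692235) (nat_lit 1280))
) (.node (nat_lit 0x18b551f08a6) (.leaf (nat_lit 0x1555aa92a34) (nat_lit 2048))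
 (.node (nat_lit 0x18d555f28a5) (.leaf (nat_lit 0x18b551f08a6) (nat_lit 2048))
 (.leaf (nat_lit 0x18d555f28a5) (nat_lit 1280))
)))) (.node (nat_lit 0x272dc55029d) (.node (nat_lit 0x1ce380b44b7) (.node (nat_lit 0x1a0b219b91a) (.leaf (nat_lit 0x19eae19b121) (nat_lit 2048))
 (.leaf (nat_lit 0x1a0b219b91a) (nat_lit 769))
) (.node (nat_lit 0x1d837cb4cb6) (.leaf (nat_lit 0x1ce380b44b7) (nat_lit 2048))
 (.node (nat_lit 0x270dc151298) (.leaf (nat_lit 0x1d837cb4cb6) (nat_lit 769))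
 (.leaf (nat_lit 0x270dc151298) (nat_lit 1537))
))) (.node (nat_lit 0x27b4240e03f) (.node (nat_lit 0x2794200d040) (.leaf (nat_lit 0x272dc55029d) (nat_lit 1792))
 (.leaf (nat_lit 0x2794200d040) (nat_lit 1793))
) (.node (nat_lit 0x28209d9aa9b) (.leaf (nat_lit 0x27b4240e03f) (nat_lit 2049))
 (.node (nat_lit 0x28d4c844d6b) (.leaf (nat_lit 0x28209d9aa9b) (nat_lit 2049))
 (.leaf (nat_lit 0x28d4c844d6b) (nat_lit 2305))
)))))) (.node (nat_lit 0x38ac59bf283) (.node (nat_lit 0x37d2e0b5269) (.node (nat_lit 0x2c951c66211) (.node (nat_lit 0x298001ca03a) (.node (nat_lit 0x2960959a29a) (.leaf (nat_lit 0x28f4c04856c) (nat_lit 1024))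
 (.leaf (nat_lit 0x2960959a29a) (nat_lit 2305))
) (.node (nat_lit 0x29a44dca839) (.leaf (nat_lit 0x298001ca03a) (nat_lit 2049))
 (.node (nat_lit 0x2c82840f012) (.leaf (nat_lit 0x29a44dca839) (nat_lit 2304))
 (.leaf (nat_lit 0x2c82840f012) (nat_lit 1793))
))) (.node (nat_lit 0x2cf51863a0e) (.node (nat_lit 0x2ce2880e811) (.leaf (nat_lit 0x2c951c66211) (nat_lit 1537))
 (.leaf (nat_lit 0x2ce2880e811) (nat_lit 1537))
) (.node (nat_lit 0x329061d1c77) (.leaf (nat_lit 0x2cf51863a0e) (nat_lit 1793))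
 (.node (nat_lit 0x32b065d147b) (.leaf (nat_lit 0x329061d1c77) (nat_lit 1025))
 (.leaf (nat_lit 0x32b065d147b) (nat_lit 1280))
)))) (.node (nat_lit 0x37f51d323f5) (.node (nat_lit 0x37ec51c2284) (.node (nat_lit 0x37ea6020ab8) (.leaf (nat_lit 0x37d2e0b5269) (nat_lit 1537))
 (.leaf (nat_lit 0x37ea6020ab8) (nat_lit 1025))
) (.node (nat_lit 0x37f06cf5c39) (.leaf (nat_lit 0x37ec51c2284) (nat_lit 2049))
 (.node (nat_lit 0x37f2ac4856c) (.leaf (nat_lit 0x37f06cf5c39) (nat_lit 2048))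
 (.leaf (nat_lit 0x37f2ac4856c) (nat_lit 1025))
))) (.node (nat_lit 0x38136444d6b) (.node (nat_lit 0x37f51e23500) (.leaf (nat_lit 0x37f51d323f5) (nat_lit 2049))
 (.leaf (nat_lit 0x37f51e23500) (nat_lit 1537))
) (.node (nat_lit 0x3852e8b2a67) (.leaf (nat_lit 0x38136444d6b) (nat_lit 1281))
 (.node (nat_lit 0x38aa74212c8) (.leaf (nat_lit 0x3852e8b2a67) (nat_lit 1792))
 (.leaf (nat_lit 0x38aa74212c8) (nat_lit 1792))
))))) (.node (nat_lit 0x4151904856c) (.node (nat_lit 0x3913604856c) (.node (nat_lit 0x38b29c44d6b) (.node (nat_lit 0x38b068f643a) (.leaf (nat_lit 0x38ac59bf283) (nat_lit 1281))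
 (.leaf (nat_lit 0x38b068f643a) (nat_lit 1281))
) (.node (nat_lit 0x38b51932bf4) (.leaf (nat_lit 0x38b29c44d6b) (nat_lit 1792))
 (.node (nat_lit 0x38b51a23d01) (.leaf (nat_lit 0x38b51932bf4) (nat_lit 1281))
 (.leaf (nat_lit 0x38b51a23d01) (nat_lit 2305))
))) (.node (nat_lit 0x410ae648418) (.node (nat_lit 0x410ae639ce3) (.leaf (nat_lit 0x3913604856c) (nat_lit 1536))
 (.leaf (nat_lit 0x410ae639ce3) (nat_lit 2049))
) (.node (nat_lit 0x412af2394e2) (.leaf (nat_lit 0x410ae648418) (nat_lit 1793))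
 (.node (nat_lit 0x412af247419) (.leaf (nat_lit 0x412af2394e2) (nat_lit 1793))
 (.leaf (nat_lit 0x412af247419) (nat_lit 2049))
)))) (.node (nat_lit 0x42b51d77cc5) (.node (nat_lit 0x426288d245b) (.node (nat_lit 0x41719444d6b) (.leaf (nat_lit 0x4151904856c) (nat_lit 2049))
 (.leaf (nat_lit 0x41719444d6b) (nat_lit 1280))
) (.node (nat_lit 0x427519774c4) (.leaf (nat_lit 0x426288d245b) (nat_lit 1536))
 (.node (nat_lit 0x42a284d1459) (.leaf (nat_lit 0x427519774c4) (nat_lit 1793))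
 (.leaf (nat_lit 0x42a284d1459) (nat_lit 1281))
))) (.node (nat_lit 0x4511f44d03d) (.node (nat_lit 0x44c3517e371) (.leaf (nat_lit 0x42b51d77cc5) (nat_lit 1537))
 (.leaf (nat_lit 0x44c3517e371) (nat_lit 1280))
) (.node (nat_lit 0x4531f84e03e) (.leaf (nat_lit 0x4511f44d03d) (nat_lit 1537))
 (.node (nat_lit 0x4563557f370) (.leaf (nat_lit 0x4531f84e03e) (nat_lit 1280))
 (.leaf (nat_lit 0x4563557f370) (nat_lit 1537))
))))))) (.node (nat_lit 0x7b14084e03e) (.node (nat_lit 0x6bd06c4e03e) (.node (nat_lit 0x67a6202d8eb) (.node (nat_lit 0x54efecedc10) (.node (nat_lit 0x492dfc01a40) (.node (nat_lit 0x4624142e0e9) (.leaf (nat_lit 0x45e4182d8eb) (nat_lit 2049))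
 (.leaf (nat_lit 0x4624142e0e9) (nat_lit 1793))
) (.node (nat_lit 0x496e0402241) (.leaf (nat_lit 0x492dfc01a40) (nat_lit 2561))
 (.node (nat_lit 0x54cff0efc11) (.leaf (nat_lit 0x496e0402241) (nat_lit 1793))
 (.leaf (nat_lit 0x54cff0efc11) (nat_lit 257))
))) (.node (nat_lit 0x5bf389d1c77) (.node (nat_lit 0x5bd38dd147b) (.leaf (nat_lit 0x54efecedc10) (nat_lit 2560))
 (.leaf (nat_lit 0x5bd38dd147b) (nat_lit 1536))
) (.node (nat_lit 0x5fa9e91b506) (.leaf (nat_lit 0x5bf389d1c77) (nat_lit 768))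
 (.node (nat_lit 0x5fe9fd1bd05) (.leaf (nat_lit 0x5fa9e91b506) (nat_lit 2048))
 (.leaf (nat_lit 0x5fe9fd1bd05) (nat_lit 1281))
)))) (.node (nat_lit 0x6a6602adaf8) (.node (nat_lit 0x6944c06bce6) (.node (nat_lit 0x67e61c2e0e9) (.leaf (nat_lit 0x67a6202d8eb) (nat_lit 2305))
 (.leaf (nat_lit 0x67e61c2e0e9) (nat_lit 0))
) (.node (nat_lit 0x6964c86d4e8) (.leaf (nat_lit 0x6944c06bce6) (nat_lit 1793))
 (.node (nat_lit 0x6a4606ad2f9) (.leaf (nat_lit 0x6964c86d4e8) (nat_lit 2048))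
 (.leaf (nat_lit 0x6a4606ad2f9) (nat_lit 1792))
))) (.node (nat_lit 0x6bc2864e1d1) (.node (nat_lit 0x6bc2848924f) (.leaf (nat_lit 0x6a6602adaf8) (nat_lit 1536))
 (.leaf (nat_lit 0x6bc2848924f) (nat_lit 1792))
) (.node (nat_lit 0x6bca604a917) (.leaf (nat_lit 0x6bc2864e1d1) (nat_lit 2305))
 (.node (nat_lit 0x6bcc50e78d4) (.leaf (nat_lit 0x6bca604a917) (nat_lit 1281))
 (.leaf (nat_lit 0x6bcc50e78d4) (nat_lit 1793))
))))) (.node (nat_lit 0x74034c4d03d) (.node (nat_lit 0x6bec58e70d5) (.node (nat_lit 0x6be28888a4d) (.node (nat_lit 0x6bd2ae29ce7) (.leaf (nat_lit 0x6bd06c4e03e) (nat_lit 1793))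
 (.leaf (nat_lit 0x6bd2ae29ce7) (nat_lit 1280))
) (.node (nat_lit 0x6be28a4f1d0) (.leaf (nat_lit 0x6be28888a4d) (nat_lit 1537))
 (.node (nat_lit 0x6bea7449916) (.leaf (nat_lit 0x6be28a4f1d0) (nat_lit 1536))
 (.leaf (nat_lit 0x6bea7449916) (nat_lit 2048))
))) (.node (nat_lit 0x6bf29e294e9) (.node (nat_lit 0x6bf0684d03d) (.leaf (nat_lit 0x6bec58e70d5) (nat_lit 1537))
 (.leaf (nat_lit 0x6bf0684d03d) (nat_lit 2048))
) (.node (nat_lit 0x70757e3825e) (.leaf (nat_lit 0x6bf29e294e9) (nat_lit 1537))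
 (.node (nat_lit 0x70b58638a5f) (.leaf (nat_lit 0x70757e3825e) (nat_lit 1537))
 (.leaf (nat_lit 0x70b58638a5f) (nat_lit 2305))
)))) (.node (nat_lit 0x75e48cc9847) (.node (nat_lit 0x74c91c5eae9) (.node (nat_lit 0x7423444e03e) (.leaf (nat_lit 0x74034c4d03d) (nat_lit 2049))
 (.leaf (nat_lit 0x7423444e03e) (nat_lit 1281))
) (.node (nat_lit 0x74e9185f2eb) (.leaf (nat_lit 0x74c91c5eae9) (nat_lit 1793))
 (.node (nat_lit 0x75c488c6845) (.leaf (nat_lit 0x74e9185f2eb) (nat_lit 1024))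
 (.leaf (nat_lit 0x75c488c6845) (nat_lit 1792))
))) (.node (nat_lit 0x78d5fe0047f) (.node (nat_lit 0x78b5f9ffc7c) (.leaf (nat_lit 0x75e48cc9847) (nat_lit 1536))
 (.leaf (nat_lit 0x78b5f9ffc7c) (nat_lit 1024))
) (.node (nat_lit 0x79030d97ad5) (.leaf (nat_lit 0x78d5fe0047f) (nat_lit 1792))
 (.node (nat_lit 0x792305972d4) (.leaf (nat_lit 0x79030d97ad5) (nat_lit 1792))
 (.leaf (nat_lit 0x792305972d4) (nat_lit 1537))
)))))) (.node (nat_lit 0x8149302d8eb) (.node (nat_lit 0x80474c394aa) (.node (nat_lit 0x7db51cf643a) (.node (nat_lit 0x7d82884856c) (.node (nat_lit 0x7b340c4d03d) (.leaf (nat_lit 0x7b14084e03e) (nat_lit 2304))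
 (.leaf (nat_lit 0x7b340c4d03d) (nat_lit 513))
) (.node (nat_lit 0x7d9518f5c39) (.leaf (nat_lit 0x7d82884856c) (nat_lit 2560))
 (.node (nat_lit 0x7da28444d6b) (.leaf (nat_lit 0x7d9518f5c39) (nat_lit 1281))
 (.leaf (nat_lit 0x7da28444d6b) (nat_lit 1792))
))) (.node (nat_lit 0x7def284856c) (.node (nat_lit 0x7dcf2c44d6b) (.leaf (nat_lit 0x7db51cf643a) (nat_lit 1536))
 (.leaf (nat_lit 0x7dcf2c44d6b) (nat_lit 1792))
) (.node (nat_lit 0x7e03e8fe974) (.leaf (nat_lit 0x7def284856c) (nat_lit 1025))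
 (.node (nat_lit 0x7e2410fe17a) (.leaf (nat_lit 0x7e03e8fe974) (nat_lit 2048))
 (.leaf (nat_lit 0x7e2410fe17a) (nat_lit 1280))
)))) (.node (nat_lit 0x80674918cff) (.node (nat_lit 0x8049b04786e) (.node (nat_lit 0x80474d17cfe) (.leaf (nat_lit 0x80474c394aa) (nat_lit 768))
 (.leaf (nat_lit 0x80474d17cfe) (nat_lit 2304))
) (.node (nat_lit 0x8049b09e98b) (.leaf (nat_lit 0x8049b04786e) (nat_lit 513))
 (.node (nat_lit 0x80674839ca9) (.leaf (nat_lit 0x8049b09e98b) (nat_lit 1792))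
 (.leaf (nat_lit 0x80674839ca9) (nat_lit 2561))
))) (.node (nat_lit 0x8069b49e189) (.node (nat_lit 0x8069b447070) (.leaf (nat_lit 0x80674918cff) (nat_lit 1025))
 (.leaf (nat_lit 0x8069b447070) (nat_lit 1280))
) (.node (nat_lit 0x808a117f370) (.leaf (nat_lit 0x8069b49e189) (nat_lit 1024))
 (.node (nat_lit 0x80aa0d7e371) (.leaf (nat_lit 0x808a117f370) (nat_lit 2304))
 (.leaf (nat_lit 0x80aa0d7e371) (nat_lit 1024))
))))) (.node (nat_lit 0x8df2c85a904) (.node (nat_lit 0x882a784e03e) (.node (nat_lit 0x85e985ad19c) (.node (nat_lit 0x8189382e0e9) (.leaf (nat_lit 0x8149302d8eb) (nat_lit 512))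
 (.leaf (nat_lit 0x8189382e0e9) (nat_lit 1793))
) (.node (nat_lit 0x86098dad99d) (.leaf (nat_lit 0x85e985ad19c) (nat_lit 1536))
 (.node (nat_lit 0x880a7c4d03d) (.leaf (nat_lit 0x86098dad99d) (nat_lit 2304))
 (.leaf (nat_lit 0x880a7c4d03d) (nat_lit 1025))
))) (.node (nat_lit 0x89e2602d8eb) (.node (nat_lit 0x89c25c2e0e9) (.leaf (nat_lit 0x882a784e03e) (nat_lit 1792))
 (.leaf (nat_lit 0x89c25c2e0e9) (nat_lit 1793))
) (.node (nat_lit 0x8dd2c05b0fa) (.leaf (nat_lit 0x89e2602d8eb) (nat_lit 2049))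
 (.node (nat_lit 0x8dd2c0d4062) (.leaf (nat_lit 0x8dd2c05b0fa) (nat_lit 256))
 (.leaf (nat_lit 0x8dd2c0d4062) (nat_lit 2049))
)))) (.node (nat_lit 0xa695184e03e) (.node (nat_lit 0x978acdb5494) (.node (nat_lit 0x8df2c8d4861) (.leaf (nat_lit 0x8df2c85a904) (nat_lit 2561))
 (.leaf (nat_lit 0x8df2c8d4861) (nat_lit 768))
) (.node (nat_lit 0x97ab05b5c97) (.leaf (nat_lit 0x978acdb5494) (nat_lit 2305))
 (.node (nat_lit 0xa6828a29ce7) (.leaf (nat_lit 0x97ab05b5c97) (nat_lit 512))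
 (.leaf (nat_lit 0xa6828a29ce7) (nat_lit 1536))
))) (.node (nat_lit 0xa6b51c4d03d) (.node (nat_lit 0xa6a286294e9) (.leaf (nat_lit 0xa695184e03e) (nat_lit 769))
 (.leaf (nat_lit 0xa6a286294e9) (nat_lit 1281))
) (.node (nat_lit 0xa70188fe17a) (.leaf (nat_lit 0xa6b51c4d03d) (nat_lit 1537))
 (.node (nat_lit 0xa72184fe974) (.leaf (nat_lit 0xa70188fe17a) (nat_lit 2561))
 (.leaf (nat_lit 0xa72184fe974) (nat_lit 769))
))))))))

theorem X1_ok : orbOK A [(nat_lit 0x1c039c80b9e), (nat_lit 0x6467aa3296f)] (nat_lit 0x67e61c2e0e9) X1_t (nat_lit 160) = true := by decide +kernel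

/-- A listed class. -/
noncomputable def X2_t : ST :=
(.node (nat_lit 0x5fb550a82d0) (.node (nat_lit 0x2782601231c) (.node (nat_lit 0xd6fedbd0f7) (.node (nat_lit 0x1126c3a816) (.node (nat_lit 0xe9b25ead6) (.node (nat_lit 0xc9784ebfb) (.node (nat_lit 0x93c00e03f) (.leaf (nat_lit 0x73c40d040) (nat_lit 1280))
 (.node (nat_lit 0xa97c4f3fc) (.leaf (nat_lit 0x93c00e03f) (nat_lit 2049))
 (.leaf (nat_lit 0xa97c4f3fc) (nat_lit 2049))
)) (.node (nat_lit 0xe5759fc83) (.node (nat_lit 0xe19de2aab) (.leaf (nat_lit 0xc9784ebfb) (nat_lit 769))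
 (.leaf (nat_lit 0xe19de2aab) (nat_lit 2049))
) (.node (nat_lit 0xe9b153d60) (.leaf (nat_lit 0xe5759fc83) (nat_lit 2561))
 (.leaf (nat_lit 0xe9b153d60) (nat_lit 513))
))) (.node (nat_lit 0x1053d9ec82) (.node (nat_lit 0xf2683b018) (.node (nat_lit 0xf0b617d0a) (.leaf (nat_lit 0xe9b25ead6) (nat_lit 2305))
 (.leaf (nat_lit 0xf0b617d0a) (nat_lit 2048))
) (.node (nat_lit 0x1018de32aa) (.leaf (nat_lit 0xf2683b018) (nat_lit 1536))
 (.leaf (nat_lit 0x1018de32aa) (nat_lit 1025))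
)) (.node (nat_lit 0x109b65e2d7) (.node (nat_lit 0x109b55355e) (.leaf (nat_lit 0x1053d9ec82) (nat_lit 2561))
 (.leaf (nat_lit 0x109b55355e) (nat_lit 2304))
) (.node (nat_lit 0x110b21850b) (.leaf (nat_lit 0x109b65e2d7) (nat_lit 2305))
 (.leaf (nat_lit 0x110b21850b) (nat_lit 2049))
)))) (.node (nat_lit 0x5e74e0611b) (.node (nat_lit 0x42a4225bf8) (.node (nat_lit 0x34dc403ab9) (.leaf (nat_lit 0x1126c3a816) (nat_lit 1280))
 (.node (nat_lit 0x38dc0042bc) (.leaf (nat_lit 0x34dc403ab9) (nat_lit 1792))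
 (.leaf (nat_lit 0x38dc0042bc) (nat_lit 1792))
)) (.node (nat_lit 0x471ec17b14) (.node (nat_lit 0x44a32253f6) (.leaf (nat_lit 0x42a4225bf8) (nat_lit 2305))
 (.leaf (nat_lit 0x44a32253f6) (nat_lit 1537))
) (.node (nat_lit 0x491dc18316) (.leaf (nat_lit 0x471ec17b14) (nat_lit 1025))
 (.leaf (nat_lit 0x491dc18316) (nat_lit 1025))
))) (.node (nat_lit 0x92c843eafb) (.node (nat_lit 0x6074a05118) (.node (nat_lit 0x5e9b227172) (.leaf (nat_lit 0x5e74e0611b) (nat_lit 1024))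
 (.leaf (nat_lit 0x5e9b227172) (nat_lit 2048))
) (.node (nat_lit 0x609b627973) (.leaf (nat_lit 0x6074a05118) (nat_lit 1792))
 (.leaf (nat_lit 0x609b627973) (nat_lit 2561))
)) (.node (nat_lit 0xb648601cb2) (.node (nat_lit 0x94c80402fa) (.leaf (nat_lit 0x92c843eafb) (nat_lit 1024))
 (.leaf (nat_lit 0x94c80402fa) (nat_lit 1024))
) (.node (nat_lit 0xb846a014b0) (.leaf (nat_lit 0xb648601cb2) (nat_lit 1536))
 (.leaf (nat_lit 0xb846a014b0) (nat_lit 1536))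
))))) (.node (nat_lit 0x15430d97ad5) (.node (nat_lit 0xec3840e03f) (.node (nat_lit 0xe493811b1e) (.node (nat_lit 0xd8ff1bd8fb) (.leaf (nat_lit 0xd6fedbd0f7) (nat_lit 1536))
 (.node (nat_lit 0xe2a0cd4861) (.leaf (nat_lit 0xd8ff1bd8fb) (nat_lit 2049))
 (.leaf (nat_lit 0xe2a0cd4861) (nat_lit 1281))
)) (.node (nat_lit 0xe8a10d4062) (.node (nat_lit 0xe69301231c) (.leaf (nat_lit 0xe493811b1e) (nat_lit 2049))
 (.leaf (nat_lit 0xe69301231c) (nat_lit 1793))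
) (.node (nat_lit 0xea3700d040) (.leaf (nat_lit 0xe8a10d4062) (nat_lit 1281))
 (.leaf (nat_lit 0xea3700d040) (nat_lit 0))
))) (.node (nat_lit 0x11a60593cd0) (.node (nat_lit 0xfea65d4af1) (.node (nat_lit 0xfca59d6af0) (.leaf (nat_lit 0xec3840e03f) (nat_lit 2048))
 (.leaf (nat_lit 0xfca59d6af0) (nat_lit 1537))
) (.node (nat_lit 0x116601944d1) (.leaf (nat_lit 0xfea65d4af1) (nat_lit 1536))
 (.leaf (nat_lit 0x116601944d1) (nat_lit 1537))
)) (.node (nat_lit 0x11f1800d040) (.node (nat_lit 0x11d1840e03f) (.leaf (nat_lit 0x11a60593cd0) (nat_lit 1537))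
 (.leaf (nat_lit 0x11d1840e03f) (nat_lit 2305))
) (.node (nat_lit 0x150305972d4) (.leaf (nat_lit 0x11f1800d040) (nat_lit 2305))
 (.leaf (nat_lit 0x150305972d4) (nat_lit 1537))
)))) (.node (nat_lit 0x19e3545b0fa) (.node (nat_lit 0x18a9e8ec321) (.node (nat_lit 0x163341f28a5) (.leaf (nat_lit 0x15430d97ad5) (nat_lit 1537))
 (.node (nat_lit 0x165345f08a6) (.leaf (nat_lit 0x163341f28a5) (nat_lit 1536))
 (.leaf (nat_lit 0x165345f08a6) (nat_lit 769))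
)) (.node (nat_lit 0x192358b4cb6) (.node (nat_lit 0x18c9fcecb20) (.leaf (nat_lit 0x18a9e8ec321) (nat_lit 256))
 (.leaf (nat_lit 0x18c9fcecb20) (nat_lit 2305))
) (.node (nat_lit 0x194348b44b7) (.leaf (nat_lit 0x192358b4cb6) (nat_lit 1792))
 (.leaf (nat_lit 0x194348b44b7) (nat_lit 2048))
))) (.node (nat_lit 0x1cf584a9ad2) (.node (nat_lit 0x1aea2c0e03f) (.node (nat_lit 0x1a03505a904) (.leaf (nat_lit 0x19e3545b0fa) (nat_lit 1793))
 (.leaf (nat_lit 0x1a03505a904) (nat_lit 1025))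
) (.node (nat_lit 0x1b4a340d040) (.leaf (nat_lit 0x1aea2c0e03f) (nat_lit 1536))
 (.leaf (nat_lit 0x1b4a340d040) (nat_lit 1537))
)) (.node (nat_lit 0x2705d151298) (.node (nat_lit 0x1d957ca8ad1) (.leaf (nat_lit 0x1cf584a9ad2) (nat_lit 1537))
 (.leaf (nat_lit 0x1d957ca8ad1) (nat_lit 2049))
) (.node (nat_lit 0x2725e95029d) (.leaf (nat_lit 0x2705d151298) (nat_lit 1281))
 (.leaf (nat_lit 0x2725e95029d) (nat_lit 2049))
)))))) (.node (nat_lit 0x384001ca03a) (.node (nat_lit 0x32e550f22c7) (.node (nat_lit 0x296b067cb22) (.node (nat_lit 0x282ace7c323) (.node (nat_lit 0x27a25c11b1e) (.leaf (nat_lit 0x2782601231c) (nat_lit 1793))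
 (.node (nat_lit 0x27cb42ad2f9) (.leaf (nat_lit 0x27a25c11b1e) (nat_lit 512))
 (.leaf (nat_lit 0x27cb42ad2f9) (nat_lit 1025))
)) (.node (nat_lit 0x28d38c4a917) (.node (nat_lit 0x284b32adaf8) (.leaf (nat_lit 0x282ace7c323) (nat_lit 1281))
 (.leaf (nat_lit 0x284b32adaf8) (nat_lit 1280))
) (.node (nat_lit 0x28f38849916) (.leaf (nat_lit 0x28d38c4a917) (nat_lit 1536))
 (.leaf (nat_lit 0x28f38849916) (nat_lit 1793))
))) (.node (nat_lit 0x3269dc0d040) (.node (nat_lit 0x29b2e0b5269) (.node (nat_lit 0x2992e8b2a67) (.leaf (nat_lit 0x296b067cb22) (nat_lit 2048))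
 (.leaf (nat_lit 0x2992e8b2a67) (nat_lit 1793))
) (.node (nat_lit 0x31a9d80e03f) (.leaf (nat_lit 0x29b2e0b5269) (nat_lit 1537))
 (.leaf (nat_lit 0x31a9d80e03f) (nat_lit 1536))
)) (.node (nat_lit 0x32b40c0e811) (.node (nat_lit 0x3294080f012) (.leaf (nat_lit 0x3269dc0d040) (nat_lit 1792))
 (.leaf (nat_lit 0x3294080f012) (nat_lit 1537))
) (.node (nat_lit 0x32c538f2ac6) (.leaf (nat_lit 0x32b40c0e811) (nat_lit 1793))
 (.leaf (nat_lit 0x32c538f2ac6) (nat_lit 1793))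
)))) (.node (nat_lit 0x36919c1aa62) (.node (nat_lit 0x333258d0347) (.node (nat_lit 0x331254d0b42) (.leaf (nat_lit 0x32e550f22c7) (nat_lit 1793))
 (.node (nat_lit 0x33125636af7) (.leaf (nat_lit 0x331254d0b42) (nat_lit 1536))
 (.leaf (nat_lit 0x33125636af7) (nat_lit 2305))
)) (.node (nat_lit 0x346951eb271) (.node (nat_lit 0x33325a342f6) (.leaf (nat_lit 0x333258d0347) (nat_lit 1793))
 (.leaf (nat_lit 0x33325a342f6) (nat_lit 2304))
) (.node (nat_lit 0x34a941eba72) (.leaf (nat_lit 0x346951eb271) (nat_lit 512))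
 (.leaf (nat_lit 0x34a941eba72) (nat_lit 2049))
))) (.node (nat_lit 0x374be5dea7f) (.node (nat_lit 0x36f19819a60) (.node (nat_lit 0x36c2dc9badd) (.leaf (nat_lit 0x36919c1aa62) (nat_lit 2048))
 (.leaf (nat_lit 0x36c2dc9badd) (nat_lit 1793))
) (.node (nat_lit 0x372be1de27a) (.leaf (nat_lit 0x36f19819a60) (nat_lit 1024))
 (.leaf (nat_lit 0x372be1de27a) (nat_lit 1793))
)) (.node (nat_lit 0x37c44dca839) (.node (nat_lit 0x3762e09b2db) (.leaf (nat_lit 0x374be5dea7f) (nat_lit 1793))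
 (.leaf (nat_lit 0x3762e09b2db) (nat_lit 768))
) (.node (nat_lit 0x3811fa4e1d1) (.leaf (nat_lit 0x37c44dca839) (nat_lit 2048))
 (.leaf (nat_lit 0x3811fa4e1d1) (nat_lit 1536))
))))) (.node (nat_lit 0x451361323f5) (.node (nat_lit 0x3ff04150d5f) (.node (nat_lit 0x3beb242d8eb) (.node (nat_lit 0x3911f64f1d0) (.leaf (nat_lit 0x384001ca03a) (nat_lit 1793))
 (.node (nat_lit 0x3b6b282e0e9) (.leaf (nat_lit 0x3911f64f1d0) (nat_lit 2048))
 (.leaf (nat_lit 0x3b6b282e0e9) (nat_lit 1793))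
)) (.node (nat_lit 0x3f525195b81) (.node (nat_lit 0x3f325d9537f) (.leaf (nat_lit 0x3beb242d8eb) (nat_lit 1792))
 (.leaf (nat_lit 0x3f325d9537f) (nat_lit 2049))
) (.node (nat_lit 0x3fd04552d61) (.leaf (nat_lit 0x3f525195b81) (nat_lit 2305))
 (.leaf (nat_lit 0x3fd04552d61) (nat_lit 2049))
))) (.node (nat_lit 0x442a48c6845) (.node (nat_lit 0x4163e8e78d4) (.node (nat_lit 0x414410e70d5) (.leaf (nat_lit 0x3ff04150d5f) (nat_lit 2305))
 (.leaf (nat_lit 0x414410e70d5) (nat_lit 1792))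
) (.node (nat_lit 0x43aa44c9847) (.leaf (nat_lit 0x4163e8e78d4) (nat_lit 1792))
 (.leaf (nat_lit 0x43aa44c9847) (nat_lit 2816))
)) (.node (nat_lit 0x44cb2247419) (.node (nat_lit 0x44941085120) (.leaf (nat_lit 0x442a48c6845) (nat_lit 1792))
 (.leaf (nat_lit 0x44941085120) (nat_lit 2049))
) (.node (nat_lit 0x44f41c8491f) (.leaf (nat_lit 0x44cb2247419) (nat_lit 769))
 (.leaf (nat_lit 0x44f41c8491f) (nat_lit 2560))
)))) (.node (nat_lit 0x54074839ca9) (.node (nat_lit 0x45e6202d8eb) (.node (nat_lit 0x45336532bf4) (.leaf (nat_lit 0x451361323f5) (nat_lit 1537))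
 (.node (nat_lit 0x456ae248418) (.leaf (nat_lit 0x45336532bf4) (nat_lit 1280))
 (.leaf (nat_lit 0x456ae248418) (nat_lit 1793))
)) (.node (nat_lit 0x49291e9e52c) (.node (nat_lit 0x46261c2e0e9) (.leaf (nat_lit 0x45e6202d8eb) (nat_lit 1792))
 (.leaf (nat_lit 0x46261c2e0e9) (nat_lit 1281))
) (.node (nat_lit 0x49691a9ed2d) (.leaf (nat_lit 0x49291e9e52c) (nat_lit 1793))
 (.leaf (nat_lit 0x49691a9ed2d) (nat_lit 2049))
))) (.node (nat_lit 0x54cc35c6569) (.node (nat_lit 0x54474c394aa) (.node (nat_lit 0x5409b49e189) (.leaf (nat_lit 0x54074839ca9) (nat_lit 2561))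
 (.leaf (nat_lit 0x5409b49e189) (nat_lit 768))
) (.node (nat_lit 0x5449b09e98b) (.leaf (nat_lit 0x54474c394aa) (nat_lit 2561))
 (.leaf (nat_lit 0x5449b09e98b) (nat_lit 769))
)) (.node (nat_lit 0x5bd4c863a0e) (.node (nat_lit 0x54ec31c5d68) (.leaf (nat_lit 0x54cc35c6569) (nat_lit 1793))
 (.leaf (nat_lit 0x54ec31c5d68) (nat_lit 1793))
) (.node (nat_lit 0x5bf4c066211) (.leaf (nat_lit 0x5bd4c863a0e) (nat_lit 2304))
 (.leaf (nat_lit 0x5bf4c066211) (nat_lit 2304))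
))))))) (.node (nat_lit 0x80418dd7af3) (.node (nat_lit 0x74cdfda751c) (.node (nat_lit 0x6af1e462245) (.node (nat_lit 0x67a4182d8eb) (.node (nat_lit 0x60703a1136f) (.node (nat_lit 0x5ff554a92cc) (.leaf (nat_lit 0x5fb550a82d0) (nat_lit 1536))
 (.node (nat_lit 0x60303e11b6e) (.leaf (nat_lit 0x5ff554a92cc) (nat_lit 2048))
 (.leaf (nat_lit 0x60303e11b6e) (nat_lit 1792))
)) (.node (nat_lit 0x662905252b3) (.node (nat_lit 0x660901242c1) (.leaf (nat_lit 0x60703a1136f) (nat_lit 1792))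
 (.leaf (nat_lit 0x660901242c1) (nat_lit 1024))
) (.node (nat_lit 0x678afc5fa44) (.leaf (nat_lit 0x662905252b3) (nat_lit 2305))
 (.leaf (nat_lit 0x678afc5fa44) (nat_lit 1280))
))) (.node (nat_lit 0x6975f9f051f) (.node (nat_lit 0x67e4142e0e9) (.node (nat_lit 0x67cb0062245) (.leaf (nat_lit 0x67a4182d8eb) (nat_lit 2305))
 (.leaf (nat_lit 0x67cb0062245) (nat_lit 1793))
) (.node (nat_lit 0x6955fdf1523) (.leaf (nat_lit 0x67e4142e0e9) (nat_lit 2305))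
 (.leaf (nat_lit 0x6955fdf1523) (nat_lit 2049))
)) (.node (nat_lit 0x6a72be0431a) (.node (nat_lit 0x6a52ba04b1b) (.leaf (nat_lit 0x6975f9f051f) (nat_lit 2049))
 (.leaf (nat_lit 0x6a52ba04b1b) (nat_lit 1793))
) (.node (nat_lit 0x6ad1e85fa44) (.leaf (nat_lit 0x6a72be0431a) (nat_lit 768))
 (.leaf (nat_lit 0x6ad1e85fa44) (nat_lit 2049))
)))) (.node (nat_lit 0x6f83ddb5494) (.node (nat_lit 0x6d404c2d8eb) (.node (nat_lit 0x6b4c5c2e0e9) (.leaf (nat_lit 0x6af1e462245) (nat_lit 2048))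
 (.node (nat_lit 0x6b6c542d8eb) (.leaf (nat_lit 0x6b4c5c2e0e9) (nat_lit 1536))
 (.leaf (nat_lit 0x6b6c542d8eb) (nat_lit 1536))
)) (.node (nat_lit 0x6e62961dcae) (.node (nat_lit 0x6d60502e0e9) (.leaf (nat_lit 0x6d404c2d8eb) (nat_lit 2049))
 (.leaf (nat_lit 0x6d60502e0e9) (nat_lit 2305))
) (.node (nat_lit 0x6ee29a1c4af) (.leaf (nat_lit 0x6e62961dcae) (nat_lit 1792))
 (.leaf (nat_lit 0x6ee29a1c4af) (nat_lit 1792))
))) (.node (nat_lit 0x7163086d4e8) (.node (nat_lit 0x70a382a84d4) (.node (nat_lit 0x70637ea94d2) (.leaf (nat_lit 0x6f83ddb5494) (nat_lit 1536))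
 (.leaf (nat_lit 0x70637ea94d2) (nat_lit 2048))
) (.node (nat_lit 0x7143edb5c97) (.leaf (nat_lit 0x70a382a84d4) (nat_lit 2048))
 (.leaf (nat_lit 0x7143edb5c97) (nat_lit 1792))
)) (.node (nat_lit 0x740185c2284) (.node (nat_lit 0x7183006bce6) (.leaf (nat_lit 0x7163086d4e8) (nat_lit 2561))
 (.leaf (nat_lit 0x7183006bce6) (nat_lit 1281))
) (.node (nat_lit 0x742189bf283) (.leaf (nat_lit 0x740185c2284) (nat_lit 2304))
 (.leaf (nat_lit 0x742189bf283) (nat_lit 1281))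
))))) (.node (nat_lit 0x7935b692235) (.node (nat_lit 0x76a9b1d9d21) (.node (nat_lit 0x75e985c555d) (.node (nat_lit 0x74ee05a851d) (.leaf (nat_lit 0x74cdfda751c) (nat_lit 1792))
 (.node (nat_lit 0x75c98dbe55c) (.leaf (nat_lit 0x74ee05a851d) (nat_lit 1793))
 (.leaf (nat_lit 0x75c98dbe55c) (nat_lit 2049))
)) (.node (nat_lit 0x7689b5d8d22) (.node (nat_lit 0x76874a2c17e) (.leaf (nat_lit 0x75e985c555d) (nat_lit 2049))
 (.leaf (nat_lit 0x76874a2c17e) (nat_lit 1536))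
) (.node (nat_lit 0x76a74e2e97d) (.leaf (nat_lit 0x7689b5d8d22) (nat_lit 1537))
 (.leaf (nat_lit 0x76a74e2e97d) (nat_lit 1793))
))) (.node (nat_lit 0x774474cf349) (.node (nat_lit 0x76f4150c981) (.node (nat_lit 0x76d4190d980) (.leaf (nat_lit 0x76a9b1d9d21) (nat_lit 1793))
 (.leaf (nat_lit 0x76d4190d980) (nat_lit 2048))
) (.node (nat_lit 0x772470cfb48) (.leaf (nat_lit 0x76f4150c981) (nat_lit 1792))
 (.leaf (nat_lit 0x772470cfb48) (nat_lit 2561))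
)) (.node (nat_lit 0x78c4c21425c) (.node (nat_lit 0x78a4ca14a5d) (.leaf (nat_lit 0x774474cf349) (nat_lit 2561))
 (.leaf (nat_lit 0x78a4ca14a5d) (nat_lit 2049))
) (.node (nat_lit 0x7915aa92a34) (.leaf (nat_lit 0x78c4c21425c) (nat_lit 2305))
 (.leaf (nat_lit 0x7915aa92a34) (nat_lit 2048))
)))) (.node (nat_lit 0x7dca788924f) (.node (nat_lit 0x7bc3888491f) (.node (nat_lit 0x7b1060212c8) (.leaf (nat_lit 0x7935b692235) (nat_lit 2048))
 (.node (nat_lit 0x7b306420ab8) (.leaf (nat_lit 0x7b1060212c8) (nat_lit 2049))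
 (.leaf (nat_lit 0x7b306420ab8) (nat_lit 1792))
)) (.node (nat_lit 0x7c0c88edc10) (.node (nat_lit 0x7be38c85120) (.leaf (nat_lit 0x7bc3888491f) (nat_lit 2048))
 (.leaf (nat_lit 0x7be38c85120) (nat_lit 1280))
) (.node (nat_lit 0x7c4c8cefc11) (.leaf (nat_lit 0x7c0c88edc10) (nat_lit 1280))
 (.leaf (nat_lit 0x7c4c8cefc11) (nat_lit 1537))
))) (.node (nat_lit 0x7fa9609badd) (.node (nat_lit 0x7e1195774c4) (.node (nat_lit 0x7dea7c88a4d) (.leaf (nat_lit 0x7dca788924f) (nat_lit 1792))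
 (.leaf (nat_lit 0x7dea7c88a4d) (nat_lit 2048))
) (.node (nat_lit 0x7e319177cc5) (.leaf (nat_lit 0x7e1195774c4) (nat_lit 1792))
 (.leaf (nat_lit 0x7e319177cc5) (nat_lit 2049))
)) (.node (nat_lit 0x7fe8c82e0e9) (.node (nat_lit 0x7fc9489b2db) (.leaf (nat_lit 0x7fa9609badd) (nat_lit 2305))
 (.leaf (nat_lit 0x7fc9489b2db) (nat_lit 2305))
) (.node (nat_lit 0x8008cc2d8eb) (.leaf (nat_lit 0x7fe8c82e0e9) (nat_lit 1793))
 (.leaf (nat_lit 0x8008cc2d8eb) (nat_lit 1792))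
)))))) (.node (nat_lit 0x8c55391005f) (.node (nat_lit 0x8186149c052) (.node (nat_lit 0x80657518cff) (.node (nat_lit 0x804749c1ce1) (.node (nat_lit 0x80453d17cfe) (.leaf (nat_lit 0x80418dd7af3) (nat_lit 2048))
 (.node (nat_lit 0x80474924ac3) (.leaf (nat_lit 0x80453d17cfe) (nat_lit 1280))
 (.leaf (nat_lit 0x80474924ac3) (nat_lit 1793))
)) (.node (nat_lit 0x80526c4786e) (.node (nat_lit 0x8050b1a5ace) (.leaf (nat_lit 0x804749c1ce1) (nat_lit 2305))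
 (.leaf (nat_lit 0x8050b1a5ace) (nat_lit 2048))
) (.node (nat_lit 0x80619dd72f2) (.leaf (nat_lit 0x80526c4786e) (nat_lit 2561))
 (.leaf (nat_lit 0x80619dd72f2) (nat_lit 2049))
))) (.node (nat_lit 0x80726847070) (.node (nat_lit 0x80674dc2ce0) (.node (nat_lit 0x80674d25ac2) (.leaf (nat_lit 0x80657518cff) (nat_lit 1281))
 (.leaf (nat_lit 0x80674d25ac2) (nat_lit 1024))
) (.node (nat_lit 0x8070b5a52cf) (.leaf (nat_lit 0x80674dc2ce0) (nat_lit 2560))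
 (.leaf (nat_lit 0x8070b5a52cf) (nat_lit 1281))
)) (.node (nat_lit 0x80a45e394e2) (.node (nat_lit 0x80845a39ce3) (.leaf (nat_lit 0x80726847070) (nat_lit 1536))
 (.leaf (nat_lit 0x80845a39ce3) (nat_lit 1281))
) (.node (nat_lit 0x8146109c850) (.leaf (nat_lit 0x80a45e394e2) (nat_lit 1537))
 (.leaf (nat_lit 0x8146109c850) (nat_lit 1793))
)))) (.node (nat_lit 0x880f2a23500) (.node (nat_lit 0x85e48e2252e) (.node (nat_lit 0x850b4802241) (.leaf (nat_lit 0x8186149c052) (nat_lit 2049))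
 (.node (nat_lit 0x852b4401a40) (.leaf (nat_lit 0x850b4802241) (nat_lit 1792))
 (.leaf (nat_lit 0x852b4401a40) (nat_lit 2049))
)) (.node (nat_lit 0x862bea2f554) (.node (nat_lit 0x86048a22d2f) (.leaf (nat_lit 0x85e48e2252e) (nat_lit 2048))
 (.leaf (nat_lit 0x86048a22d2f) (nat_lit 2049))
) (.node (nat_lit 0x864bee2fd55) (.leaf (nat_lit 0x862bea2f554) (nat_lit 2049))
 (.leaf (nat_lit 0x864bee2fd55) (nat_lit 1793))
))) (.node (nat_lit 0x89d4249c052) (.node (nat_lit 0x8894763825e) (.node (nat_lit 0x882f2e23d01) (.leaf (nat_lit 0x880f2a23500) (nat_lit 1792))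
 (.leaf (nat_lit 0x882f2e23d01) (nat_lit 1792))
) (.node (nat_lit 0x88b47238a5f) (.leaf (nat_lit 0x8894763825e) (nat_lit 2048))
 (.leaf (nat_lit 0x88b47238a5f) (nat_lit 2304))
)) (.node (nat_lit 0x8a05605f2eb) (.node (nat_lit 0x89f4209c850) (.leaf (nat_lit 0x89d4249c052) (nat_lit 2049))
 (.leaf (nat_lit 0x89f4209c850) (nat_lit 1793))
) (.node (nat_lit 0x8a25705eae9) (.leaf (nat_lit 0x8a05605f2eb) (nat_lit 1025))
 (.leaf (nat_lit 0x8a25705eae9) (nat_lit 2049))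
))))) (.node (nat_lit 0x9909b5dda80) (.node (nat_lit 0x90f215f453f) (.node (nat_lit 0x8c753287a6f) (.node (nat_lit 0x8c553a87273) (.leaf (nat_lit 0x8c55391005f) (nat_lit 1025))
 (.node (nat_lit 0x8c75310f860) (.leaf (nat_lit 0x8c553a87273) (nat_lit 2304))
 (.leaf (nat_lit 0x8c75310f860) (nat_lit 2049))
)) (.node (nat_lit 0x8e2af80e03f) (.node (nat_lit 0x8e0af40d040) (.leaf (nat_lit 0x8c753287a6f) (nat_lit 2305))
 (.leaf (nat_lit 0x8e0af40d040) (nat_lit 2049))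
) (.node (nat_lit 0x90d211f4d3e) (.leaf (nat_lit 0x8e2af80e03f) (nat_lit 2049))
 (.leaf (nat_lit 0x90d211f4d3e) (nat_lit 257))
))) (.node (nat_lit 0x97a0950ea57) (.node (nat_lit 0x9135ba1550d) (.node (nat_lit 0x9115c21750c) (.leaf (nat_lit 0x90f215f453f) (nat_lit 2304))
 (.leaf (nat_lit 0x9115c21750c) (nat_lit 1280))
) (.node (nat_lit 0x97809d10a56) (.leaf (nat_lit 0x9135ba1550d) (nat_lit 1281))
 (.leaf (nat_lit 0x97809d10a56) (nat_lit 1792))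
)) (.node (nat_lit 0x98ef0419a60) (.node (nat_lit 0x98cefc1aa62) (.leaf (nat_lit 0x97a0950ea57) (nat_lit 2305))
 (.leaf (nat_lit 0x98cefc1aa62) (nat_lit 2048))
) (.node (nat_lit 0x990749c6960) (.leaf (nat_lit 0x98ef0419a60) (nat_lit 2049))
 (.leaf (nat_lit 0x990749c6960) (nat_lit 1537))
)))) (.node (nat_lit 0xa70344d1459) (.node (nat_lit 0x99413d9a29a) (.node (nat_lit 0x99274dbe961) (.leaf (nat_lit 0x9909b5dda80) (nat_lit 1537))
 (.node (nat_lit 0x9929b1dc281) (.leaf (nat_lit 0x99274dbe961) (nat_lit 1537))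
 (.leaf (nat_lit 0x9929b1dc281) (nat_lit 1793))
)) (.node (nat_lit 0x9981459aa9b) (.node (nat_lit 0x996c6d1bd05) (.leaf (nat_lit 0x99413d9a29a) (nat_lit 2305))
 (.leaf (nat_lit 0x996c6d1bd05) (nat_lit 1536))
) (.node (nat_lit 0x99ac691b506) (.leaf (nat_lit 0x9981459aa9b) (nat_lit 2304))
 (.leaf (nat_lit 0x99ac691b506) (nat_lit 513))
))) (.node (nat_lit 0xa846c50e05e) (.node (nat_lit 0xa78569ffc7c) (.node (nat_lit 0xa7234cd245b) (.leaf (nat_lit 0xa70344d1459) (nat_lit 1793))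
 (.leaf (nat_lit 0xa7234cd245b) (nat_lit 2049))
) (.node (nat_lit 0xa7a56e0047f) (.leaf (nat_lit 0xa78569ffc7c) (nat_lit 2305))
 (.leaf (nat_lit 0xa7a56e0047f) (nat_lit 2561))
)) (.node (nat_lit 0xaa02bdad99d) (.node (nat_lit 0xa866c10f05d) (.leaf (nat_lit 0xa846c50e05e) (nat_lit 2561))
 (.leaf (nat_lit 0xa866c10f05d) (nat_lit 2561))
) (.node (nat_lit 0xaa42c1ad19c) (.leaf (nat_lit 0xaa02bdad99d) (nat_lit 2817))
 (.leaf (nat_lit 0xaa42c1ad19c) (nat_lit 2817))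
))))))))

theorem X2_ok : orbOK A [(nat_lit 0x1c039c80b9e), (nat_lit 0x6467aa3296f)] (nat_lit 0xea3700d040) X2_t (nat_lit 240) = true := by decide +kernel

end Cfsg.Agent.Std.HN
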