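import Mathlib
import Cfsg.Agent.ONT.Cov
import Cfsg.Agent.Std.HeD
import Cfsg.Agent.HeS.Int

/-!
Letters for a Sylow 2-subgroup of `2².L₃(4)` in the covering group `Γ = 4².L₃(4)`, and the facts about them that are
computed in `Γ` and in `L₃(4)`.
-/

set_option autoImplicit false
set_option synthInstance.maxSize 100000
set_option synthInstance.maxHeartbeats 1000000
set_option maxRecDepth 100000
set_option exponentiation.threshold 10000

namespace Cfsg.Agent.HeA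

open Cfsg.Agent.Spor Cfsg.Agent.Rec Cfsg.Agent.Spor.MX Cfsg.Agent.Inv.Fz Cfsg.Agent.ONT Subgroup

/-- The letter `x13`. -/
noncomputable def a1 : Γ := ev x0 w0 (nth [] WA 0)
/-- The letter `x23`. -/
noncomputable def a2 : Γ := ev x0 w0 (nth [] WA 1)
/-- The letter `x34`. -/
noncomputable def b1 : Γ := ev x0 w0 (nth [] WA 2)
/-- The letter `x35`. -/
noncomputable def b2 : Γ := ev x0 w0 (nth [] WA 3)
/-- The torus element. -/
noncomputable def h0 : Γ := ev x0 w0 (nth [] WA 4)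
/-- The first Weyl involution. -/
noncomputable def u1 : Γ := ev x0 w0 (nth [] WA 5)
/-- The second Weyl involution. -/
noncomputable def u2 : Γ := ev x0 w0 (nth [] WA 6)
/-- An element squaring `x0`. -/
noncomputable def ν : Γ := ev x0 w0 (nth [] WA 7)
/-- The letter `x14`. -/
noncomputable def c11 : Γ := b1 * a1 * b1 * a1
/-- The letter `x15`. -/
noncomputable def c12 : Γ := b2 * a1 * b2 * a1
/-- The letter `x24`. -/
noncomputable def c21 : Γ := b1 * a2 * b1 * a2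
/-- The letter `x25`. -/
noncomputable def c22 : Γ := b2 * a2 * b2 * a2

theorem repA : CΓ.RepL cA [a1, a2, b1, b2, h0, u1, u2, ν] := rep0.words WA cA_ok

theorem repE : CΓ.RepL cE [c11, c12, c21, c22] :=
  (repA.term (b1 * a1 * b1 * a1) (by decide +kernel)).cons <| (repA.term (b2 * a1 * b2 * a1) (by decide +kernel)).cons <|
    (repA.term (b1 * a2 * b1 * a2) (by decide +kernel)).cons <|
      (repA.term (b2 * a2 * b2 * a2) (by decide +kernel)).cons Cod.repL_nil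

theorem repM : CΓ.RepL (cA ++ (cE ++ (c0 ++ cZ)))
    [a1, a2, b1, b2, h0, u1, u2, ν, c11, c12, c21, c22, x0, x0⁻¹, w0, y1, y2] := repA.append (repE.append rep5)

/-- The squares of the centre of `Γ`. -/
def Sq : Set Γ := {x | x ∈ [1, y1 * y1, y2 * y2, y1 * y1 * (y2 * y2)]}

theorem listsSq : CΓ.ListsL [listDom cSq, Z_t.dom] [Sq, Z0] :=
  (Cod.RepL.lists (c := cSq) <| (repZ.term 1 (by decide +kernel)).cons <| (repZ.term _ (by decide +kernel)).cons <|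
    (repZ.term _ (by decide +kernel)).cons <| (repZ.term _ (by decide +kernel)).cons Cod.repL_nil).cons hZ

theorem facts : (c11 * c22 ∈ Z0 ∧ c11 * c12 * c21 ∈ Z0 ∧ y1 * (c11 * c22 * (c11 * c12 * c21))⁻¹ ∈ Sq ∧
      y2 * (c11 * c12 * c21)⁻¹ ∈ Sq ∧ ν * x0 * ν⁻¹ = x0 ^ 2) ∧
    (h0 ^ 3 ∈ Sq ∧ h0 * a1 * h0⁻¹ * (a1 * a2)⁻¹ ∈ Sq ∧ h0 * a2 * h0⁻¹ * a1⁻¹ ∈ Sq ∧ h0 * b1 * h0⁻¹ * b2⁻¹ ∈ Sq ∧
      h0 * b2 * h0⁻¹ * (b1 * b2)⁻¹ ∈ Sq) ∧
    (u1 * u1 ∈ Sq ∧ u1 * a1 * u1⁻¹ * (c11 * c12 * c22)⁻¹ ∈ Sq ∧ u1 * a2 * u1⁻¹ * (c12 * c21)⁻¹ ∈ Sq ∧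
      (u1 * b2) ^ 3 ∈ Sq) ∧
    u2 * u2 ∈ Sq ∧ u2 * b2 * u2⁻¹ * (c11 * c12 * c22)⁻¹ ∈ Sq ∧ u2 * b1 * u2⁻¹ * (c12 * c21)⁻¹ ∈ Sq ∧
      (u2 * a1) ^ 3 ∈ Sq := listsSq.decide repM (by decide +kernel)

theorem rel8_sq : ∀ w ∈ HeS.rel8, evalW (nth 1 [a1, c11, c12, a2, c21, c22, b1, b2]) w ∈ Sq := fun w hw => by
  have h := (repM.pick [0, 8, 9, 1, 10, 11, 2, 3]).word w
  exact h.2 ▸ ((listsSq.nth 0).has _ h.1).1 ((allL_iff _ _).1 (show allL HeS.rel8 (fun w => force (evC A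
    ([0, 8, 9, 1, 10, 11, 2, 3].map (nth A.one (cA ++ (cE ++ (c0 ++ cZ))))) w) (listDom cSq).has) = true by
      decide +kernel) w hw)

theorem σ_zero (γ : Γ) : σ 0 γ = γ :=
  DFunLike.congr_fun (hom_ext (g := MonoidHom.id Γ) (σ_x (by norm_num))
    ((σ_w (by norm_num)).trans (by simp [σw, WS, ev, tri]))) γ

theorem σ_y {i : ℕ} (hi : i < 12) : i = 0 ∨ i = 11 ∨ (σ i y1 * y2⁻¹ ∈ Sq ∨ σ i y1 * (y1 * y2)⁻¹ ∈ Sq) ∨
    σ i y2 * y1⁻¹ ∈ Sq ∨ σ i y2 * (y1 * y2)⁻¹ ∈ Sq := by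
  have h : CΓ.RepL _ [σ i y1, σ i y2, y1, y2] := (rep_σ hi _).cons ((rep_σ hi _).cons repZ)
  generalize σ i y1 = a, σ i y2 = b at h
  interval_cases i
  · exact .inl rfl
  all_goals first | exact .inr (.inl rfl) | exact .inr (.inr (listsSq.decide h (by decide +kernel)))

/-- The Sylow 2-subgroup of `L₃(4)`. -/
noncomputable def PB : Subgroup L := clos [π0 a1, π0 a2, π0 b1, π0 b2]
/-- Its centre. -/
noncomputable def ZB : Subgroup L := clos [π0 c11, π0 c12, π0 c21, π0 c22]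

theorem repB : CL.RepL cB [π0 a1, π0 a2, π0 b1, π0 b2] := by
  simp only [a1, a2, b1, b2, π0_ev]
  exact repL.words _ cB_ok

theorem genPB : CL.Lists PB_t.dom PB ∧ Nat.card PB = 64 := repB.gen PB_ok

theorem listsB : CL.ListsL [PB_t.dom, ZB_t.dom, I_t.dom] [PB, ZB, cls (tri xL wL) wL] := by
  refine genPB.1.cons (Cod.Lists.cons (Cod.RepL.gen (t := ZB_t) ?_ ZB_ok).1 (listsI.cons Cod.listsL_nil))
  simp only [c11, c12, c21, c22, map_mul]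
  exact (repB.term _ (by decide +kernel)).cons <| (repB.term _ (by decide +kernel)).cons <|
    (repB.term _ (by decide +kernel)).cons <| (repB.term _ (by decide +kernel)).cons Cod.repL_nil

theorem repBL : CL.RepL (cB ++ cL) [π0 a1, π0 a2, π0 b1, π0 b2, xL, xL⁻¹, wL] := repB.append repL

theorem factsB : wL ∈ ZB ∧ wL ≠ 1 ∧ (∀ x ∈ ZB, x ≠ 1 → x ∈ cls (tri xL wL) wL) ∧ (∀ x ∈ ZB, ∀ p ∈ PB, p * x = x * p) ∧
    ∀ x ∈ ZB, ∀ y ∈ ZB, y * (π0 b2)⁻¹ * (x * (π0 a1)⁻¹) * (y * (π0 b2)⁻¹) * (x * (π0 a1)⁻¹) = wL :=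
  listsB.decide repBL (by decide +kernel)

theorem cenPB {x l : L} (hx : x ∈ ZB) (h1 : x ≠ 1) (h : l * x = x * l) : l ∈ PB := by
  obtain ⟨g, hg, e⟩ := factsB.2.2.1 x hx h1
  have h2 : cls (tri xL wL) wL ⊆ cls (tri xL wL) x := by
    rintro _ ⟨k, hk, rfl⟩
    exact ⟨k * g⁻¹, mul_mem hk (inv_mem hg), by rw [← e]; group⟩
  refine mem_of_cls (xs := tri xL wL) (topL ▸ le_top) (factsB.2.2.2.1 x hx) ?_ l (topL ▸ mem_top l) h
  have h3 := Set.ncard_le_ncard h2 (Set.toFinite _)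
  have h4 : (cls (tri xL wL) wL).ncard = 315 :=
    (repL.orb (repL.term wL (t := .v 2) (ht := ⟨rfl⟩) (by decide +kernel)) I_ok).2
  rw [topL, card_top, l3k_cardG, genPB.2]
  omega

theorem toZB {l : L} (h : l * l = 1) : ∃ g, g⁻¹ * l * g ∈ ZB := by
  rcases L_inv h with rfl | ⟨g, -, rfl⟩
  · exact ⟨1, by simp⟩
  · exact ⟨g, by simpa [mul_assoc] using factsB.1⟩

/-- The code of the image of a word in `L₃(4)`. -/
noncomputable def sL (i : ℕ) (W : List ℕ) : ℕ :=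
  force (ifLt i 6 (nth P.one cL 0) (nth P.one cL 1)) fun a => force (P.inv a) fun a' =>
    force (nth P.one cR i) fun b => evC P [a, a', b] W

theorem rep_sL {i : ℕ} (hi : i < 12) (W : List ℕ) : CL.Rep (sL i W) (π0 (σ i (ev x0 w0 W))) := by
  rw [map_ev, map_ev, σ_x hi, σ_w hi, sL, force_eq, force_eq, force_eq]
  refine (repL_tri ?_ ?_).word W
  · rw [σx, ifLt_eq]
    split_ifs
    · exact π0_x ▸ repL.nth 0
    · rw [map_inv, π0_x]
      exact repL.nth 1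
  · have := (repL.words WS cR_ok).nth i
    rw [nth_words] at this
    rw [σw, π0_ev]
    exact this

theorem tau {i : ℕ} (hi : i < 12) {g : L} (h1 : g * π0 (σ i a1) * g⁻¹ * π0 a1 ∈ ZB)
    (h2 : g * π0 (σ i a2) * g⁻¹ * π0 a2 ∈ ZB) (h3 : g * π0 (σ i b1) * g⁻¹ * π0 b1 ∈ ZB)
    (h4 : g * π0 (σ i b2) * g⁻¹ * π0 b2 ∈ ZB) : i = 0 ∧ g ∈ PB := by
  have h : CL.RepL _ [π0 (σ i a1), π0 (σ i a2), π0 (σ i b1), π0 (σ i b2), ev xL wL (nth [] WG i),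
      π0 a1, π0 a2, π0 b1, π0 b2, xL, xL⁻¹, wL] :=
    (rep_sL hi _).cons <| (rep_sL hi _).cons <| (rep_sL hi _).cons <| (rep_sL hi _).cons <| (repL.word _).cons repBL
  have h0 : i = 0 → ev xL wL (nth [] WG i) = 1 := by rintro rfl; rfl
  generalize π0 (σ i a1) = α1, π0 (σ i a2) = α2, π0 (σ i b1) = β1, π0 (σ i b2) = β2,
    ev xL wL (nth [] WG i) = γ at h h0 h1 h2 h3 h4
  have h5 : γ * (β2 * α1 * β2 * α1) * γ⁻¹ = wL := by
    interval_cases i <;> exact listsB.decide h (by decide +kernel)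
  have h6 : g * γ⁻¹ ∈ PB := cenPB factsB.1 factsB.2.1 (by
    have := factsB.2.2.2.2 _ h1 _ h4
    rw [← mul_inv_eq_iff_eq_mul]
    calc _ = g * (β2 * α1 * β2 * α1) * g⁻¹ := by rw [← h5]; group
      _ = _ := by rw [← this]; group)
  by_cases h7 : i = 0
  · exact ⟨h7, by simpa [h0 h7] using h6⟩
  have h8 : Let (γ * α1 * γ⁻¹) fun s1 => Let (γ * α2 * γ⁻¹) fun s2 => Let (γ * β1 * γ⁻¹) fun t1 =>
      Let (γ * β2 * γ⁻¹) fun t2 => ∀ p ∈ PB, p * s1 * p⁻¹ * π0 a1 ∈ ZB → p * s2 * p⁻¹ * π0 a2 ∈ ZB →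
        p * t1 * p⁻¹ * π0 b1 ∈ ZB → ¬ p * t2 * p⁻¹ * π0 b2 ∈ ZB := by
    interval_cases i
    · exact absurd rfl h7
    all_goals exact listsB.decide h (by decide +kernel)
  exact absurd (by simpa [mul_assoc] using h4) (h8 _ h6 (by simpa [mul_assoc] using h1) (by simpa [mul_assoc] using h2)
    (by simpa [mul_assoc] using h3))

end Cfsg.Agent.HeA
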