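import Mathlib
import Cfsg.Agent.Std.HeM
import Cfsg.Agent.Std.HeL
import Cfsg.Agent.Rec.Act

/-!
A standard subgroup `L = 2².L₃(4)` as an image of `Γ`: the letters, the action of the normaliser.
-/

set_option autoImplicit false
set_option synthInstance.maxSize 100000
set_option synthInstance.maxHeartbeats 1000000
set_option maxRecDepth 100000
set_option exponentiation.threshold 10000

namespace Cfsg.Agent.HeA

open Cfsg.Agent.Spor Cfsg.Agent.Rec Cfsg.Agent.Spor.MX Cfsg.Agent.Inv.Fz Cfsg.Agent.ONT Subgroup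

universe u

variable {G : Type u} [Group G]

/-- An image `2².L₃(4)` of `Γ` with tightly embedded centraliser. -/
structure Fr (G : Type u) [Group G] where
  η : Γ →* G
  sq : ∀ s ∈ Sq, η s = 1
  card : Nat.card η.range = 80640
  odd : ∀ g, g ∉ normalizer (η.range : Set G) →
    Odd (Nat.card ↥(centralizer (η.range : Set G) ⊓ cj g (centralizer (η.range : Set G))))

namespace Fr

variable (f : Fr G)

/-- The standard subgroup. -/
noncomputable def L : Subgroup G := f.η.range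
/-- Its centraliser. -/
noncomputable def K : Subgroup G := centralizer (f.L : Set G)
/-- Its normaliser. -/
noncomputable def N : Subgroup G := normalizer (f.L : Set G)
/-- The elements inducing inner automorphisms. -/
noncomputable def M : Subgroup G := f.L ⊔ f.K

theorem memL (γ : Γ) : f.η γ ∈ f.L := ⟨γ, rfl⟩
theorem LN : f.L ≤ f.N := le_normalizer
theorem KN : f.K ≤ f.N := centralizer_le_normalizer _
theorem cjL {n l : G} (hn : n ∈ f.N) (hl : l ∈ f.L) : n * l * n⁻¹ ∈ f.L := conj_mem_of_mem_norm hn hl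
theorem cK {n k : G} (hn : n ∈ f.N) (hk : k ∈ f.K) : n * k * n⁻¹ ∈ f.K :=
  conj_mem_of_mem_norm (normalizer_le_normalizer_centralizer _ hn) hk
theorem comm {l k : G} (hl : l ∈ f.L) (hk : k ∈ f.K) : l * k = k * l := mem_centralizer_iff.1 hk l hl
theorem memK {k : G} (h : ∀ γ, f.η γ * k = k * f.η γ) : k ∈ f.K :=
  mem_centralizer_iff.2 (by rintro _ ⟨γ, rfl⟩; exact h γ)
theorem memM {n : G} : n ∈ f.M ↔ ∃ l ∈ f.L, ∃ k ∈ f.K, n = l * k :=
  mem_sup_iff_of_le_normalizer (f.LN.trans (normalizer_le_normalizer_centralizer _))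

theorem ne : ∃ γ, f.η γ ≠ 1 := by
  by_contra h
  push Not at h
  have := f.card
  rw [show f.η.range = ⊥ from eq_bot_iff.2 (by rintro _ ⟨γ, rfl⟩; exact h γ), card_bot] at this
  omega

theorem eq {a b : Γ} (h : a * b⁻¹ ∈ Sq) : f.η a = f.η b := by
  have := f.sq _ h
  rwa [map_mul, map_inv, mul_inv_eq_one] at this

theorem bar {a b : Γ} (h : f.η a = f.η b) : π0 a = π0 b := by
  have := π0_eq_one.2 (ker_le f.ne (γ := a * b⁻¹) (by rw [map_mul, map_inv, h, mul_inv_cancel]))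
  rwa [map_mul, map_inv, mul_inv_eq_one] at this

theorem bar_mem (l : List Γ) {γ : Γ} (h : f.η γ ∈ clos (l.map f.η)) : π0 γ ∈ clos (l.map π0) := by
  rw [← map_clos] at h ⊢
  obtain ⟨δ, h1, h2⟩ := h
  exact ⟨δ, h1, f.bar h2⟩

theorem Z0_le {H : Subgroup G} (h1 : f.η c11 * f.η c22 ∈ H) (h2 : f.η c11 * f.η c12 * f.η c21 ∈ H) {γ : Γ}
    (h : γ ∈ Z0) : f.η γ ∈ H := by
  refine (clos_le (K := H.comap f.η)).2 ?_ h
  simp only [List.forall_mem_cons, mem_comap, f.eq facts.1.2.2.1, f.eq facts.1.2.2.2.1, map_mul]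
  exact ⟨mul_mem h1 h2, h2, by simp⟩

theorem lift (l : List Γ) {H : Subgroup G} (h0 : clos (l.map f.η) ≤ H) (h1 : ∀ γ ∈ Z0, f.η γ ∈ H) {γ : Γ}
    (h : π0 γ ∈ clos (l.map π0)) : f.η γ ∈ H := by
  rw [← map_clos] at h h0
  obtain ⟨δ, h2, h3⟩ := h
  have := mul_mem (h0 (mem_map_of_mem _ h2)) (h1 (δ⁻¹ * γ) (π0_eq_one.1 (by rw [map_mul, map_inv, h3, inv_mul_cancel])))
  simpa using this

theorem Z0K {γ : Γ} (h : γ ∈ Z0) : f.η γ ∈ f.K := f.memK fun δ => by rw [← map_mul, ← map_mul, Z0_comm h]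

variable [Finite G]

theorem exists_cod : ∃ C : Cod L52.A G,
    C.RepL HeS.c8 [f.η a1, f.η c11, f.η c12, f.η a2, f.η c21, f.η c22, f.η b1, f.η b2] := by
  refine HeS.cod8 rfl (fun w hw => ?_) ?_
  · refine Eq.trans ?_ (f.sq _ (rel8_sq w hw))
    rw [map_evalW]
    exact evalW_congr fun i _ => nth_map f.η [a1, c11, c12, a2, c21, c22, b1, b2] i
  have h1 := card_mul_relIndex (map_mono (f := f.η) (le_top (a := PB.comap π0)))
  have h2 := PB.index_mul_card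
  rw [relIndex_map_map, sup_eq_left.2 (fun γ h => by
    rw [mem_comap, π0_eq_one.2 (ker_le f.ne h)]; exact one_mem _), top_sup_eq, relIndex_top_right,
    index_comap_of_surjective _ π0_surj, ← MonoidHom.range_eq_map, f.card] at h1
  rw [genPB.2, l3k_cardG] at h2
  rw [show PB.index = 315 by omega] at h1
  refine le_trans (by omega) (card_le_of_le (H := (PB.comap π0).map f.η) ?_)
  rintro _ ⟨γ, h, rfl⟩
  refine f.lift [a1, a2, b1, b2] (clos_le.2 fun x hx => mem_clos (by simp at hx ⊢; tauto)) (fun γ => f.Z0_le ?_ ?_) h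
  · exact mul_mem (mem_clos (by simp)) (mem_clos (by simp))
  · exact mul_mem (mul_mem (mem_clos (by simp)) (mem_clos (by simp))) (mem_clos (by simp))

/-- The letters. -/
noncomputable def t : Lt G :=
  ⟨f.η a1, f.η c11, f.η c12, f.η a2, f.η c21, f.η c22, f.η b1, f.η b2, f.exists_cod.choose, f.exists_cod.choose_spec⟩

theorem PL : f.t.P ≤ f.L := clos_le.2 (by simp [t, memL])
theorem ZL : f.t.Z ≤ f.L := f.t.ZP.trans f.PL
theorem Z0V {γ : Γ} (h : γ ∈ Z0) : f.η γ ∈ f.t.V := f.Z0_le f.t.hv.1 f.t.hv.2.1 h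

theorem V_eq : f.t.V = f.L ⊓ f.K := by
  refine le_antisymm (le_inf (f.t.VZ.trans f.ZL) (clos_le.2 ?_)) ?_
  · simpa [t] using And.intro (f.Z0K facts.1.1) (f.Z0K facts.1.2.1)
  · rintro _ ⟨⟨γ, rfl⟩, h⟩
    exact f.Z0V (mem_Z0 f.ne fun δ => (f.comm (f.memL δ) h).symm)

theorem VK : f.t.V ≤ f.K := f.V_eq ▸ inf_le_right
theorem memV {v : G} (h1 : v ∈ f.L) (h2 : v ∈ f.K) : v ∈ f.t.V := f.V_eq ▸ ⟨h1, h2⟩
theorem cV {n : G} (hn : n ∈ f.N) : ∀ v ∈ f.t.V, n * v * n⁻¹ ∈ f.t.V := fun _ hv =>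
  f.memV (f.cjL hn (f.ZL (f.t.VZ hv))) (f.cK hn (f.VK hv))

theorem liftP {γ : Γ} (h : π0 γ ∈ PB) : f.η γ ∈ f.t.P :=
  f.lift [a1, a2, b1, b2] le_rfl (fun _ h => f.t.ZP (f.t.VZ (f.Z0V h))) h

theorem cenP {x l : G} (hx : x ∈ f.t.Z) (hV : x ∉ f.t.V) (hl : l ∈ f.L) (h : l * x = x * l) : l ∈ f.t.P := by
  obtain ⟨ξ, rfl⟩ := f.ZL hx
  obtain ⟨γ, rfl⟩ := hl
  refine f.liftP (cenPB (f.bar_mem [c11, c12, c21, c22] hx) (fun e => hV (f.Z0V (π0_eq_one.1 e))) ?_)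
  rw [← map_mul, ← map_mul] at h ⊢
  exact f.bar h

theorem syl : IsSylIn 2 f.t.P f.L := isSylIn_of_card (k := 8) (m := 315) f.PL f.t.genP.2 f.card (by norm_num)

theorem toZ {l : G} (hl : l ∈ f.L) (h : l * l ∈ f.K) : ∃ u ∈ f.L, u⁻¹ * l * u ∈ f.t.Z := by
  obtain ⟨γ, rfl⟩ := hl
  obtain ⟨g, hg⟩ := toZB (l := π0 γ) (by
    rw [← map_mul, π0_eq_one]
    exact mem_Z0 f.ne fun δ => by rw [map_mul]; exact (f.comm (f.memL δ) h).symm)
  obtain ⟨δ, rfl⟩ := π0_surj g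
  refine ⟨_, f.memL δ, ?_⟩
  simp only [← map_mul, ← map_inv] at hg ⊢
  exact f.lift [c11, c12, c21, c22] le_rfl (fun _ h => f.t.VZ (f.Z0V h)) hg

omit [Finite G] in
theorem odd' {g : G} (hg : g ∉ f.N) : Odd (Nat.card ↥(f.K ⊓ cj g f.K)) := f.odd g hg

theorem ti {k g : G} (hk : k ∈ f.K) (h2 : k * k = 1) (h1 : k ≠ 1) (h : g * k * g⁻¹ ∈ f.K) : g ∈ f.N := by
  by_contra hg
  exact h1 (conj_eq_one.1 (eq_one_of_odd_of_sq (f.odd' hg) ⟨h, conj_mem_cj.2 hk⟩ (k := 1)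
    (by simpa [pow_two] using conj_sq (g := g) h2)))

theorem cenN {k g : G} (hk : k ∈ f.K) (h2 : k * k = 1) (h1 : k ≠ 1) (h : g * k = k * g) : g ∈ f.N :=
  f.ti hk h2 h1 (by rwa [h, mul_inv_cancel_right])

theorem cenN' {g : G} (h : ∀ y ∈ f.t.V, g * y = y * g) : g ∈ f.N :=
  f.cenN (f.VK f.t.hv.1) (f.t.Zs _ (f.t.VZ f.t.hv.1)) f.t.hv.2.2.1 (h _ f.t.hv.1)

/-- Modulo `L`, the element `n` acts as the automorphism `σ i`. -/
def Ty (n : G) (i : ℕ) : Prop := ∃ l ∈ f.L, ∀ γ, l * n * f.η γ * (l * n)⁻¹ = f.η (σ i γ)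

theorem step1 {n : G} (hn : n ∈ f.N) : ∃ l ∈ f.L,
    l * n * f.η x0 * (l * n)⁻¹ = f.η (σx 0) ∨ l * n * f.η x0 * (l * n)⁻¹ = f.η (σx 6) := by
  have : Fact (Nat.Prime 7) := ⟨by norm_num⟩
  have h0 : f.η x0 ≠ 1 := fun h => Z0_facts.1 (ker_le f.ne h)
  have h1 : orderOf (f.η x0) = 7 := orderOf_eq_prime (by rw [← map_pow, lf0.1, map_one]) h0
  obtain ⟨l, hl, h3⟩ := (isSylIn_of_card (p := 7) (k := 1) (m := 11520) (zpowers_le.2 (f.memL x0))
    (by rw [Nat.card_zpowers, h1, pow_one]) f.card (by norm_num)).frattini hn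
  obtain ⟨k, hk⟩ := mem_powers_iff_mem_zpowers.2 (conj_mem_of_mem_norm h3 (mem_zpowers _))
  have h4 : ∀ j, f.η ν ^ j * l * n * f.η x0 * (f.η ν ^ j * l * n)⁻¹ = f.η x0 ^ (2 ^ j * (k % 7) % 7) := fun j => by
    rw [Nat.mul_mod_mod, ← h1, pow_mod_orderOf]
    induction j with
    | zero => simpa using hk.symm
    | succ j ih =>
      calc _ = f.η ν * (f.η ν ^ j * l * n * f.η x0 * (f.η ν ^ j * l * n)⁻¹) * (f.η ν)⁻¹ := by rw [pow_succ']; group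
        _ = _ := by
          rw [ih, ← conj_pow, ← map_inv, ← map_mul, ← map_mul, facts.1.2.2.2.2, map_pow, ← pow_mul]
          congr 1
          ring
  obtain ⟨j, hj⟩ : ∃ j, 2 ^ j * (k % 7) % 7 = 0 ∨ 2 ^ j * (k % 7) % 7 = 1 ∨ 2 ^ j * (k % 7) % 7 = 6 := by
    have : k % 7 < 7 := Nat.mod_lt _ (by norm_num)
    interval_cases k % 7
    exacts [⟨0, by simp⟩, ⟨0, by simp⟩, ⟨2, by simp⟩, ⟨1, by simp⟩, ⟨1, by simp⟩, ⟨2, by simp⟩, ⟨0, by simp⟩]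
  refine ⟨_, mul_mem (pow_mem (f.memL ν) j) hl, ?_⟩
  rw [h4]
  rcases hj with h | h | h <;> rw [h]
  · exact absurd (conj_eq_one.1 ((h4 j).trans (by rw [h, pow_zero]))) h0
  · exact .inl (by simp [σx])
  · refine .inr ?_
    rw [σx, if_neg (by norm_num), map_inv]
    exact eq_inv_of_mul_eq_one_left (by rw [← pow_succ, ← map_pow, lf0.1, map_one])

omit [Finite G] in
theorem step2 {s : G} (hs : s ∈ f.N) {lo a : ℕ} (hlo : lo = 0 ∨ lo = 6)
    (h : s * f.η x0 * s⁻¹ = f.η (σx lo)) (ha : CL.Rep a (π0 (σx lo))) (hc : l3OK a lo = true) :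
    ∃ i < 12, f.Ty s i := by
  obtain ⟨γ, hγ⟩ := f.cjL hs (f.memL w0)
  have h1 : ∀ δ ε, f.η δ = s * f.η ε * s⁻¹ → (δ ∈ Z0 ↔ ε ∈ Z0) := by
    have key : ∀ {s : G}, s ∈ f.N → ∀ δ ε, f.η δ = s * f.η ε * s⁻¹ → ε ∈ Z0 → δ ∈ Z0 :=
      fun {s} hs δ ε h1 h2 => mem_Z0 f.ne fun ζ => (f.comm (f.memL ζ) (h1 ▸ f.cK hs (f.Z0K h2))).symm
    exact fun δ ε h1 => ⟨key (inv_mem hs) ε δ (by rw [h1]; group), key hs δ ε h1⟩
  have h2 : ∀ i, ev (π0 (σx lo)) (π0 γ) (l34_rels.get i) = 1 := fun i => by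
    rw [← map_ev, π0_eq_one, h1 _ (ev x0 w0 (l34_rels.get i)), ← π0_eq_one, π0_ev, relL]
    rw [map_ev, map_ev, ← h, hγ]
    exact (map_ev (MulAut.conj s).toMonoidHom _ _ _).symm
  have h3 := (L_inv (l := π0 γ) (by simpa [ev, tri] using (show ev (π0 (σx lo)) (π0 γ) [2, 2] = 1 from h2 3))).resolve_left
    fun h3 => absurd ((h1 _ _ hγ).1 (π0_eq_one.1 h3)) (hZ.decide rep5 (by decide +kernel))
  obtain ⟨j, i, hi, h4⟩ := l3_of ha hc h3 (h2 7)
  have h5 : σx (lo + i) = σx lo := by rcases hlo with rfl | rfl <;> simp [σx, hi]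
  have h6 : lo + i < 12 := by omega
  have h7 : (σw (lo + i))⁻¹ * (x0 ^ j * γ * (x0 ^ j)⁻¹) ∈ Z0 := π0_eq_one.1 (by
    simp only [map_mul, map_inv, map_pow, π0_x, h4, σw, π0_ev, inv_mul_cancel])
  have h8 : f.η x0 ^ j * s * f.η x0 * (f.η x0 ^ j * s)⁻¹ = f.η (σx (lo + i)) := by
    have h9 : Commute (f.η x0 ^ j) (f.η (σx lo)) := by
      unfold σx
      split_ifs <;> simp
    calc _ = f.η x0 ^ j * (s * f.η x0 * s⁻¹) * (f.η x0 ^ j)⁻¹ := by group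
      _ = _ := by rw [h, h9.eq, mul_inv_cancel_right, h5]
  have h9 : f.η x0 ^ j * s * f.η w0 * (f.η x0 ^ j * s)⁻¹ =
      f.η (σw (lo + i)) * f.η ((σw (lo + i))⁻¹ * (x0 ^ j * γ * (x0 ^ j)⁻¹)) := by
    simp only [map_mul, map_inv, map_pow, hγ]
    group
  generalize (σw (lo + i))⁻¹ * (x0 ^ j * γ * (x0 ^ j)⁻¹) = z at h7 h9
  have h10 : f.η z ^ 7 = 1 := by
    have h11 := conj_pow (a := f.η x0 ^ j * s) (b := f.η (x0 * w0)) (i := 7)
    rw [← map_pow _ (x0 * w0), lf0.2.1, map_one, mul_one, mul_inv_cancel, map_mul, ← conj_mul, h8, h9, ← mul_assoc,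
      ← map_mul, Commute.mul_pow (f.comm (f.memL _) (f.Z0K h7)), ← map_pow, (lf_σ h6).2.1, map_one, one_mul] at h11
    exact h11
  have h11 : f.η z = 1 := by
    have h12 : f.η z ^ (4 * 2) = 1 := by rw [pow_mul, ← map_pow, (Z0_facts.2.2 z h7).2.2, map_one, one_pow]
    rwa [show 4 * 2 = 7 + 1 by norm_num, pow_succ, h10, one_mul] at h12
  refine ⟨lo + i, h6, f.η x0 ^ j, pow_mem (f.memL _) j, DFunLike.congr_fun (hom_ext
      (f := (MulAut.conj (f.η x0 ^ j * s)).toMonoidHom.comp f.η) (g := f.η.comp (σ (lo + i))) ?_ ?_)⟩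
  · exact h8.trans (congrArg f.η (σ_x h6).symm)
  · exact h9.trans (by rw [h11, mul_one]; exact congrArg f.η (σ_w h6).symm)

theorem exists_ty {n : G} (hn : n ∈ f.N) : ∃ i < 12, f.Ty n i := by
  obtain ⟨l, hl, h⟩ := f.step1 hn
  obtain ⟨i, hi, l', hl', h'⟩ : ∃ i < 12, f.Ty (l * n) i := by
    rcases h with h | h
    · exact f.step2 (mul_mem (f.LN hl) hn) (.inl rfl) h (a := nth P.one cL 0)
        (by simpa [σx, π0_x, tri] using repL.nth 0) (by decide +kernel)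
    · exact f.step2 (mul_mem (f.LN hl) hn) (.inr rfl) h (a := nth P.one cL 1)
        (by simpa [σx, π0_x, tri] using repL.nth 1) (by decide +kernel)
  exact ⟨i, hi, l' * l, mul_mem hl' hl, by simpa only [mul_assoc] using h'⟩

omit [Finite G] in
theorem ty_same {n m : G} {i : ℕ} (hm : m ∈ f.N) (h : f.Ty n i) (h' : f.Ty m i) : m⁻¹ * n ∈ f.M := by
  obtain ⟨l, hl, h⟩ := h
  obtain ⟨l', hl', h'⟩ := h'
  refine f.memM.2 ⟨_, f.cjL (inv_mem hm) (mul_mem (inv_mem hl) hl'), (l' * m)⁻¹ * (l * n), f.memK fun γ => ?_, by group⟩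
  calc _ = (l' * m)⁻¹ * (l' * m * f.η γ * (l' * m)⁻¹) * (l * n) := by group
    _ = _ := by rw [h', ← h]; group

theorem two {n m : G} (hn : ∀ y ∈ f.t.V, n * y = y * n) (hm : ∀ y ∈ f.t.V, m * y = y * m) :
    n ∈ f.M ∨ m ∈ f.M ∨ n * m ∈ f.M := by
  have k : ∀ {n : G}, (∀ y ∈ f.t.V, n * y = y * n) → n ∈ f.M ∨ f.Ty n 11 := fun {n} hn => by
    obtain ⟨i, hi, h⟩ := f.exists_ty (f.cenN' hn)
    have h1 : ∀ y ∈ Z0, f.η (σ i y) = f.η y := fun y hy => by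
      obtain ⟨l, hl, h⟩ := h
      rw [← h, mul_inv_eq_iff_eq_mul, mul_assoc, hn _ (f.Z0V hy), ← mul_assoc, f.comm hl (f.Z0K hy), mul_assoc]
    have h2 : f.η y1 = f.t.v1 * f.t.v2 := (f.eq facts.1.2.2.1).trans (by simp only [map_mul]; rfl)
    have h3 : f.η y2 = f.t.v2 := (f.eq facts.1.2.2.2.1).trans (by simp only [map_mul]; rfl)
    obtain ⟨-, v2, n1, n2, n3, -⟩ := f.t.hv
    rcases σ_y hi with rfl | rfl | (e | e) | e | e
    · exact .inl (by simpa using f.ty_same (one_mem _) h ⟨1, one_mem _, fun γ => by simp [σ_zero]⟩)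
    · exact .inr h
    all_goals have e := f.eq e
    · simp [h1 _ y1_mem, h2, h3, n1] at e
    · simp [h1 _ y1_mem, h3, n2] at e
    · simp [h1 _ y2_mem, h2, h3, n1] at e
    · simp [h1 _ y2_mem, h2, h3, n3] at e
  have hn' : ∀ y ∈ f.t.V, n⁻¹ * y = y * n⁻¹ := fun y hy => (Commute.inv_left (hn y hy)).eq
  rcases k hn' with a | a
  · exact .inl (inv_mem_iff.1 a)
  exact .inr ((k hm).imp_right fun b => by simpa using f.ty_same (f.cenN' hn') b a)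

theorem inP {n : G} (hn : n ∈ f.N) (h : n * f.t.x13 * n⁻¹ * f.t.x13 ∈ f.t.Z ∧ n * f.t.x23 * n⁻¹ * f.t.x23 ∈ f.t.Z ∧
    n * f.t.x34 * n⁻¹ * f.t.x34 ∈ f.t.Z ∧ n * f.t.x35 * n⁻¹ * f.t.x35 ∈ f.t.Z) : ∃ p ∈ f.t.P, ∃ k ∈ f.K, n = p * k := by
  obtain ⟨i, hi, _, ⟨γ, rfl⟩, h1⟩ := f.exists_ty hn
  have k : ∀ a, n * f.η a * n⁻¹ * f.η a ∈ f.t.Z → (π0 γ)⁻¹ * π0 (σ i a) * (π0 γ)⁻¹⁻¹ * π0 a ∈ ZB := fun a ha => by
    simp only [← map_inv, ← map_mul]
    refine f.bar_mem [c11, c12, c21, c22] (show _ ∈ f.t.Z from ?_)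
    simp only [map_inv, map_mul, ← h1]
    simpa [mul_assoc] using ha
  obtain ⟨rfl, h2⟩ := tau hi (k _ h.1) (k _ h.2.1) (k _ h.2.2.1) (k _ h.2.2.2)
  refine ⟨_, inv_mem (f.liftP (inv_mem_iff.1 h2)), f.η γ * n, f.memK fun δ => ?_, by group⟩
  exact (mul_inv_eq_iff_eq_mul.1 ((h1 δ).trans (by rw [σ_zero]))).symm

theorem inZ {n : G} (hV : ∀ y ∈ f.t.V, n * y = y * n) (hZ : ∀ y ∈ f.t.Z, n * y * n⁻¹ * y ∈ f.t.V) :
    ∃ p ∈ f.t.P, ∃ k ∈ f.K, n = p * k := by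
  have hn := f.cenN' hV
  obtain ⟨-, -, z1, z2, -⟩ := f.t.hl
  refine f.inP hn (Lt.mod_Z (fun p hp => f.cenP (x := n * f.t.z * n⁻¹) ?_ (fun h => z2 ?_) (f.cjL hn (f.PL hp)) ?_) hV hZ)
  · exact (mul_mem_cancel_right z1).1 (f.t.VZ (hZ _ z1))
  · exact (mul_mem_cancel_left h).1 (hZ _ z1)
  · rw [conj_mul, conj_mul, f.t.Zc _ z1 p hp]

theorem inZ' {n : G} (h : ∀ y ∈ f.t.Z, n * y = y * n) : ∃ p ∈ f.t.P, ∃ k ∈ f.K, n = p * k :=
  f.inZ (fun y hy => h y (f.t.VZ hy)) fun y hy => by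
    rw [h y hy, mul_inv_cancel_right, f.t.Zs y hy]
    exact one_mem _

omit [Finite G] in
theorem range_conj (g : G) : ((cjH g).comp f.η).range = cj g f.L := MonoidHom.range_comp _ _

/-- The conjugate. -/
noncomputable def conj (g : G) : Fr G where
  η := (cjH g).comp f.η
  sq s hs := by simp [f.sq s hs]
  card := by rw [range_conj, card_cj]; exact f.card
  odd x hx := by
    rw [range_conj, ← cj_normalizer, mem_cj] at hx
    rw [range_conj, ← cj_centralizer, ← card_cj g⁻¹, cj_inf, cj_inv_cj, cj_cj, cj_cj]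
    exact f.odd _ hx

omit [Finite G] in
theorem conj_L (g : G) : (f.conj g).L = cj g f.L := f.range_conj g
omit [Finite G] in
theorem conj_K (g : G) : (f.conj g).K = cj g f.K := by rw [K, conj_L, ← cj_centralizer, K]
omit [Finite G] in
theorem conj_N (g : G) : (f.conj g).N = cj g f.N := by rw [N, conj_L, ← cj_normalizer, N]
theorem conj_V (g : G) : (f.conj g).t.V = cj g f.t.V := by rw [V_eq, V_eq, conj_L, conj_K, cj_inf]
theorem conj_P (g : G) : (f.conj g).t.P = cj g f.t.P :=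
  (map_clos (cjH g) [f.η a1, f.η a2, f.η b1, f.η b2]).symm

omit [Finite G] in
theorem same {g : G} (hg : g ∈ f.N) : (f.conj g).L = f.L := by rw [conj_L, cj_eq_iff.2 hg]

theorem std {s : G} (hs : s ∈ f.M) (h2 : s * s = 1) : ∃ u ∈ f.L, ∀ p ∈ (f.conj u).t.P, p * s = s * p := by
  obtain ⟨l, hl, k, hk, rfl⟩ := f.memM.1 hs
  obtain ⟨u, hu, h⟩ := f.toZ hl (by
    rw [mul_assoc, ← mul_assoc k, ← f.comm hl hk, mul_assoc, ← mul_assoc] at h2
    rw [eq_inv_of_mul_eq_one_left h2]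
    exact inv_mem (mul_mem hk hk))
  refine ⟨u, hu, fun p hp => Commute.mul_right ?_ (f.comm (f.same (f.LN hu) ▸ (f.conj u).PL hp) hk)⟩
  rw [conj_P, mem_cj] at hp
  have := f.t.Zc _ h _ hp
  calc p * l = u * (u⁻¹ * p * u * (u⁻¹ * l * u)) * u⁻¹ := by group
    _ = _ := by rw [this]; group

end Fr

end Cfsg.Agent.HeA
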