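import Mathlib
import Cfsg.Agent.Std.HeF
import Cfsg.Agent.ABG.Tools

/-!
Two conjugate standard subgroups `2².L₃(4)`, a Sylow 2-subgroup of the first normalising the second.
-/

set_option autoImplicit false

namespace Cfsg.Agent.HeA

open Cfsg.Agent.Spor Cfsg.Agent.Rec Cfsg.Agent.Inv.Fz Subgroup

universe u

variable {G : Type u} [Group G] {f f' : Fr G}

/-- The centralisers meet in a group of odd order. -/
def Pr (f f' : Fr G) : Prop := Odd (Nat.card ↥(f.K ⊓ f'.K))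

theorem Pr.symm (h : Pr f f') : Pr f' f := by rwa [Pr, inf_comm]

theorem Fr.pr (f : Fr G) {g : G} (hg : g ∉ f.N) : Pr f (f.conj g) := by
  rw [Pr, f.conj_K]
  exact f.odd' hg

theorem Pr.conj (h : Pr f f') {u : G} (hu : u ∈ f.L) : Pr (f.conj u) f' := by
  rwa [Pr, Fr.K, f.same (f.LN hu)]

variable [Finite G]

namespace Pr

variable (h : Pr f f')
include h

theorem one {k : G} (hk : k ∈ f.K) (hk' : k ∈ f'.K) (h2 : k * k = 1) : k = 1 :=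
  eq_one_of_odd_of_sq h ⟨hk, hk'⟩ (k := 1) (by simpa [pow_two] using h2)

variable (hP : f.t.P ≤ f'.N)
include hP

omit h in
theorem c1 : ∀ s ∈ f'.t.V, ∃ y ∈ f.t.Z, s * y ∈ f.K := by
  obtain ⟨w, hw, -, w1, hc⟩ := ABG.exists_inv_of_even (U := f.t.P) (K := f'.t.V) f.syl.isPGroup
    (fun p hp => mem_normalizer_of_conj_mem (f'.cV (hP hp))) (by rw [f'.t.genV.2]; decide)
  have h1 : ∀ a ∈ f.t.P, ∀ b ∈ f.t.P, ∀ y ∈ f'.t.V, y * (b * a * b * a) = b * a * b * a * y := fun a ha b hb y hy => by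
    have := mul_mem hb ha
    rw [mul_assoc (b * a)]
    rcases Lt.cenV_or (f'.cV (hP this)) (f'.cV (hP this)) hw w1 (hc _ this) (hc _ this) with e | e | e
    exacts [(Commute.mul_left (e y hy) (e y hy)).eq.symm, (Commute.mul_left (e y hy) (e y hy)).eq.symm, (e y hy).symm]
  intro s hs
  obtain ⟨p, hp, k, hk, e⟩ := f.inZ' (n := s) (commute_clos (by
    obtain ⟨e1, e2, e3, e4⟩ := f.t.hc
    simp only [List.forall_mem_cons]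
    rw [e1, e2, e3, e4]
    refine ⟨h1 _ ?_ _ ?_ s hs, h1 _ ?_ _ ?_ s hs, h1 _ ?_ _ ?_ s hs, h1 _ ?_ _ ?_ s hs, by simp⟩ <;>
      exact mem_clos (by simp)))
  by_cases hz : p ∈ f.t.Z
  · refine ⟨p, hz, ?_⟩
    rwa [e, mul_assoc, ← f.comm (f.PL hp) hk, ← mul_assoc, f.t.Zs p hz, one_mul]
  obtain ⟨u, hu, u', hu', a1, a2, a3, a4, a5⟩ := f.t.nc p hp hz
  have h2 : ∀ u ∈ f.t.X, u * p * u⁻¹ * p⁻¹ ∈ f'.t.V := fun u hu => by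
    have hu := f.t.hle.2.2.2.2.2.2.2 u hu
    have := mul_mem (f'.cV (hP hu) s hs) (inv_mem hs)
    rwa [e, ← mul_assoc, mul_assoc (u * p), ← f.comm (f.PL (inv_mem hu)) hk, ← mul_assoc, mul_inv_rev,
      ← mul_assoc, mul_inv_cancel_right] at this
  refine ⟨s, ?_, by rw [f'.t.Zs s (f'.t.VZ hs)]; exact one_mem _⟩
  rcases f'.t.klein _ (h2 u hu) _ (h2 u' hu') a3 a4 a5 s hs with rfl | rfl | rfl | rfl
  exacts [one_mem _, a1, a2, mul_mem a1 a2]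

omit h in
theorem c1c : ∀ u ∈ f.t.P, ∀ s ∈ f'.t.V, u * s = s * u := fun u hu s hs => by
  obtain ⟨y, hy, e⟩ := c1 hP s hs
  have := Commute.mul_right (f.comm (f.PL hu) e) (Commute.inv_right (f.t.Zc y hy u hu))
  rwa [mul_inv_cancel_right] at this

theorem c1s : ∀ y ∈ f.t.Z, ∃ s ∈ f'.t.V, y * s ∈ f.K := fun y hy => by
  obtain ⟨m1, m2, n1, n2, n3, -⟩ := f'.t.hv
  obtain ⟨y1, p1, q1⟩ := c1 hP _ m1
  obtain ⟨y2, p2, q2⟩ := c1 hP _ m2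
  have q3 : f'.t.v1 * f'.t.v2 * (y1 * y2) ∈ f.K := by
    have := mul_mem q1 q2
    rwa [mul_assoc, ← mul_assoc y1, c1c hP _ (f.t.ZP p1) _ m2, mul_assoc, ← mul_assoc] at this
  have k1 : ∀ {s x : G}, s ∈ f'.t.V → s ≠ 1 → s * x ∈ f.K → x ∉ f.t.V := fun a b c d =>
    b (h.one ((mul_mem_cancel_right (f.VK d)).1 c) (f'.VK a) (f'.t.Zs _ (f'.t.VZ a)))
  have k2 : ∀ {s x : G}, s ∈ f'.t.V → x ∈ f.t.Z → s * x ∈ f.K → y * x ∈ f.t.V → ∃ s ∈ f'.t.V, y * s ∈ f.K :=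
    fun {s x} a b c d => ⟨s, a, by
      have := mul_mem (f.VK d) c
      rwa [← c1c hP _ (f.t.ZP b) _ a, mul_assoc, ← mul_assoc x, f.t.Zs x b, one_mul] at this⟩
  rcases f.t.cov _ p1 (k1 m1 n1 q1) _ p2 (k1 m2 n2 q2) (k1 (mul_mem m1 m2) n3 q3) y hy with e | e | e | e
  exacts [⟨1, one_mem _, by simpa using f.VK e⟩, k2 m1 p1 q1 e, k2 m2 p2 q2 e,
    k2 (mul_mem m1 m2) (mul_mem p1 p2) q3 e]

omit h in
theorem c2 : ∃ l ∈ f'.L, (f'.conj l).t.P ≤ f.N := by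
  obtain ⟨m1, m2, n1, n2, n3, -⟩ := f.t.hv
  obtain ⟨v, hv, v1, hM⟩ : ∃ v ∈ f.t.V, v ≠ 1 ∧ v ∈ f'.M := by
    rcases f'.two (c1c hP _ (f.t.ZP (f.t.VZ m1))) (c1c hP _ (f.t.ZP (f.t.VZ m2))) with e | e | e
    exacts [⟨_, m1, n1, e⟩, ⟨_, m2, n2, e⟩, ⟨_, mul_mem m1 m2, n3, e⟩]
  obtain ⟨l, hl, e⟩ := f'.std hM (f.t.Zs _ (f.t.VZ hv))
  exact ⟨l, hl, fun p hp => f.cenN (f.VK hv) (f.t.Zs _ (f.t.VZ hv)) v1 (e p hp)⟩

end Pr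

/-- The symmetric situation. -/
structure Tw (f f' : Fr G) : Prop where
  pr : Pr f f'
  hP : f.t.P ≤ f'.N
  hP' : f'.t.P ≤ f.N

namespace Tw

variable (h : Tw f f')
include h

theorem symm : Tw f' f := ⟨h.pr.symm, h.hP', h.hP⟩

theorem subP {u : G} (hu : u ∈ f.t.P) : ∃ p ∈ f'.t.P, ∃ k ∈ f'.K, u = p * k :=
  f'.inZ (Pr.c1c h.hP u hu) fun y hy => by
    obtain ⟨v, hv, e⟩ := h.pr.symm.c1s h.hP' y hy
    refine f'.memV (mul_mem (f'.cjL (h.hP hu) (f'.ZL hy)) (f'.ZL hy)) ?_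
    have := mul_mem (f'.cK (h.hP hu) e) (inv_mem e)
    rwa [← mul_assoc, mul_assoc (u * y), ← f.t.Zc v (f.t.VZ hv) _ (inv_mem hu), ← mul_assoc, mul_inv_rev, ← mul_assoc,
      mul_inv_cancel_right, inv_eq_of_mul_eq_one_right (f'.t.Zs y hy)] at this

theorem ZV {c : G} (hc : c ∈ f.t.Z) : ∃ v ∈ f.t.V, c * v ∈ f'.t.V := by
  have h1 : ∀ a ∈ f.t.P, ∀ b ∈ f.t.P, b * a * b * a ∈ f'.t.Z ⊔ f'.K := fun a ha b hb => by
    obtain ⟨p, hp, k, hk, e⟩ := h.subP (mul_mem hb ha)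
    rw [mul_assoc (b * a), e, mul_assoc, ← mul_assoc k, ← f'.comm (f'.PL hp) hk, mul_assoc, ← mul_assoc]
    exact mul_mem (mem_sup_left (f'.t.Ps p hp)) (mem_sup_right (mul_mem hk hk))
  have h2 : f.t.Z ≤ f'.t.Z ⊔ f'.K := clos_le.2 (by
    obtain ⟨e1, e2, e3, e4⟩ := f.t.hc
    simp only [List.forall_mem_cons]
    rw [e1, e2, e3, e4]
    refine ⟨h1 _ ?_ _ ?_, h1 _ ?_ _ ?_, h1 _ ?_ _ ?_, h1 _ ?_ _ ?_, by simp⟩ <;> exact mem_clos (by simp))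
  obtain ⟨y, hy, k, hk, rfl⟩ := (mem_sup_iff_of_le_normalizer
    (f'.ZL.trans (f'.LN.trans (normalizer_le_normalizer_centralizer _)))).1 (h2 hc)
  obtain ⟨v, hv, e⟩ := h.pr.symm.c1s h.hP' y hy
  have h3 : y * k * v ∈ f'.K := by
    rw [f'.comm (f'.ZL hy) hk, mul_assoc]
    exact mul_mem hk e
  have h4 := mul_mem hc (f.t.VZ hv)
  refine ⟨v, hv, ?_⟩
  generalize y * k * v = d at h3 h4
  obtain ⟨s, hs, e'⟩ := h.pr.c1s h.hP _ h4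
  have h5 := h.pr.one e' (mul_mem h3 (f'.VK hs)) (by
    rw [mul_assoc, ← mul_assoc s, ← Pr.c1c h.hP _ (f.t.ZP h4) _ hs, mul_assoc, f'.t.Zs s (f'.t.VZ hs), mul_one,
      f.t.Zs d h4])
  exact eq_inv_of_mul_eq_one_left h5 ▸ inv_mem hs

theorem VZ : f'.t.V ≤ f.t.Z := fun s hs => by
  obtain ⟨y, hy, e⟩ := Pr.c1 h.hP s hs
  obtain ⟨v, hv, e'⟩ := h.ZV hy
  have := h.pr.one (k := s * (y * v)) (mul_assoc s y v ▸ mul_mem e (f.VK hv)) (f'.VK (mul_mem hs e'))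
    (f'.t.Zs _ (f'.t.VZ (mul_mem hs e')))
  exact eq_inv_of_mul_eq_one_left this ▸ inv_mem (mul_mem hy (f.t.VZ hv))

theorem ZZ : f.t.Z ≤ f'.t.Z := fun c hc => by
  obtain ⟨v, hv, e⟩ := h.ZV hc
  exact (mul_mem_cancel_right (h.symm.VZ hv)).1 (f'.t.VZ e)

theorem Kv {k : G} (hk : k ∈ f.K) : ∃ v ∈ f.t.V, k * v ∈ f'.K := by
  obtain ⟨p, hp, k', hk', e⟩ := f'.inZ' (n := k) fun y hy => (f.comm (f.ZL (h.symm.ZZ hy)) hk).symm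
  by_cases hz : p ∈ f'.t.Z
  · obtain ⟨v, hv, e'⟩ := h.ZV (h.symm.ZZ hz)
    refine ⟨v, hv, ?_⟩
    rw [e, f'.comm (f'.PL hp) hk', mul_assoc]
    exact mul_mem hk' (f'.VK e')
  have h1 : ∀ a ∈ f.t.P, a * a = 1 → ∃ α ∈ f'.t.X, ∃ ζ ∈ f'.t.Z, ∃ l ∈ f'.K, a = α * ζ * l ∧
      p * α * p⁻¹ * α⁻¹ ∈ f'.t.V := fun a ha h2 => by
    obtain ⟨q, hq, l, hl, rfl⟩ := h.subP ha
    obtain ⟨α, hα, ζ, hζ, rfl⟩ := f'.t.red q hq (f'.memV (f'.PL (mul_mem hq hq)) (by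
      rw [mul_assoc, ← mul_assoc l, ← f'.comm (f'.PL hq) hl, mul_assoc, ← mul_assoc] at h2
      exact eq_inv_of_mul_eq_one_left h2 ▸ inv_mem (mul_mem hl hl)))
    have hα' := f'.PL (f'.t.hle.2.2.2.2.2.2.2 α hα)
    refine ⟨α, hα, ζ, hζ, l, hl, rfl, f'.memV
      (mul_mem (f'.cjL (f'.LN (f'.PL hp)) hα') (inv_mem hα')) ?_⟩
    have h3 := f.comm (f.PL ha) hk
    have h4 : p * α * p⁻¹ * α⁻¹ = l * k' * (k' * l)⁻¹ := by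
      have c1 : Commute p ζ := f'.t.Zc ζ hζ p hp
      have c2 : Commute p l := f'.comm (f'.PL hp) hl
      have c3 : Commute (α * ζ) k' := f'.comm (f'.PL hq) hk'
      have c5 : α * ζ * p * (l * k') = p * (α * ζ) * (k' * l) := by
        calc _ = α * ζ * l * (p * k') := by rw [mul_assoc (α * ζ) l, ← mul_assoc l, ← c2.eq]; group
          _ = _ := by rw [← e, h3, e, mul_assoc p k', ← mul_assoc k', ← c3.eq]; group
      have c6 : Commute (α * ζ * p) (l * k' * (k' * l)⁻¹) := f'.comm (f'.PL (mul_mem hq hp))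
        (mul_mem (mul_mem hl hk') (inv_mem (mul_mem hk' hl)))
      calc _ = p * (α * ζ) * (k' * l) * (k' * l)⁻¹ * (α * ζ * p)⁻¹ := by
            rw [mul_inv_cancel_right, mul_assoc α ζ p, ← c1.eq, ← mul_assoc p α, mul_assoc (p * α) ζ]
            rw [show ζ * (α * (p * ζ))⁻¹ = p⁻¹ * α⁻¹ by group, mul_assoc (p * α)]
        _ = _ := by rw [← c5, mul_assoc (α * ζ * p), c6.eq, mul_inv_cancel_right]
    rw [h4]
    exact mul_mem (mul_mem hl hk') (inv_mem (mul_mem hk' hl))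
  have h2 : ∀ a ∈ f.t.A0, ∀ b ∈ f.t.B0, b * a * b * a ∈ f'.K := fun a ha b hb => by
    obtain ⟨-, -, -, e1, e2, a0, b0, -⟩ := f.t.hle
    obtain ⟨α, hα, ζ, hζ, l, hl, rfl, c⟩ := h1 a (e1 (a0 ha)) (f.t.E1c _ (a0 ha)).1
    obtain ⟨β, hβ, ξ, hξ, m, hm, rfl, d⟩ := h1 b (e2 (b0 hb)) (f.t.E2c _ (b0 hb)).1
    have h3 := f'.VK (f'.t.ab p hp hz _ hα c _ hβ d)
    rw [← f'.t.cm _ hα _ hβ _ hζ _ hξ] at h3
    have m1 := f'.PL (mul_mem (f'.t.hle.2.2.2.2.2.2.2 α hα) (f'.t.ZP hζ))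
    have m2 := f'.PL (mul_mem (f'.t.hle.2.2.2.2.2.2.2 β hβ) (f'.t.ZP hξ))
    generalize α * ζ = q, β * ξ = r at h3 m1 m2
    have := mul_mem h3 (mul_mem (mul_mem (mul_mem hm hl) hm) hl)
    have c1 : ∀ x ∈ f'.L, ∀ k ∈ f'.K, ∀ y, k * (x * y) = x * (k * y) := fun x hx k hk y => by
      rw [← mul_assoc, ← f'.comm hx hk, mul_assoc]
    simpa only [mul_assoc, c1 _ m1 _ hm, c1 _ m1 _ hl, c1 _ m2 _ hm, c1 _ m2 _ hl] using this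
  obtain ⟨e1, -, -, e4⟩ := f.t.hc
  obtain ⟨⟨m1, m2, m3, m4⟩, -⟩ := f.t.hl
  exact absurd (h.pr.one (f.VK f.t.hv.1) (mul_mem (e1 ▸ h2 _ m1 _ m3) (e4 ▸ h2 _ m2 _ m4))
    (f.t.Zs _ (f.t.VZ f.t.hv.1))) f.t.hv.2.2.1

theorem PP : f.t.P ≤ f'.t.P := fun u hu => by
  obtain ⟨p, hp, k, hk, e⟩ := h.subP hu
  obtain ⟨v, hv, e'⟩ := h.symm.Kv hk
  have h1 := mul_mem hp (inv_mem (f'.t.ZP (f'.t.VZ hv)))
  have h2 := mul_mem hk (f'.VK hv)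
  have h3 : u = p * v⁻¹ * (k * v) := by
    rw [e, ← f'.comm (f'.ZL (f'.t.VZ hv)) hk]
    group
  have h4 : ∀ {t : Lt G} {x : G}, x ∈ t.P → x ^ 2 ^ 2 = 1 := fun {t x} hx => by
    simpa [pow_succ, mul_assoc] using t.Zs _ (t.Ps x hx)
  have h5 := h4 hu
  rw [h3, Commute.mul_pow (f'.comm (f'.PL h1) h2), h4 h1, one_mul] at h5
  rwa [h3, eq_one_of_odd_of_sq h.pr ⟨e', h2⟩ h5, mul_one]

theorem cenZ (c : G) (hc : ∀ y ∈ f.t.Z, c * y = y * c) :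
    ∃ p ∈ f.t.P, ∃ o, Odd (orderOf o) ∧ (∀ y ∈ f.t.P, o * y = y * o) ∧ c = p * o := by
  obtain ⟨p, hp, k, hk, rfl⟩ := f.inZ' hc
  obtain ⟨v, hv, e⟩ := h.Kv hk
  have h1 := mul_mem hk (f.VK hv)
  refine ⟨_, mul_mem hp (inv_mem (f.t.ZP (f.t.VZ hv))), k * v,
    h.pr.of_dvd_nat (orderOf_dvd_natCard _ ⟨h1, e⟩), fun y hy => (f.comm (f.PL hy) h1).symm, ?_⟩
  rw [← f.comm (f.ZL (f.t.VZ hv)) hk]
  group

end Tw

theorem Pr.main (h : Pr f f') (hP : f.t.P ≤ f'.N) : f'.t.V ≤ f.t.Z ∧ f.t.P ≤ f'.L ∧ ∀ c, (∀ y ∈ f.t.Z, c * y = y * c) →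
    ∃ p ∈ f.t.P, ∃ o, Odd (orderOf o) ∧ (∀ y ∈ f.t.P, o * y = y * o) ∧ c = p * o := by
  obtain ⟨l, hl, e⟩ := Pr.c2 hP
  have h1 := f'.same (f'.LN hl)
  have h2 : Tw f (f'.conj l) := ⟨(h.symm.conj hl).symm, by rwa [Fr.N, h1], e⟩
  refine ⟨?_, h1 ▸ h2.PP.trans (f'.conj l).PL, h2.cenZ⟩
  have := h2.VZ
  rwa [Fr.V_eq, Fr.K, h1, ← Fr.K, ← Fr.V_eq] at this

end Cfsg.Agent.HeA
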