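import Mathlib
import Cfsg.Agent.Std.E8M

/-! Generated by tools/fl: involutions of the quotient of the Weyl group of type E8 by its centre -/

set_option autoImplicit false
set_option maxRecDepth 100000
set_option linter.unusedVariables false
set_option exponentiation.threshold 100000
set_option Elab.async false

namespace Cfsg.Agent.Std.E8

open Cfsg.Agent.Spor Cfsg.Agent.Spor.FL

noncomputable def p2_w : LT :=
(.node (.node (.node (.node (.leaf [nat_lit 118,nat_lit 55,nat_lit 25,nat_lit 24])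
 (.leaf [nat_lit 100,nat_lit 38]))
 (.node (.leaf [nat_lit 55,nat_lit 25])
 (.leaf [nat_lit 118,nat_lit 83,nat_lit 80,nat_lit 25,nat_lit 6,nat_lit 4])))
 (.node (.node (.leaf [nat_lit 101,nat_lit 84])
 (.leaf [nat_lit 86,nat_lit 50,nat_lit 25,nat_lit 24]))
 (.leaf [nat_lit 100,nat_lit 28])))
 (.node (.node (.node (.leaf [nat_lit 107,nat_lit 74,nat_lit 14,nat_lit 10])
 (.leaf [nat_lit 102,nat_lit 100,nat_lit 84,nat_lit 42,nat_lit 12]))
 (.leaf [nat_lit 102,nat_lit 101,nat_lit 100,nat_lit 26]))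
 (.node (.node (.leaf [nat_lit 116,nat_lit 67,nat_lit 40,nat_lit 9])
 (.leaf [nat_lit 93,nat_lit 53,nat_lit 36,nat_lit 9]))
 (.leaf [nat_lit 101,nat_lit 95,nat_lit 38,nat_lit 9]))))

theorem p2_hw : p2_w.all (lettersLt 120) = true := by decide +kernel

noncomputable def p2_A : ℕ → ℕ := fun i => Nat.land (Nat.shiftRight (nat_lit 0x456c6142f3501630bd06602201b00900600300100001c40c25914309904602201000800400300100000000024d12108d04102001000900500200100000000000410008104602201100e00400200100000000000000008504002001500a004002001000000000000000005046023011009004002001000000000000000000000020010009004002001000000000000000000000000011008004002001000000000000000000000000000008004002001000000000000000000000000000000004002001000000000000000000000000000000000002001000000000000000000000000000000000000001000000000000000000000000000000000000000) (Nat.mul (nat_lit 12) i)) (nat_lit 4095)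

theorem p2_r_0 : allRange (nat_lit 0) (nat_lit 4) (pcOK (wT Xb p2_w) (nat_lit 2) (nat_lit 13) B p2_A) = true := by decide +kernel

theorem p2_r_1 : allRange (nat_lit 4) (nat_lit 4) (pcOK (wT Xb p2_w) (nat_lit 2) (nat_lit 13) B p2_A) = true := by decide +kernel

theorem p2_r_2 : allRange (nat_lit 8) (nat_lit 4) (pcOK (wT Xb p2_w) (nat_lit 2) (nat_lit 13) B p2_A) = true := by decide +kernel

theorem p2_r_3 : allRange (nat_lit 12) (nat_lit 1) (pcOK (wT Xb p2_w) (nat_lit 2) (nat_lit 13) B p2_A) = true := by decide +kernel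

theorem p2_r : ∀ i < 13, (pcOK (wT Xb p2_w) (nat_lit 2) (nat_lit 13) B p2_A) i = true := range_append 1 (range_append 4 (range_append 4 (allRange_zero p2_r_0) p2_r_1 (b := 8)) p2_r_2 (b := 12)) p2_r_3 (b := 13)

theorem p2_pc {G : Type*} [Group G] (M : Mod G) : IsPC (M.wl p2_w) 2 13 := (M.lm p2_hw 13).isPC p2_r

noncomputable def p2_P : ℕ → ℕ := fun i => Nat.land (Nat.shiftRight (nat_lit 0xedd396fddaf566cb92fdebb72bd6ab5274d992e543850603f7cddb3568cd92a52a13a64a90e1b3464c172c3868c1628488) (Nat.mul (nat_lit 7) i)) (nat_lit 127)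

noncomputable def p2_T_t : BT :=
(.node (.node (.node (.node (.leaf (nat_lit 0xdd2674161330bee5ea22ca680268a45a5c817de3dc6dad58b635444764d074e3712ca26b1c2cd40c6827))
 (.leaf (nat_lit 0xd194b7032230bee82c32a6871664ce3d186d54a589629d9b05d7d49758908e436b2de731a069c40c25f3)))
 (.node (.leaf (nat_lit 0xdf6d5ccf2c509aeb6c22a7a802f9645a28417e93f46da6585e35444524f074e34c2ca26b1c21540c6827))
 (.leaf (nat_lit 0x6ec1984915832efae2d65a1c74dcca8454c024e115dc709e232a6032ac6e534c234247d96add819979cf))))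
 (.node (.node (.leaf (nat_lit 0x25265cce1c70beeb6aaec7a89e69645a2ca07e93f46cad585e35444f645074e34c2dadc81c21540c6040))
 (.leaf (nat_lit 0xdd7969845b2fc0b4b110cd28190d5b059cd61dc4de91a898da054876d3e644e0eab8a2547e7cab3408c2)))
 (.leaf (nat_lit 0xdd94b432a170bee8a1032a582265df3edb1191e59c1dada895d3820758108d53732ca2676c4c460d44eb))))
 (.node (.node (.node (.leaf (nat_lit 0x25265ccf2c70bee5ecaea78e9e68875a58416e93f47cad55b636144764d076834c2dadc89061440c2800))
 (.leaf (nat_lit 0x28f59e9c4af09ae806c42d24cef468d5352d55cda96378db0597f289d9504872c834968c3aa0210ec5c5)))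
 (.leaf (nat_lit 0x69d8e99c2af0bee444c54d15ce605bd601a21dcd9e93758e4d9a2a5cfb504983482c928c7e102c0f2945)))
 (.node (.node (.leaf (nat_lit 0x276674172c509835eaaeca6802f9475a28606de75c7cad58b635444524f03ce2cc35adc8906cd4b82067))
 (.leaf (nat_lit 0xdf2a9cb52890bcb159075a4e4e631f531dab1de0b490ab18cc45569e10301a8ba50da2606cf5e335d211)))
 (.leaf (nat_lit 0x2963e9ad49d0bee04214670e3264c749112d7f465e6f77588365728a3970d682c03496b392a2210ec5f1)))))

noncomputable def p2_T : ℕ → ℕ → ℕ := fun x i => Nat.land (Nat.shiftRight (BT.get p2_T_t x) (Nat.mul (nat_lit 6) i)) (nat_lit 63)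

theorem p2_res : ∀ i < 56, (resOK (wT Xb p2_w) p2_T p2_P (nat_lit 120) (nat_lit 56) (nat_lit 13)) i = true := allRange_zero (len := (nat_lit 56)) (by decide +kernel)

theorem p2_tabs {G : Type*} [Group G] (M : Mod G) : Tabs (fun i => pts M.x (p2_P i)) 56 p2_T (M.wl p2_w) 13 ∧ Set.InjOn (fun i => pts M.x (p2_P i)) (Set.Iio 56) :=
  res_spec (M.tabs_wl p2_hw 13) M.inj p2_res

noncomputable def p2_ch_l : LT :=
(.node (.node (.node (.leaf [nat_lit 4,nat_lit 0])
 (.leaf [nat_lit 12,nat_lit 11,nat_lit 8,nat_lit 7,nat_lit 1]))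
 (.leaf [nat_lit 4,nat_lit 3,nat_lit 2,nat_lit 1]))
 (.node (.node (.leaf [nat_lit 7,nat_lit 6,nat_lit 5,nat_lit 4])
 (.leaf [nat_lit 11,nat_lit 7,nat_lit 5]))
 (.leaf [nat_lit 9,nat_lit 8,nat_lit 3])))

theorem p2_ch_hl : p2_ch_l.all (lettersLt 13) = true := by decide +kernel

noncomputable def p2_ch_5O : ℕ → ℕ := fun i => Nat.land (Nat.shiftRight (nat_lit 3269) (Nat.mul (nat_lit 6) i)) (nat_lit 63)

noncomputable def p2_ch_5E : ℕ → ℕ := fun i => Nat.land (Nat.shiftRight (nat_lit 131072) (Nat.mul (nat_lit 9) i)) (nat_lit 511)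

theorem p2_ch_5_s : band (blt (nat_lit 5) (nat_lit 56)) (band (Nat.ble (nat_lit 0) (nat_lit 1)) (allLt (nat_lit 0) fun y => Nat.beq (wT p2_T p2_ch_l y (nat_lit 5)) (nat_lit 5))) = true := by decide +kernel

theorem p2_ch_5_o : ∀ i < 2, (fun i => band (incOK p2_ch_5O (nat_lit 2) (nat_lit 56) i) (orbL (wT p2_T p2_ch_l) (nat_lit 1) p2_ch_5O p2_ch_5E (nat_lit 2) (Nat.beq (nat_lit 5)) i)) i = true := allRange_zero (len := (nat_lit 2)) (by decide +kernel)

noncomputable def p2_ch_4O : ℕ → ℕ := fun i => Nat.land (Nat.shiftRight (nat_lit 644) (Nat.mul (nat_lit 5) i)) (nat_lit 31)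

noncomputable def p2_ch_4E : ℕ → ℕ := fun i => Nat.land (Nat.shiftRight (nat_lit 131584) (Nat.mul (nat_lit 9) i)) (nat_lit 511)

theorem p2_ch_4_s : band (blt (nat_lit 4) (nat_lit 56)) (band (Nat.ble (nat_lit 1) (nat_lit 2)) (allLt (nat_lit 1) fun y => Nat.beq (wT p2_T p2_ch_l y (nat_lit 4)) (nat_lit 4))) = true := by decide +kernel

theorem p2_ch_4_o : ∀ i < 2, (fun i => band (incOK p2_ch_4O (nat_lit 2) (nat_lit 56) i) (orbL (wT p2_T p2_ch_l) (nat_lit 2) p2_ch_4O p2_ch_4E (nat_lit 2) (Nat.beq (nat_lit 4)) i)) i = true := allRange_zero (len := (nat_lit 2)) (by decide +kernel)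

noncomputable def p2_ch_3O : ℕ → ℕ := fun i => Nat.land (Nat.shiftRight (nat_lit 2947) (Nat.mul (nat_lit 6) i)) (nat_lit 63)

noncomputable def p2_ch_3E : ℕ → ℕ := fun i => Nat.land (Nat.shiftRight (nat_lit 132096) (Nat.mul (nat_lit 9) i)) (nat_lit 511)

theorem p2_ch_3_s : band (blt (nat_lit 3) (nat_lit 56)) (band (Nat.ble (nat_lit 2) (nat_lit 3)) (allLt (nat_lit 2) fun y => Nat.beq (wT p2_T p2_ch_l y (nat_lit 3)) (nat_lit 3))) = true := by decide +kernel

theorem p2_ch_3_o : ∀ i < 2, (fun i => band (incOK p2_ch_3O (nat_lit 2) (nat_lit 56) i) (orbL (wT p2_T p2_ch_l) (nat_lit 3) p2_ch_3O p2_ch_3E (nat_lit 2) (Nat.beq (nat_lit 3)) i)) i = true := allRange_zero (len := (nat_lit 2)) (by decide +kernel)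

noncomputable def p2_ch_2O : ℕ → ℕ := fun i => Nat.land (Nat.shiftRight (nat_lit 0xb2a182) (Nat.mul (nat_lit 6) i)) (nat_lit 63)

noncomputable def p2_ch_2E : ℕ → ℕ := fun i => Nat.land (Nat.shiftRight (nat_lit 0x40f020080c0c0000) (Nat.mul (nat_lit 18) i)) (nat_lit 262143)

theorem p2_ch_2_s : band (blt (nat_lit 2) (nat_lit 56)) (band (Nat.ble (nat_lit 3) (nat_lit 4)) (allLt (nat_lit 3) fun y => Nat.beq (wT p2_T p2_ch_l y (nat_lit 2)) (nat_lit 2))) = true := by decide +kernel

theorem p2_ch_2_o : ∀ i < 4, (fun i => band (incOK p2_ch_2O (nat_lit 4) (nat_lit 56) i) (orbL (wT p2_T p2_ch_l) (nat_lit 4) p2_ch_2O p2_ch_2E (nat_lit 4) (Nat.beq (nat_lit 2)) i)) i = true := allRange_zero (len := (nat_lit 4)) (by decide +kernel)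

noncomputable def p2_ch_1O : ℕ → ℕ := fun i => Nat.land (Nat.shiftRight (nat_lit 0xd607594d13c1) (Nat.mul (nat_lit 6) i)) (nat_lit 63)

noncomputable def p2_ch_1E : ℕ → ℕ := fun i => Nat.land (Nat.shiftRight (nat_lit 0x20900c120181f0200a080840c13810180000) (Nat.mul (nat_lit 19) i)) (nat_lit 524287)

theorem p2_ch_1_s : band (blt (nat_lit 1) (nat_lit 56)) (band (Nat.ble (nat_lit 4) (nat_lit 5)) (allLt (nat_lit 4) fun y => Nat.beq (wT p2_T p2_ch_l y (nat_lit 1)) (nat_lit 1))) = true := by decide +kernel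

theorem p2_ch_1_o : ∀ i < 8, (fun i => band (incOK p2_ch_1O (nat_lit 8) (nat_lit 56) i) (orbL (wT p2_T p2_ch_l) (nat_lit 5) p2_ch_1O p2_ch_1E (nat_lit 8) (Nat.beq (nat_lit 1)) i)) i = true := allRange_zero (len := (nat_lit 8)) (by decide +kernel)

noncomputable def p2_ch_0O : ℕ → ℕ := fun i => Nat.land (Nat.shiftRight (nat_lit 0xdb5cf2c6db2baa79638a181d6575944d244f308185102040) (Nat.mul (nat_lit 6) i)) (nat_lit 63)

noncomputable def p2_ch_0E : ℕ → ℕ := fun i => Nat.land (Nat.shiftRight (nat_lit 0xc8302bc0c02a120af0305303821c1c1460a08b050560302041415a1009f0703a04027810140020af0303881026c201440e0a80505802025c1c1500a09e0403c0302241816e0e073090580202e4180fc080800000) (Nat.mul (nat_lit 21) i)) (nat_lit 0x1fffff)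

theorem p2_ch_0_s : band (blt (nat_lit 0) (nat_lit 56)) (band (Nat.ble (nat_lit 5) (nat_lit 6)) (allLt (nat_lit 5) fun y => Nat.beq (wT p2_T p2_ch_l y (nat_lit 0)) (nat_lit 0))) = true := by decide +kernel

theorem p2_ch_0_o : ∀ i < 32, (fun i => band (incOK p2_ch_0O (nat_lit 32) (nat_lit 56) i) (orbL (wT p2_T p2_ch_l) (nat_lit 6) p2_ch_0O p2_ch_0E (nat_lit 32) (Nat.beq (nat_lit 0)) i)) i = true := allRange_zero (len := (nat_lit 32)) (by decide +kernel)

theorem p2_ch {G : Type*} [Group G] (M : Mod G) : ∀ Y : Subgroup G, Finite Y → genLt (fun s => evalW (M.wl p2_w) (p2_ch_l.get s)) 6 ≤ Y → 8192 * Nat.card (fixB (fun i => pts M.x (p2_P i)) Y [nat_lit 0,nat_lit 1,nat_lit 2,nat_lit 3,nat_lit 4,nat_lit 5]) ≤ Nat.card Y :=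
  (LowLevel.card_fix (e := (fun i => pts M.x (p2_P i))) (lowLevel_words (p2_tabs M).1 (p2_tabs M).2 p2_ch_hl p2_ch_0_s p2_ch_0_o) (LowLevel.card_fix (e := (fun i => pts M.x (p2_P i))) (lowLevel_words (p2_tabs M).1 (p2_tabs M).2 p2_ch_hl p2_ch_1_s p2_ch_1_o) (LowLevel.card_fix (e := (fun i => pts M.x (p2_P i))) (lowLevel_words (p2_tabs M).1 (p2_tabs M).2 p2_ch_hl p2_ch_2_s p2_ch_2_o) (LowLevel.card_fix (e := (fun i => pts M.x (p2_P i))) (lowLevel_words (p2_tabs M).1 (p2_tabs M).2 p2_ch_hl p2_ch_3_s p2_ch_3_o) (LowLevel.card_fix (e := (fun i => pts M.x (p2_P i))) (lowLevel_words (p2_tabs M).1 (p2_tabs M).2 p2_ch_hl p2_ch_4_s p2_ch_4_o) (LowLevel.card_fix (e := (fun i => pts M.x (p2_P i))) (lowLevel_words (p2_tabs M).1 (p2_tabs M).2 p2_ch_hl p2_ch_5_s p2_ch_5_o) (card_fix_nil (fun i => pts M.x (p2_P i)) _)))))))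

theorem p2_cb {G : Type*} [Group G] (M : Mod G) : Nat.card (genLt (M.wl p2_w) 13) = 2 ^ 13 ∧ IsBase (fun i => pts M.x (p2_P i)) (genLt (M.wl p2_w) 13) [nat_lit 0,nat_lit 1,nat_lit 2,nat_lit 3,nat_lit 4,nat_lit 5] :=
  have := M.fin
  card_base_of_chain (p2_ch M) (words_le_genLt p2_ch_hl _) ((p2_pc M).card_le (by decide))

theorem p2_lm {G : Type*} [Group G] (M : Mod G) : LM (fun i => pts M.x (p2_P i)) 56 p2_T (M.wl p2_w) 13 [nat_lit 0,nat_lit 1,nat_lit 2,nat_lit 3,nat_lit 4,nat_lit 5] :=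
  ⟨(p2_tabs M).2, (p2_tabs M).1, (p2_cb M).2, by decide +kernel⟩

noncomputable def rw : LT :=
(.node (.node (.node (.leaf [nat_lit 0])
 (.leaf [nat_lit 119,nat_lit 6,nat_lit 4,nat_lit 2]))
 (.leaf [nat_lit 6,nat_lit 4,nat_lit 2]))
 (.node (.node (.leaf [nat_lit 2,nat_lit 1])
 (.leaf [nat_lit 93,nat_lit 77,nat_lit 73,nat_lit 22,nat_lit 18,nat_lit 7,nat_lit 3,nat_lit 0]))
 (.leaf [nat_lit 31,nat_lit 4,nat_lit 2,nat_lit 1])))

theorem rw_h : rw.all (lettersLt 120) = true := by decide +kernel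

noncomputable def cl2_N0 : ℕ → ℕ := fun i => Nat.land (Nat.shiftRight (nat_lit 0x6217109851c282c211548a4450222910888020910408044001580a4c52429014008a030010108003841c0050021010005002401000480200080020008002000) (Nat.mul (nat_lit 13) i)) (nat_lit 8191)

noncomputable def cl2_N1 : ℕ → ℕ := fun i => Nat.land (Nat.shiftRight (nat_lit 0xc42c2858558445545445345245145044544444344244144020a2092082022012001581501491481401140c008007002d02c028024021020018014012010009008004002001000) (Nat.mul (nat_lit 12) i)) (nat_lit 4095)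

noncomputable def cl2_N2 : ℕ → ℕ := fun i => Nat.land (Nat.shiftRight (nat_lit 0x188710615c28b091522945088910a2020a410809001582a0520a0114208310600841001c03002c050090100180280480800800800800) (Nat.mul (nat_lit 11) i)) (nat_lit 2047)

noncomputable def cl2_N3 : ℕ → ℕ := fun i => Nat.land (Nat.shiftRight (nat_lit 0x310c2961581154511144082200571585515053148511404511041100320c430088210801c0601002c0a02408018050100200400) (Nat.mul (nat_lit 10) i)) (nat_lit 1023)

noncomputable def cl2_N4 : ℕ → ℕ := fun i => Nat.land (Nat.shiftRight (nat_lit 0x189c461708b0452209041200ac54291408840190c044200e060200a04018080200) (Nat.mul (nat_lit 9) i)) (nat_lit 511)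

noncomputable def cl2_N5 : ℕ → ℕ := fun i => Nat.land (Nat.shiftRight (nat_lit 0xc4c25c58454441402420151411100c08070604020100) (Nat.mul (nat_lit 8) i)) (nat_lit 255)

noncomputable def cl2_N6 : ℕ → ℕ := fun i => Nat.land (Nat.shiftRight (nat_lit 0xc78b0e05cb11202c5091014203040608080) (Nat.mul (nat_lit 7) i)) (nat_lit 127)

noncomputable def cl2_N7 : ℕ → ℕ := fun i => Nat.land (Nat.shiftRight (nat_lit 0xc705d65544d245034c2ca2481440c2040) (Nat.mul (nat_lit 6) i)) (nat_lit 63)

noncomputable def cl2_N8 : ℕ → ℕ := fun i => Nat.land (Nat.shiftRight (nat_lit 0x616a4a0c520820) (Nat.mul (nat_lit 5) i)) (nat_lit 31)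

noncomputable def cl2_N9 : ℕ → ℕ := fun i => Nat.land (Nat.shiftRight (nat_lit 0xdc543210) (Nat.mul (nat_lit 4) i)) (nat_lit 15)

noncomputable def cl2_N10 : ℕ → ℕ := fun i => Nat.land (Nat.shiftRight (nat_lit 3208) (Nat.mul (nat_lit 3) i)) (nat_lit 7)

noncomputable def cl2_N11 : ℕ → ℕ := fun i => Nat.land (Nat.shiftRight (nat_lit 228) (Nat.mul (nat_lit 2) i)) (nat_lit 3)

noncomputable def cl2_N12 : ℕ → ℕ := fun i => Nat.land (Nat.shiftRight (nat_lit 2) (Nat.mul (nat_lit 1) i)) (nat_lit 1)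

noncomputable def cl2_N13 : ℕ → ℕ := fun i => Nat.land (Nat.shiftRight (nat_lit 0) (Nat.mul (nat_lit 1) i)) (nat_lit 1)

noncomputable def cl2_D : LT :=
(.node (.node (.node (.node (.node (.node (.leaf [nat_lit 0])
 (.leaf [nat_lit 4,nat_lit 101,nat_lit 86,nat_lit 65,nat_lit 34,nat_lit 10,nat_lit 4,nat_lit 2]))
 (.leaf [nat_lit 4,nat_lit 108,nat_lit 79,nat_lit 61,nat_lit 26,nat_lit 13,nat_lit 7,nat_lit 2]))
 (.node (.leaf [nat_lit 3,nat_lit 97,nat_lit 81,nat_lit 46,nat_lit 45,nat_lit 15,nat_lit 4])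
 (.leaf [nat_lit 4,nat_lit 101,nat_lit 37,nat_lit 26,nat_lit 16,nat_lit 11,nat_lit 6,nat_lit 3,nat_lit 0])))
 (.node (.node (.node (.leaf [nat_lit 3,nat_lit 103,nat_lit 99,nat_lit 52,nat_lit 13,nat_lit 3,nat_lit 2])
 (.leaf [nat_lit 5,nat_lit 87,nat_lit 84,nat_lit 66,nat_lit 28,nat_lit 27,nat_lit 9,nat_lit 8]))
 (.leaf [nat_lit 2,nat_lit 108,nat_lit 97,nat_lit 52,nat_lit 28,nat_lit 22,nat_lit 6,nat_lit 5,nat_lit 0]))
 (.node (.leaf [nat_lit 4,nat_lit 115,nat_lit 107,nat_lit 78,nat_lit 76,nat_lit 35,nat_lit 30,nat_lit 17])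
 (.leaf [nat_lit 4,nat_lit 113,nat_lit 93,nat_lit 45,nat_lit 25,nat_lit 21,nat_lit 16,nat_lit 5,nat_lit 0]))))
 (.node (.node (.node (.node (.leaf [nat_lit 3,nat_lit 103,nat_lit 99,nat_lit 31,nat_lit 30,nat_lit 20,nat_lit 11,nat_lit 2,nat_lit 0])
 (.leaf [nat_lit 2,nat_lit 95,nat_lit 80,nat_lit 63,nat_lit 27,nat_lit 6,nat_lit 3,nat_lit 1]))
 (.leaf [nat_lit 2,nat_lit 88,nat_lit 50,nat_lit 47,nat_lit 28,nat_lit 19,nat_lit 4,nat_lit 0]))
 (.node (.leaf [nat_lit 1,nat_lit 101,nat_lit 99,nat_lit 75,nat_lit 33,nat_lit 32,nat_lit 29,nat_lit 19,nat_lit 0])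
 (.leaf [nat_lit 3,nat_lit 101,nat_lit 84,nat_lit 62,nat_lit 59,nat_lit 22,nat_lit 2,nat_lit 1])))
 (.node (.node (.node (.leaf [nat_lit 3,nat_lit 112,nat_lit 66,nat_lit 49,nat_lit 15,nat_lit 12,nat_lit 7,nat_lit 1,nat_lit 0])
 (.leaf [nat_lit 3,nat_lit 118,nat_lit 82,nat_lit 48,nat_lit 42,nat_lit 5,nat_lit 4,nat_lit 0]))
 (.leaf [nat_lit 2,nat_lit 99,nat_lit 86,nat_lit 75,nat_lit 37,nat_lit 20,nat_lit 19]))
 (.node (.leaf [nat_lit 3,nat_lit 105,nat_lit 85,nat_lit 34,nat_lit 1,nat_lit 0])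
 (.leaf [nat_lit 5,nat_lit 91,nat_lit 79,nat_lit 34,nat_lit 32,nat_lit 21,nat_lit 8,nat_lit 4,nat_lit 0])))))
 (.node (.node (.node (.node (.node (.leaf [nat_lit 3,nat_lit 101,nat_lit 51,nat_lit 46,nat_lit 34,nat_lit 32,nat_lit 3,nat_lit 2])
 (.leaf [nat_lit 4,nat_lit 73,nat_lit 66,nat_lit 37,nat_lit 17,nat_lit 10,nat_lit 5,nat_lit 4]))
 (.leaf [nat_lit 4,nat_lit 116,nat_lit 79,nat_lit 72,nat_lit 25,nat_lit 15,nat_lit 7,nat_lit 3]))
 (.node (.leaf [nat_lit 5,nat_lit 113,nat_lit 88,nat_lit 61,nat_lit 40,nat_lit 27,nat_lit 4,nat_lit 1])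
 (.leaf [nat_lit 5,nat_lit 106,nat_lit 91,nat_lit 62,nat_lit 52,nat_lit 41,nat_lit 12,nat_lit 1,nat_lit 0])))
 (.node (.node (.node (.leaf [nat_lit 1,nat_lit 94,nat_lit 65,nat_lit 34,nat_lit 23,nat_lit 8,nat_lit 3,nat_lit 0])
 (.leaf [nat_lit 5,nat_lit 91,nat_lit 88,nat_lit 41,nat_lit 30,nat_lit 16,nat_lit 3]))
 (.leaf [nat_lit 0,nat_lit 109,nat_lit 108,nat_lit 50,nat_lit 46,nat_lit 6,nat_lit 4]))
 (.node (.leaf [nat_lit 1,nat_lit 117,nat_lit 103,nat_lit 75,nat_lit 40,nat_lit 31,nat_lit 11,nat_lit 7,nat_lit 0])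
 (.leaf [nat_lit 3,nat_lit 115,nat_lit 65,nat_lit 32,nat_lit 31,nat_lit 28,nat_lit 7,nat_lit 0]))))
 (.node (.node (.node (.node (.leaf [nat_lit 1,nat_lit 98,nat_lit 89,nat_lit 46,nat_lit 45,nat_lit 39,nat_lit 36,nat_lit 9])
 (.leaf [nat_lit 4,nat_lit 91,nat_lit 85,nat_lit 70,nat_lit 51,nat_lit 19,nat_lit 8,nat_lit 3]))
 (.leaf [nat_lit 2,nat_lit 84,nat_lit 72,nat_lit 55,nat_lit 36,nat_lit 19,nat_lit 14,nat_lit 1]))
 (.node (.leaf [nat_lit 4,nat_lit 60,nat_lit 53,nat_lit 20,nat_lit 18,nat_lit 14,nat_lit 0])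
 (.leaf [nat_lit 5,nat_lit 94,nat_lit 75,nat_lit 64,nat_lit 38,nat_lit 11,nat_lit 5,nat_lit 2])))
 (.node (.node (.leaf [nat_lit 4,nat_lit 102,nat_lit 69,nat_lit 53,nat_lit 31,nat_lit 12,nat_lit 2,nat_lit 1])
 (.leaf [nat_lit 2,nat_lit 112,nat_lit 83,nat_lit 75,nat_lit 33,nat_lit 24,nat_lit 21,nat_lit 9,nat_lit 0]))
 (.node (.leaf [nat_lit 1,nat_lit 110,nat_lit 56,nat_lit 55,nat_lit 33,nat_lit 5,nat_lit 2])
 (.leaf [nat_lit 1,nat_lit 102,nat_lit 81,nat_lit 34,nat_lit 33,nat_lit 9,nat_lit 1,nat_lit 0]))))))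

theorem cl2_l : ∀ i < 39, (leafOK Xb (nat_lit 120) B p2_w rw (nat_lit 2) (nat_lit 13) (nat_lit 6) cl2_N0 cl2_D) i = true := allRange_zero (len := (nat_lit 39)) (by decide +kernel)

theorem cl2_c0 {G : Type*} [Group G] (M : Mod G) : Cls (M.wl p2_w) 2 13 (ConjTo (M.wl rw) 6) 0 cl2_N0 39 :=
  M.cls_leaf p2_hw rw_h cl2_l

noncomputable def cl2_A0 : ℕ → ℕ := fun i => Nat.land (Nat.shiftRight (nat_lit 0x27000000000000026000000000000025000000000000024001000000000000001000000000000b080000000200230000000000000238aa0000000200220000000000000220010000000000000010000000000000010000000000000010000000000008a40000000200210000000000000210010000000000000010000000000008a000000002002000000000000002088a00000002001f00000000000001f00100000000000000100000000000000100000000000000100000000000088400000002001e00000000000001e00100000000000000100000000000088000000002001d00000000000001d00100000000000000100000000000041200000004001c00000000000001c41000000004001b00000000000001b0010000000000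0000100000000000040200000004001a00000000000001a4000000000400190000000000000192b000000010001800000000000001800100000000000000100000000000000000000000001700000000000001629000000c08001500000000000001528000000020001400000000000001422800000048001300000000000001318000000058001200000000000001200000000000001100000000000001000000000000000f00000000000000e00100000000000000100000000000000100000000000000100000000000005000000008000d00000000000000d00100000000000000100000000000004200000008000c00000000000000c04000000008000b00000000000000b00100000000000000100000000000002800000010000a00000000000000a024000000100009000000000000009020000000100008000000000000008012000000200007000000000000007010000000200006000000000000006008000000400005000000000000005004000004000004000000000000004002000008000003000000000000003000000000000002000000000000001) (Nat.mul (nat_lit 60) i)) (nat_lit 0xfffffffffffffff)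

theorem cl2_s0 : ∀ i < 47, (nodeOK p2_T (nat_lit 2) (nat_lit 13) [nat_lit 0,nat_lit 1,nat_lit 2,nat_lit 3,nat_lit 4,nat_lit 5] (nat_lit 0) (nat_lit 13) (nat_lit 1) cl2_N0 (nat_lit 39) cl2_N1 cl2_A0) i = true := allRange_zero (len := (nat_lit 47)) (by decide +kernel)

theorem cl2_c1 {G : Type*} [Group G] (M : Mod G) : Cls (M.wl p2_w) 2 13 (ConjTo (M.wl rw) 6) 1 cl2_N1 47 :=
  have := M.fin
  have : Fact (Nat.Prime 2) := ⟨by norm_num⟩
  cls_step (p2_lm M) (p2_pc M) (p2_cb M).1.ge (fun _ _ _ h => h.of_conj) (cl2_c0 M) cl2_s0 (by decide)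

noncomputable def cl2_A1 : ℕ → ℕ := fun i => Nat.land (Nat.shiftRight (nat_lit 0x310800000008005e00000000000002f0010000000000000008000000000000004000000000000002000000000000c2800000002001700000000000000b800000000000005a00000000000002c00000000000001580000000000000a8000000000000052000000000000028000000000000013800000000000009800000000000004a000000000000024000000000000011800000000000008800000000000004200000000000002020a80000880000f800000000000007c00000000000003c00000000000001d202800008c0000e000000000000007000000000000003600000000000001a15880000040000c800000000000006454000000100003000000000000001800000000000000b800000000000005850000000210002a00000000000001511400000010000a0000000000000050004000000000000002000000000000001800000000000000c00000000000030200000010002600000000000001300100000000000000080000000000002000000001000240000000000000120708000001000088000000000000044006000000000000003000000000000000000000000008000000000000003c0a000000300001c00000000000000e024000000800006800000000000003400000000000001800000000000000b0180000004000050000000000000028050000001000012000000000000009012800000400004000000000000002004200000100000e0000000000000070000000000000030000000000000014010000002000008000000000000004002800008000001800000000000000c000000000000004000000000000001)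 (Nat.mul (nat_lit 61) i)) (nat_lit 0x1fffffffffffffff)

theorem cl2_s1 : ∀ i < 39, (nodeOK p2_T (nat_lit 2) (nat_lit 13) [nat_lit 0,nat_lit 1,nat_lit 2,nat_lit 3,nat_lit 4,nat_lit 5] (nat_lit 1) (nat_lit 12) (nat_lit 2) cl2_N1 (nat_lit 47) cl2_N2 cl2_A1) i = true := allRange_zero (len := (nat_lit 39)) (by decide +kernel)

theorem cl2_c2 {G : Type*} [Group G] (M : Mod G) : Cls (M.wl p2_w) 2 13 (ConjTo (M.wl rw) 6) 2 cl2_N2 39 :=
  have := M.fin
  have : Fact (Nat.Prime 2) := ⟨by norm_num⟩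
  cls_step (p2_lm M) (p2_pc M) (p2_cb M).1.ge (fun _ _ _ h => h.of_conj) (cl2_c1 M) cl2_s1 (by decide)

noncomputable def cl2_A2 : ℕ → ℕ := fun i => Nat.land (Nat.shiftRight (nat_lit 0x27000000000000026000000000000025000000000000024b080000000800230000000000000230040000000000000040000000000008a900000380002200000000000002200000000000002100000000000002088800000380001f00000000000001f00000000000001e00000000000001d00000000000001c00000000000001b00000000000001a0000000000000190070000000000000070000000000002b30000000800180000000000000180060000000000000060000000000002a300000008001700000000000001700700000000000000700000000000029300000008001600000000000001600700000000000000700000000000028300000008001500000000000001522a00000008001400000000000001400600000000000000600000000000020a00000008001300000000000001300400000000000000400000000000000400000000000000400000000000018800000010001200000000000001218000000010001100000000000001100500000000000000500000000000010900000010001000000000000001010100000010000f00000000000000f0e200000040000e00000000000000e0c200000040000d00000000000000d00500000000000000500000000000005a00000080000c00000000000000c05300000080000b00000000000000b04b00000080000a00000000000000a04200000080000900000000000000903100000100000800000000000000802800000200000700000000000000700000000000000600000000000000501100000100000400000000000000400a000002000003000000000000003000000000000002000000000000001)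 (Nat.mul (nat_lit 60) i)) (nat_lit 0xfffffffffffffff)

theorem cl2_s2 : ∀ i < 41, (nodeOK p2_T (nat_lit 2) (nat_lit 13) [nat_lit 0,nat_lit 1,nat_lit 2,nat_lit 3,nat_lit 4,nat_lit 5] (nat_lit 2) (nat_lit 11) (nat_lit 4) cl2_N2 (nat_lit 39) cl2_N3 cl2_A2) i = true := allRange_zero (len := (nat_lit 41)) (by decide +kernel)

theorem cl2_c3 {G : Type*} [Group G] (M : Mod G) : Cls (M.wl p2_w) 2 13 (ConjTo (M.wl rw) 6) 3 cl2_N3 41 :=
  have := M.fin
  have : Fact (Nat.Prime 2) := ⟨by norm_num⟩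
  cls_step (p2_lm M) (p2_pc M) (p2_cb M).1.ge (fun _ _ _ h => h.of_conj) (cl2_c2 M) cl2_s2 (by decide)

noncomputable def cl2_A3 : ℕ → ℕ := fun i => Nat.land (Nat.shiftRight (nat_lit 0x10000000000000008000000000000c4100000008001480000000000000a70a6000000200050000000000000028005800000000000002c00000000000000000000000004e00000000000002600000000000001280000000000000900000000000000460000000000000220048000000000000024000000000000828000001000042000000000000021202800000400010000000000000008000000000000003e00000000000001e00000000000000e800000000000007000000000000003600000000000001a00000000000000c800000000000006000000000000002e00000000000001600000000000000a800000000000005032e000038000026000000000000013000000000000009000000000000004422a00003000002000000000000001000000000000000780000000000000381c800000800001a00000000000000d062000002000006000000000000003010800000800001600000000000000b0000000000000050000000000000024000000000000010000000000000007018000008000003000000000000001800000000000000a000000000000004009000008000001800000000000000c000000000000004000000000000001)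 (Nat.mul (nat_lit 61) i)) (nat_lit 0x1fffffffffffffff)

theorem cl2_s3 : ∀ i < 29, (nodeOK p2_T (nat_lit 2) (nat_lit 13) [nat_lit 0,nat_lit 1,nat_lit 2,nat_lit 3,nat_lit 4,nat_lit 5] (nat_lit 3) (nat_lit 10) (nat_lit 8) cl2_N3 (nat_lit 41) cl2_N4 cl2_A3) i = true := allRange_zero (len := (nat_lit 29)) (by decide +kernel)

theorem cl2_c4 {G : Type*} [Group G] (M : Mod G) : Cls (M.wl p2_w) 2 13 (ConjTo (M.wl rw) 6) 4 cl2_N4 29 :=
  have := M.fin
  have : Fact (Nat.Prime 2) := ⟨by norm_num⟩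
  cls_step (p2_lm M) (p2_pc M) (p2_cb M).1.ge (fun _ _ _ h => h.of_conj) (cl2_c3 M) cl2_s3 (by decide)

noncomputable def cl2_A4 : ℕ → ℕ := fun i => Nat.land (Nat.shiftRight (nat_lit 0x1d00000000000001c00000000000001b00000000000001a01900000000000001c000000000000b0c0000008000190000000000000198aa00000080001800000000000001888800000080001700000000000001701e00000000000001f00000000000001c00000000000001c00000000000048400000800001600000000000001600000000000001500000000000001400000000000001300000000000001200000000000001100000000000001022000000c00000f00000000000000f20300000c00000e00000000000000e00000000000000d00000000000000c00000000000000b00000000000000a0ed0000080000090000000000000090ce000008000008000000000000008089000008000007000000000000007000000000000006000000000000005000000000000004000000000000003000000000000002000000000000001) (Nat.mul (nat_lit 60) i)) (nat_lit 0xfffffffffffffff)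

theorem cl2_s4 : ∀ i < 22, (nodeOK p2_T (nat_lit 2) (nat_lit 13) [nat_lit 0,nat_lit 1,nat_lit 2,nat_lit 3,nat_lit 4,nat_lit 5] (nat_lit 4) (nat_lit 9) (nat_lit 16) cl2_N4 (nat_lit 29) cl2_N5 cl2_A4) i = true := allRange_zero (len := (nat_lit 22)) (by decide +kernel)

theorem cl2_c5 {G : Type*} [Group G] (M : Mod G) : Cls (M.wl p2_w) 2 13 (ConjTo (M.wl rw) 6) 5 cl2_N5 22 :=
  have := M.fin
  have : Fact (Nat.Prime 2) := ⟨by norm_num⟩
  cls_step (p2_lm M) (p2_pc M) (p2_cb M).1.ge (fun _ _ _ h => h.of_conj) (cl2_c4 M) cl2_s4 (by decide)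

noncomputable def cl2_A5 : ℕ → ℕ := fun i => Nat.land (Nat.shiftRight (nat_lit 0x13800000000000009400000000000310e00000080002c000000000000016c2100000020000a80000000000000540500000000000000290000000000005c780000280000a000000000000005160a00000a000026000000000000013000000000000009000000000000004400000000000002000000000000000f01600000000000000bc000000000000042000000000000021000000000000243800000800007000000000000003880200000200001a00000000000000d000000000000006000000000000002c0000000000000140000000000000090c7800002000004000000000000002020200000800000e000000000000007000000000000003000000000000001413c000020000008000000000000004022000008000001800000000000000c000000000000004000000000000001) (Nat.mul (nat_lit 61) i)) (nat_lit 0x1fffffffffffffff)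

theorem cl2_s5 : ∀ i < 20, (nodeOK p2_T (nat_lit 2) (nat_lit 13) [nat_lit 0,nat_lit 1,nat_lit 2,nat_lit 3,nat_lit 4,nat_lit 5] (nat_lit 5) (nat_lit 8) (nat_lit 32) cl2_N5 (nat_lit 22) cl2_N6 cl2_A5) i = true := allRange_zero (len := (nat_lit 20)) (by decide +kernel)

theorem cl2_c6 {G : Type*} [Group G] (M : Mod G) : Cls (M.wl p2_w) 2 13 (ConjTo (M.wl rw) 6) 6 cl2_N6 20 :=
  have := M.fin
  have : Fact (Nat.Prime 2) := ⟨by norm_num⟩
  cls_step (p2_lm M) (p2_pc M) (p2_cb M).1.ge (fun _ _ _ h => h.of_conj) (cl2_c5 M) cl2_s5 (by decide)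

noncomputable def cl2_A6 : ℕ → ℕ := fun i => Nat.land (Nat.shiftRight (nat_lit 0x14000000000000013000000000000012000000000000011b80000001000010000000000000010b0300000100000f00000000000000f05a00000000000005d00000000000004600000000000004700000000000004700000000000004600000000000005f00000000000005800000000000088600000100000e00000000000000e80500000100000d00000000000000d04600000000000004700000000000004e00000000000004900000000000058e00000200000c00000000000000c50800000200000b00000000000000b48c00000200000a00000000000000a40a00000200000900000000000000928600000400000800000000000000820d00000400000700000000000000719b000008000006000000000000006105000008000005000000000000005000000000000004000000000000003000000000000002000000000000001) (Nat.mul (nat_lit 60) i)) (nat_lit 0xfffffffffffffff)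

theorem cl2_s6 : ∀ i < 22, (nodeOK p2_T (nat_lit 2) (nat_lit 13) [nat_lit 0,nat_lit 1,nat_lit 2,nat_lit 3,nat_lit 4,nat_lit 5] (nat_lit 6) (nat_lit 7) (nat_lit 64) cl2_N6 (nat_lit 20) cl2_N7 cl2_A6) i = true := allRange_zero (len := (nat_lit 22)) (by decide +kernel)

theorem cl2_c7 {G : Type*} [Group G] (M : Mod G) : Cls (M.wl p2_w) 2 13 (ConjTo (M.wl rw) 6) 7 cl2_N7 22 :=
  have := M.fin
  have : Fact (Nat.Prime 2) := ⟨by norm_num⟩
  cls_step (p2_lm M) (p2_pc M) (p2_cb M).1.ge (fun _ _ _ h => h.of_conj) (cl2_c6 M) cl2_s6 (by decide)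

noncomputable def cl2_A7 : ℕ → ℕ := fun i => Nat.land (Nat.shiftRight (nat_lit 0x2d5a4e5183dcd62d4941cc520c41) (Nat.mul (nat_lit 5) i)) (nat_lit 31)

theorem cl2_s7 : ∀ i < 11, (nodeOK p2_T (nat_lit 2) (nat_lit 13) [nat_lit 0,nat_lit 1,nat_lit 2,nat_lit 3,nat_lit 4,nat_lit 5] (nat_lit 7) (nat_lit 6) (nat_lit 128) cl2_N7 (nat_lit 22) cl2_N8 cl2_A7) i = true := allRange_zero (len := (nat_lit 11)) (by decide +kernel)

theorem cl2_c8 {G : Type*} [Group G] (M : Mod G) : Cls (M.wl p2_w) 2 13 (ConjTo (M.wl rw) 6) 8 cl2_N8 11 :=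
  have := M.fin
  have : Fact (Nat.Prime 2) := ⟨by norm_num⟩
  cls_step (p2_lm M) (p2_pc M) (p2_cb M).1.ge (fun _ _ _ h => h.of_conj) (cl2_c7 M) cl2_s7 (by decide)

noncomputable def cl2_A8 : ℕ → ℕ := fun i => Nat.land (Nat.shiftRight (nat_lit 0x85000000000000043c00000000000304000000400001600000000000000b000000000000005000000000000002400000000000001000000000000000730e000008000003000000000000001800000000000000a00000000000000411b800008000001800000000000000c000000000000004000000000000001) (Nat.mul (nat_lit 61) i)) (nat_lit 0x1fffffffffffffff)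

theorem cl2_s8 : ∀ i < 8, (nodeOK p2_T (nat_lit 2) (nat_lit 13) [nat_lit 0,nat_lit 1,nat_lit 2,nat_lit 3,nat_lit 4,nat_lit 5] (nat_lit 8) (nat_lit 5) (nat_lit 256) cl2_N8 (nat_lit 11) cl2_N9 cl2_A8) i = true := allRange_zero (len := (nat_lit 8)) (by decide +kernel)

theorem cl2_c9 {G : Type*} [Group G] (M : Mod G) : Cls (M.wl p2_w) 2 13 (ConjTo (M.wl rw) 6) 9 cl2_N9 8 :=
  have := M.fin
  have : Fact (Nat.Prime 2) := ⟨by norm_num⟩
  cls_step (p2_lm M) (p2_pc M) (p2_cb M).1.ge (fun _ _ _ h => h.of_conj) (cl2_c8 M) cl2_s8 (by decide)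

noncomputable def cl2_A9 : ℕ → ℕ := fun i => Nat.land (Nat.shiftRight (nat_lit 0x87654321) (Nat.mul (nat_lit 4) i)) (nat_lit 15)

theorem cl2_s9 : ∀ i < 4, (nodeOK p2_T (nat_lit 2) (nat_lit 13) [nat_lit 0,nat_lit 1,nat_lit 2,nat_lit 3,nat_lit 4,nat_lit 5] (nat_lit 9) (nat_lit 4) (nat_lit 512) cl2_N9 (nat_lit 8) cl2_N10 cl2_A9) i = true := allRange_zero (len := (nat_lit 4)) (by decide +kernel)

theorem cl2_c10 {G : Type*} [Group G] (M : Mod G) : Cls (M.wl p2_w) 2 13 (ConjTo (M.wl rw) 6) 10 cl2_N10 4 :=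
  have := M.fin
  have : Fact (Nat.Prime 2) := ⟨by norm_num⟩
  cls_step (p2_lm M) (p2_pc M) (p2_cb M).1.ge (fun _ _ _ h => h.of_conj) (cl2_c9 M) cl2_s9 (by decide)

noncomputable def cl2_A10 : ℕ → ℕ := fun i => Nat.land (Nat.shiftRight (nat_lit 0xc3300000400000200000000000000108f0000000000000456000000000000427800008000001800000000000000c000000000000004000000000000001) (Nat.mul (nat_lit 61) i)) (nat_lit 0x1fffffffffffffff)

theorem cl2_s10 : ∀ i < 4, (nodeOK p2_T (nat_lit 2) (nat_lit 13) [nat_lit 0,nat_lit 1,nat_lit 2,nat_lit 3,nat_lit 4,nat_lit 5] (nat_lit 10) (nat_lit 3) (nat_lit 1024) cl2_N10 (nat_lit 4) cl2_N11 cl2_A10) i = true := allRange_zero (len := (nat_lit 4)) (by decide +kernel)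

theorem cl2_c11 {G : Type*} [Group G] (M : Mod G) : Cls (M.wl p2_w) 2 13 (ConjTo (M.wl rw) 6) 11 cl2_N11 4 :=
  have := M.fin
  have : Fact (Nat.Prime 2) := ⟨by norm_num⟩
  cls_step (p2_lm M) (p2_pc M) (p2_cb M).1.ge (fun _ _ _ h => h.of_conj) (cl2_c10 M) cl2_s10 (by decide)

noncomputable def cl2_A11 : ℕ → ℕ := fun i => Nat.land (Nat.shiftRight (nat_lit 2257) (Nat.mul (nat_lit 3) i)) (nat_lit 7)

theorem cl2_s11 : ∀ i < 2, (nodeOK p2_T (nat_lit 2) (nat_lit 13) [nat_lit 0,nat_lit 1,nat_lit 2,nat_lit 3,nat_lit 4,nat_lit 5] (nat_lit 11) (nat_lit 2) (nat_lit 2048) cl2_N11 (nat_lit 4) cl2_N12 cl2_A11) i = true := allRange_zero (len := (nat_lit 2)) (by decide +kernel)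

theorem cl2_c12 {G : Type*} [Group G] (M : Mod G) : Cls (M.wl p2_w) 2 13 (ConjTo (M.wl rw) 6) 12 cl2_N12 2 :=
  have := M.fin
  have : Fact (Nat.Prime 2) := ⟨by norm_num⟩
  cls_step (p2_lm M) (p2_pc M) (p2_cb M).1.ge (fun _ _ _ h => h.of_conj) (cl2_c11 M) cl2_s11 (by decide)

noncomputable def cl2_A12 : ℕ → ℕ := fun i => Nat.land (Nat.shiftRight (nat_lit 9) (Nat.mul (nat_lit 2) i)) (nat_lit 3)

theorem cl2_s12 : ∀ i < 1, (nodeOK p2_T (nat_lit 2) (nat_lit 13) [nat_lit 0,nat_lit 1,nat_lit 2,nat_lit 3,nat_lit 4,nat_lit 5] (nat_lit 12) (nat_lit 1) (nat_lit 4096) cl2_N12 (nat_lit 2) cl2_N13 cl2_A12) i = true := allRange_zero (len := (nat_lit 1)) (by decide +kernel)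

theorem cl2_c13 {G : Type*} [Group G] (M : Mod G) : Cls (M.wl p2_w) 2 13 (ConjTo (M.wl rw) 6) 13 cl2_N13 1 :=
  have := M.fin
  have : Fact (Nat.Prime 2) := ⟨by norm_num⟩
  cls_step (p2_lm M) (p2_pc M) (p2_cb M).1.ge (fun _ _ _ h => h.of_conj) (cl2_c12 M) cl2_s12 (by decide)

theorem cl2 {G : Type*} [Group G] (M : Mod G) {a : G} (ha : a ∈ genLt (M.wl p2_w) 13) (h : a ^ 2 = 1) : (ConjTo (M.wl rw) 6) a :=
  (cl2_c13 M).top ha h

noncomputable def c3_f : LT :=
(.node (.node (.node (.leaf [nat_lit 6,nat_lit 4,nat_lit 2])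
 (.leaf [nat_lit 7]))
 (.leaf [nat_lit 3]))
 (.node (.node (.leaf [nat_lit 0])
 (.leaf [nat_lit 87]))
 (.leaf [nat_lit 30])))

noncomputable def c3_l : LT :=
(.node (.node (.leaf [nat_lit 119])
 (.leaf [nat_lit 13,nat_lit 12]))
 (.node (.leaf [nat_lit 80,nat_lit 6])
 (.leaf [nat_lit 119,nat_lit 53,nat_lit 34,nat_lit 19])))

theorem c3_hf : c3_f.all (lettersLt 120) = true := by decide +kernel

theorem c3_hl : c3_l.all (lettersLt 120) = true := by decide +kernel

theorem c3_low : allLt (nat_lit 4) (fun y => allLt (nat_lit 1) fun s => commW Xb (nat_lit 120) B (c3_l.get y) (c3_f.get s)) = true := by decide +kernel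

theorem c3_bot : band (lettersLt (nat_lit 120) [nat_lit 117,nat_lit 73,nat_lit 69,nat_lit 53,nat_lit 22,nat_lit 10]) (TM.all2 (TM.botOK Xb (nat_lit 120) (nat_lit 120) B c3_f (nat_lit 6) [nat_lit 117,nat_lit 73,nat_lit 69,nat_lit 53,nat_lit 22,nat_lit 10]) [nat_lit 0,nat_lit 1,nat_lit 2,nat_lit 3,nat_lit 4,nat_lit 5,nat_lit 6,nat_lit 7] [[nat_lit 3,nat_lit 30,nat_lit 4,nat_lit 0],[nat_lit 3,nat_lit 30,nat_lit 0,nat_lit 1,nat_lit 3,nat_lit 2,nat_lit 0,nat_lit 5,nat_lit 4,nat_lit 1,nat_lit 0],[nat_lit 3,nat_lit 30,nat_lit 5,nat_lit 1,nat_lit 0],[nat_lit 1,nat_lit 0,nat_lit 1,nat_lit 0],[nat_lit 3,nat_lit 30,nat_lit 2,nat_lit 5,nat_lit 0],[nat_lit 2,nat_lit 3,nat_lit 0,nat_lit 5,nat_lit 3,nat_lit 1,nat_lit 0,nat_lit 4,nat_lit 3,nat_lit 0,nat_lit 5],[nat_lit 2,nat_lit 3,nat_lit 1,nat_lit 0,nat_lit 4,nat_lit 3,nat_lit 0,nat_lit 5],[nat_lit 3,nat_lit 30,nat_lit 2,nat_lit 5,nat_lit 4,nat_lit 1,nat_lit 0]]) = true := by decide +kernel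

theorem c3_c5 {G : Type*} [Group G] (M : Mod G) (low : genLt (M.wl c3_l) 0 ≤ cen (M.wl c3_f) 6) : TM.CL (M.wl c3_f) 6 (M.wl c3_l) 0 1 :=
  M.cl_bot c3_hf M.base c3_bot _

noncomputable def c3_4O : ℕ → ℕ := fun i => Nat.land (Nat.shiftRight (nat_lit 87) (Nat.mul (nat_lit 7) i)) (nat_lit 127)

noncomputable def c3_4E : ℕ → ℕ := fun i => Nat.land (Nat.shiftRight (nat_lit 0) (Nat.mul (nat_lit 1) i)) (nat_lit 1)

noncomputable def c3_4_ts : List (List ℕ) := [[nat_lit 1,nat_lit 1,nat_lit 3,nat_lit 4],[nat_lit 0,nat_lit 2],[nat_lit 0,nat_lit 0,nat_lit 3,nat_lit 0],[nat_lit 1,nat_lit 0,nat_lit 1,nat_lit 0]]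

theorem c3_4_s : TM.stepOK Xb (nat_lit 120) (nat_lit 120) B c3_f c3_l (nat_lit 5) (nat_lit 0) (nat_lit 0) (nat_lit 1) (nat_lit 1) (nat_lit 87) (fun _ => true) c3_4_ts = true := by decide +kernel

theorem c3_4_o : ∀ i < 1, (fun i => band (incOK c3_4O (nat_lit 1) (nat_lit 120) i) (orbL (wT Xb c3_l) (nat_lit 0) c3_4O c3_4E (nat_lit 1) (Nat.beq (nat_lit 87)) i)) i = true := allRange_zero (len := (nat_lit 1)) (by decide +kernel)

theorem c3_4_n : CntLe (fun i => force ((fun i => i) i) (tsts (wT Xb c3_f) Xb c3_4_ts)) 120 1 := cntLe_of (a := (nat_lit 120)) (c := (nat_lit 1)) (by decide +kernel)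

theorem c3_c4 {G : Type*} [Group G] (M : Mod G) (low : genLt (M.wl c3_l) 0 ≤ cen (M.wl c3_f) 5) : TM.CL (M.wl c3_f) 5 (M.wl c3_l) 0 1 :=
  M.cl_step c3_hf c3_hl low (c3_c5 M) (inv_true _ _ _) (win_id _ _) c3_4_s c3_4_o c3_4_n (Or.inl le_rfl)

noncomputable def c3_3O : ℕ → ℕ := fun i => Nat.land (Nat.shiftRight (nat_lit 15111) (Nat.mul (nat_lit 7) i)) (nat_lit 127)

noncomputable def c3_3E : ℕ → ℕ := fun i => Nat.land (Nat.shiftRight (nat_lit 131072) (Nat.mul (nat_lit 9) i)) (nat_lit 511)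

noncomputable def c3_3_ts : List (List ℕ) := [[nat_lit 1,nat_lit 1,nat_lit 2,nat_lit 3],[nat_lit 1,nat_lit 0,nat_lit 3,nat_lit 0,nat_lit 3,nat_lit 0],[nat_lit 0,nat_lit 0]]

theorem c3_3_s : TM.stepOK Xb (nat_lit 120) (nat_lit 120) B c3_f c3_l (nat_lit 4) (nat_lit 1) (nat_lit 0) (nat_lit 2) (nat_lit 3) (nat_lit 7) (fun _ => true) c3_3_ts = true := by decide +kernel

theorem c3_3_o : ∀ i < 2, (fun i => band (incOK c3_3O (nat_lit 2) (nat_lit 120) i) (orbL (wT Xb c3_l) (nat_lit 1) c3_3O c3_3E (nat_lit 2) (Nat.beq (nat_lit 7)) i)) i = true := allRange_zero (len := (nat_lit 2)) (by decide +kernel)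

theorem c3_3_n : CntLe (fun i => force ((fun i => i) i) (tsts (wT Xb c3_f) Xb c3_3_ts)) 120 3 := cntLe_of (a := (nat_lit 120)) (c := (nat_lit 3)) (by decide +kernel)

theorem c3_3_k : ∀ i < 2, (closedL (wT Xb c3_l) (nat_lit 1) c3_3O (nat_lit 2) (nat_lit 3)) i = true := allRange_zero (len := (nat_lit 2)) (by decide +kernel)

theorem c3_c3 {G : Type*} [Group G] (M : Mod G) (low : genLt (M.wl c3_l) 1 ≤ cen (M.wl c3_f) 4) : TM.CL (M.wl c3_f) 4 (M.wl c3_l) 1 2 :=
  M.cl_step c3_hf c3_hl low (c3_c4 M) (inv_true _ _ _) (win_id _ _) c3_3_s c3_3_o c3_3_n (Or.inr ⟨(nat_lit 3), by decide +kernel, c3_3_k⟩)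

noncomputable def c3_2O : ℕ → ℕ := fun i => Nat.land (Nat.shiftRight (nat_lit 0x33e4930d31e) (Nat.mul (nat_lit 7) i)) (nat_lit 127)

noncomputable def c3_2E : ℕ → ℕ := fun i => Nat.land (Nat.shiftRight (nat_lit 0x80b04004060340802028080000) (Nat.mul (nat_lit 19) i)) (nat_lit 524287)

noncomputable def c3_2_ts : List (List ℕ) := [[nat_lit 0,nat_lit 1],[nat_lit 1,nat_lit 2],[nat_lit 0,nat_lit 0,nat_lit 1,nat_lit 0],[nat_lit 0,nat_lit 0],[nat_lit 1,nat_lit 0,nat_lit 2,nat_lit 0]]

theorem c3_2_s : TM.stepOK Xb (nat_lit 120) (nat_lit 120) B c3_f c3_l (nat_lit 3) (nat_lit 2) (nat_lit 1) (nat_lit 6) (nat_lit 6) (nat_lit 30) (fun _ => true) c3_2_ts = true := by decide +kernel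

theorem c3_2_o : ∀ i < 6, (fun i => band (incOK c3_2O (nat_lit 6) (nat_lit 120) i) (orbL (wT Xb c3_l) (nat_lit 2) c3_2O c3_2E (nat_lit 6) (Nat.beq (nat_lit 30)) i)) i = true := allRange_zero (len := (nat_lit 6)) (by decide +kernel)

theorem c3_2_n : CntLe (fun i => force ((fun i => i) i) (tsts (wT Xb c3_f) Xb c3_2_ts)) 120 6 := cntLe_of (a := (nat_lit 120)) (c := (nat_lit 6)) (by decide +kernel)

theorem c3_c2 {G : Type*} [Group G] (M : Mod G) (low : genLt (M.wl c3_l) 2 ≤ cen (M.wl c3_f) 3) : TM.CL (M.wl c3_f) 3 (M.wl c3_l) 2 12 :=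
  M.cl_step c3_hf c3_hl low (c3_c3 M) (inv_true _ _ _) (win_id _ _) c3_2_s c3_2_o c3_2_n (Or.inl le_rfl)

noncomputable def c3_1O : ℕ → ℕ := fun i => Nat.land (Nat.shiftRight (nat_lit 0xd39b15da7363c0426cc93222c483) (Nat.mul (nat_lit 7) i)) (nat_lit 127)

noncomputable def c3_1E : ℕ → ℕ := fun i => Nat.land (Nat.shiftRight (nat_lit 0xd0302c060240201b0500a0401d0300b0502a040230602c0601107020010280501607029060100000) (Nat.mul (nat_lit 20) i)) (nat_lit 0xfffff)

noncomputable def c3_1_ts : List (List ℕ) := [[nat_lit 1,nat_lit 1],[nat_lit 0,nat_lit 0,nat_lit 1,nat_lit 0],[nat_lit 1,nat_lit 0,nat_lit 255,nat_lit 0]]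

theorem c3_1_s : TM.stepOK Xb (nat_lit 120) (nat_lit 120) B c3_f c3_l (nat_lit 2) (nat_lit 3) (nat_lit 2) (nat_lit 16) (nat_lit 16) (nat_lit 3) (fun _ => true) c3_1_ts = true := by decide +kernel

theorem c3_1_o : ∀ i < 16, (fun i => band (incOK c3_1O (nat_lit 16) (nat_lit 120) i) (orbL (wT Xb c3_l) (nat_lit 3) c3_1O c3_1E (nat_lit 16) (Nat.beq (nat_lit 3)) i)) i = true := allRange_zero (len := (nat_lit 16)) (by decide +kernel)

theorem c3_1_n : CntLe (fun i => force ((fun i => i) i) (tsts (wT Xb c3_f) Xb c3_1_ts)) 120 16 := cntLe_of (a := (nat_lit 120)) (c := (nat_lit 16)) (by decide +kernel)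

theorem c3_c1 {G : Type*} [Group G] (M : Mod G) (low : genLt (M.wl c3_l) 3 ≤ cen (M.wl c3_f) 2) : TM.CL (M.wl c3_f) 2 (M.wl c3_l) 3 192 :=
  M.cl_step c3_hf c3_hl low (c3_c2 M) (inv_true _ _ _) (win_id _ _) c3_1_s c3_1_o c3_1_n (Or.inl le_rfl)

noncomputable def c3_0O : ℕ → ℕ := fun i => Nat.land (Nat.shiftRight (nat_lit 0xedd7a73e5c786ed9ab3e4b962a519f2e5498d1624382f9eb762b55aa52992a44678e9c2e58a8f1c20380) (Nat.mul (nat_lit 7) i)) (nat_lit 127)

noncomputable def c3_0E : ℕ → ℕ := fun i => Nat.land (Nat.shiftRight (nat_lit 0x5c180ec0602801405e05016c1804f04005c1804e020394140a403024c100ce0201b81c0ef0703742409a040264240a604030c20064030044140a803038c200dc0401301409a040170100980502a00c00907023c100690700900c0c0010318180930401ac1c0020503501806c060038080950501b41800a0602201c09c0403a41c0c00000) (Nat.mul (nat_lit 22) i)) (nat_lit 0x3fffff)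

noncomputable def c3_0_ts : List (List ℕ) := [[nat_lit 0,nat_lit 0,nat_lit 255,nat_lit 0]]

theorem c3_0_s : TM.stepOK Xb (nat_lit 120) (nat_lit 120) B c3_f c3_l (nat_lit 1) (nat_lit 4) (nat_lit 3) (nat_lit 48) (nat_lit 56) (nat_lit 0) (fun _ => true) c3_0_ts = true := by decide +kernel

theorem c3_0_o : ∀ i < 48, (fun i => band (incOK c3_0O (nat_lit 48) (nat_lit 120) i) (orbL (wT Xb c3_l) (nat_lit 4) c3_0O c3_0E (nat_lit 48) (Nat.beq (nat_lit 0)) i)) i = true := allRange_zero (len := (nat_lit 48)) (by decide +kernel)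

theorem c3_0_n : CntLe (fun i => force ((fun i => i) i) (tsts (wT Xb c3_f) Xb c3_0_ts)) 120 56 := cntLe_of (a := (nat_lit 120)) (c := (nat_lit 56)) (by decide +kernel)

theorem c3_0_k : ∀ i < 48, (closedL (wT Xb c3_l) (nat_lit 4) c3_0O (nat_lit 48) (nat_lit 7)) i = true := allRange_zero (len := (nat_lit 48)) (by decide +kernel)

theorem c3_c0 {G : Type*} [Group G] (M : Mod G) (low : genLt (M.wl c3_l) 4 ≤ cen (M.wl c3_f) 1) : TM.CL (M.wl c3_f) 1 (M.wl c3_l) 4 9216 :=
  M.cl_step c3_hf c3_hl low (c3_c1 M) (inv_true _ _ _) (win_id _ _) c3_0_s c3_0_o c3_0_n (Or.inr ⟨(nat_lit 7), by decide +kernel, c3_0_k⟩)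

theorem c3 {G : Type*} [Group G] (M : Mod G) : TM.CL (M.wl c3_f) 1 (M.wl c3_l) 4 9216 :=
  c3_c0 M (M.low_of_comm c3_low)

noncomputable def fd : LT :=
(.leaf [nat_lit 31,nat_lit 4,nat_lit 2,nat_lit 1])

theorem fd_h : fd.all (lettersLt 120) = true := by decide +kernel

noncomputable def fdw_P : ℕ → ℕ := fun i => Nat.land (Nat.shiftRight (nat_lit 0xefdbae7c9824c3787cc12224070b1424386080c101) (Nat.mul (nat_lit 7) i)) (nat_lit 127)

theorem fdw_n : CntLe ((fixT (wT Xb fd) (nat_lit 1))) 120 24 := cntLe_of (a := (nat_lit 120)) (c := (nat_lit 24)) (by decide +kernel)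

theorem fdw_p : ∀ i < 24, (fun i => band (incOK fdw_P (nat_lit 24) (nat_lit 120) i) (force (fdw_P i) (fixT (wT Xb fd) (nat_lit 1)))) i = true := allRange_zero (len := (nat_lit 24)) (by decide +kernel)

theorem fdw_W : Win 120 (fixT (wT Xb fd) (nat_lit 1)) 24 fdw_P := win_of_count fdw_n fdw_p

theorem fd_n {G : Type*} [Group G] (M : Mod G) : (M.D ∩ (cen (M.wl fd) 1 : Set G)).ncard = 24 :=
  M.ncard_D_inter_cen (M.tabs_wl fd_h 1) fdw_W fdw_p

noncomputable def fe : LT :=
(.leaf [nat_lit 119,nat_lit 6,nat_lit 4,nat_lit 2])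

theorem fe_h : fe.all (lettersLt 120) = true := by decide +kernel

noncomputable def few_P : ℕ → ℕ := fun i => Nat.land (Nat.shiftRight (nat_lit 0xef81e1f0c10101) (Nat.mul (nat_lit 7) i)) (nat_lit 127)

theorem few_n : CntLe ((fixT (wT Xb fe) (nat_lit 1))) 120 8 := cntLe_of (a := (nat_lit 120)) (c := (nat_lit 8)) (by decide +kernel)

theorem few_p : ∀ i < 8, (fun i => band (incOK few_P (nat_lit 8) (nat_lit 120) i) (force (few_P i) (fixT (wT Xb fe) (nat_lit 1)))) i = true := allRange_zero (len := (nat_lit 8)) (by decide +kernel)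

theorem few_W : Win 120 (fixT (wT Xb fe) (nat_lit 1)) 8 few_P := win_of_count few_n few_p

theorem fe_n {G : Type*} [Group G] (M : Mod G) : (M.D ∩ (cen (M.wl fe) 1 : Set G)).ncard = 8 :=
  M.ncard_D_inter_cen (M.tabs_wl fe_h 1) few_W few_p

end Cfsg.Agent.Std.E8
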