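import Mathlib
import Cfsg.Agent.ONT.Fus

/-!
Automorphisms of `4 · L₃(4)` induced by normalising elements, and a model of the extension `4 · L₃(4) · 2²`.
-/

set_option autoImplicit false
set_option synthInstance.maxSize 100000
set_option synthInstance.maxHeartbeats 1000000
set_option maxRecDepth 100000
set_option exponentiation.threshold 10000

namespace Cfsg.Agent.Std.ON

open Cfsg.Agent.ONT Cfsg.Agent.Spor Cfsg.Agent.Spor.PC Cfsg.Agent.Rec Cfsg.Agent.Spor.MX Cfsg.Agent.Inv.Fz Subgroup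

universe u v

variable {G : Type u} [Group G] {η : Γ →* G} {q : ℕ}

/-- The image of `Γ` is a fourfold cover. -/
structure Cv (η : Γ →* G) (q : ℕ) : Prop where
  hq : q ∈ [0, 2]
  hκ : η (κ q) = 1
  hy : orderOf (η y1) = 4

/-- A word conjugating `x` to its square. -/
def WN : List ℕ := [2, 1, 2, 1, 2, 1, 1, 1, 2, 0, 2, 1, 1, 2, 0, 0, 2]

theorem n_x : ev x0 w0 WN * x0 * (ev x0 w0 WN)⁻¹ = x0 ^ 2 :=
  ((((rep0.word WN).mul (rep0.nth 0)).mul (rep0.word WN).inv).eq_iff ((rep0.nth 0).pow 2)).1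
    ((nbeq_iff _ _).1 (by decide +kernel))

namespace Cv

variable (c : Cv η q)
include c

theorem y4 : η y1 ^ 4 = 1 := c.hy ▸ pow_orderOf_eq_one _

theorem pow_y {a : ℕ} : η y1 ^ a = 1 ↔ 4 ∣ a := by rw [← orderOf_dvd_iff_pow_eq_one, c.hy]

theorem ne : ∃ γ, η γ ≠ 1 := ⟨y1, fun h => by simpa [h] using c.hy⟩

omit c in
theorem comm {z : Γ} (hz : z ∈ Z0) (γ : Γ) : η z * η γ = η γ * η z := by
  rw [← map_mul, ← map_mul, Z0_comm hz]

theorem step1 [Finite G] {s : G} (hs : s ∈ normalizer (η.range : Set G)) : ∃ μ,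
    η μ * s * η x0 * (η μ * s)⁻¹ = η (σx 0) ∨ η μ * s * η x0 * (η μ * s)⁻¹ = η (σx 6) := by
  have : Fact (Nat.Prime 7) := ⟨by norm_num⟩
  have h0 : η x0 ≠ 1 := fun h => Z0_facts.1 (ker_le c.ne h)
  have h1 : orderOf (η x0) = 7 := orderOf_eq_prime (by rw [← map_pow, lf0.1, map_one]) h0
  have h2 : IsSylIn 7 (zpowers (η x0)) η.range := by
    refine isSylIn_of_not_dvd (zpowers_le.2 ⟨_, rfl⟩)
      (IsPGroup.of_card (n := 1) (by rw [Nat.card_zpowers, h1, pow_one])) fun ⟨k, hk⟩ => ?_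
    have h3 := card_eq_of_relIndex (zpowers_le.2 ⟨x0, rfl⟩ : zpowers (η x0) ≤ η.range)
    have h4 := card_range_dvd η
    rw [h3, hk, Nat.card_zpowers, h1, card_Γ] at h4
    exact absurd (Dvd.dvd.trans ⟨k, by ring⟩ h4 : 49 ∣ 322560) (by norm_num)
  obtain ⟨_, ⟨γ, rfl⟩, h3⟩ := h2.frattini hs
  obtain ⟨k, hk⟩ := mem_powers_iff_mem_zpowers.2 (conj_mem_of_mem_norm h3 (mem_zpowers _))
  have h4 : ∀ j, η (ev x0 w0 WN ^ j * γ) * s * η x0 * (η (ev x0 w0 WN ^ j * γ) * s)⁻¹ = η x0 ^ (2 ^ j * k % 7) := fun j => by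
    rw [← h1, pow_mod_orderOf]
    induction j with
    | zero => simpa using hk.symm
    | succ j ih =>
      rw [pow_succ 2, mul_right_comm, mul_comm _ 2, pow_mul, ← map_pow, ← n_x, map_mul, map_mul η _ _⁻¹, map_mul η _ x0,
        map_inv, conj_pow, ← ih, pow_succ', map_mul, map_mul]
      group
  have h5 : η x0 ^ 6 = η (σx 6) := by
    rw [σx, if_neg (by norm_num), map_inv]
    exact eq_inv_of_mul_eq_one_left (by rw [← pow_succ, ← map_pow, lf0.1, map_one])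
  have h6 : η x0 ^ 1 = η (σx 0) := by simp [σx]
  obtain ⟨j, hj⟩ : ∃ j, 2 ^ j * k % 7 = 0 ∨ 2 ^ j * k % 7 = 1 ∨ 2 ^ j * k % 7 = 6 := by
    have : k % 7 < 7 := Nat.mod_lt _ (by norm_num)
    rcases (by omega : k % 7 = 0 ∨ k % 7 = 1 ∨ k % 7 = 6 ∨ k % 7 = 3 ∨ k % 7 = 4 ∨ k % 7 = 2 ∨ k % 7 = 5) with
      h | h | h | h | h | h | h
    exacts [⟨0, by omega⟩, ⟨0, by omega⟩, ⟨0, by omega⟩, ⟨1, by omega⟩, ⟨1, by omega⟩, ⟨2, by omega⟩, ⟨2, by omega⟩]
  have h7 := h4 j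
  rcases hj with h | h | h <;> rw [h] at h7
  · exact absurd (conj_eq_one.1 (h7.trans (pow_zero _))) h0
  · exact ⟨_, .inl (h7.trans h6)⟩
  · exact ⟨_, .inr (h7.trans h5)⟩

theorem step2 {s : G} (hs : s ∈ normalizer (η.range : Set G)) {lo a : ℕ} (hlo : lo = 0 ∨ lo = 6)
    (h : s * η x0 * s⁻¹ = η (σx lo)) (ha : CL.Rep a (π0 (σx lo))) (hc : l3OK a lo = true) :
    ∃ i < 12, ∃ μ, ∀ γ, η μ * s * η γ * (η μ * s)⁻¹ = η (σ i γ) := by
  obtain ⟨γ, hγ⟩ := conj_mem_of_mem_norm hs (mem_rg η w0)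
  have h1 : ∀ δ ε, η δ = s * η ε * s⁻¹ → (δ ∈ Z0 ↔ ε ∈ Z0) := by
    have key : ∀ {s : G}, s ∈ normalizer (η.range : Set G) → ∀ δ ε, η δ = s * η ε * s⁻¹ → ε ∈ Z0 → δ ∈ Z0 :=
      fun {s} hs δ ε h1 h2 => mem_Z0 c.ne fun ζ => by
        obtain ⟨ζ', h3⟩ := conj_mem_of_mem_norm (inv_mem hs) (mem_rg η ζ)
        rw [h1]
        calc _ = s * (η ε * η ζ') * s⁻¹ := by rw [h3]; group
          _ = _ := by rw [comm h2, h3]; group
    exact fun δ ε h1 => ⟨key (inv_mem hs) ε δ (by rw [h1]; group), key hs δ ε h1⟩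
  have h2 : ∀ i, ev (π0 (σx lo)) (π0 γ) (l34_rels.get i) = 1 := fun i => by
    rw [← map_ev, π0_eq_one, h1 _ (ev x0 w0 (l34_rels.get i)), ← π0_eq_one, π0_ev, relL]
    rw [map_ev, map_ev, ← h, hγ]
    exact (map_ev (MulAut.conj s).toMonoidHom _ _ _).symm
  have h3 := (L_inv (l := π0 γ) (by simpa [ev, tri] using (show ev (π0 (σx lo)) (π0 γ) [2, 2] = 1 from h2 3))).resolve_left fun h3 =>
    absurd ((h1 _ _ hγ).1 (π0_eq_one.1 h3)) (hZ.decide rep5 (by decide +kernel))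
  obtain ⟨j, i, hi, h4⟩ := l3_of ha hc h3 (h2 7)
  have h5 : σx (lo + i) = σx lo := by rcases hlo with rfl | rfl <;> simp [σx, hi]
  have h6 : lo + i < 12 := by omega
  have h7 : (σw (lo + i))⁻¹ * (x0 ^ j * γ * (x0 ^ j)⁻¹) ∈ Z0 := π0_eq_one.1 (by
    simp only [map_mul, map_inv, map_pow, π0_x, h4, σw, π0_ev, inv_mul_cancel])
  have h8 : η x0 ^ j * s * η x0 * (η x0 ^ j * s)⁻¹ = η (σx (lo + i)) := by
    have h9 : Commute (η x0 ^ j) (η (σx lo)) := by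
      unfold σx
      split_ifs <;> simp
    calc _ = η x0 ^ j * (s * η x0 * s⁻¹) * (η x0 ^ j)⁻¹ := by group
      _ = _ := by rw [h, h9.eq, mul_inv_cancel_right, h5]
  have h9 : η x0 ^ j * s * η w0 * (η x0 ^ j * s)⁻¹ =
      η (σw (lo + i)) * η ((σw (lo + i))⁻¹ * (x0 ^ j * γ * (x0 ^ j)⁻¹)) := by
    simp only [map_mul, map_inv, map_pow, hγ]
    group
  generalize (σw (lo + i))⁻¹ * (x0 ^ j * γ * (x0 ^ j)⁻¹) = z at h7 h9
  have h10 : η z ^ 7 = 1 := by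
    have h11 := conj_pow (a := η x0 ^ j * s) (b := η (x0 * w0)) (i := 7)
    rw [← map_pow _ (x0 * w0), lf0.2.1, map_one, mul_one, mul_inv_cancel, map_mul, ← conj_mul, h8, h9, ← mul_assoc, ← map_mul,
      Commute.mul_pow (comm h7 _).symm, ← map_pow, (lf_σ h6).2.1, map_one, one_mul] at h11
    exact h11
  have h11 : η z = 1 := by
    have h12 : η z ^ (4 * 2) = 1 := by rw [pow_mul, ← map_pow, (Z0_facts.2.2 z h7).2.2, map_one, one_pow]
    rwa [show 4 * 2 = 7 + 1 by norm_num, pow_succ, h10, one_mul] at h12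
  refine ⟨lo + i, h6, x0 ^ j, DFunLike.congr_fun (hom_ext
      (f := (MulAut.conj (η (x0 ^ j) * s)).toMonoidHom.comp η) (g := η.comp (σ (lo + i))) ?_ ?_)⟩ <;> rw [map_pow]
  · exact h8.trans (congrArg η (σ_x h6).symm)
  · exact h9.trans (by rw [h11, mul_one]; exact congrArg η (σ_w h6).symm)

theorem aut [Finite G] {s : G} (hs : s ∈ normalizer (η.range : Set G)) :
    ∃ i ∈ [0, 1, 9, 11], ∃ μ, ∀ γ, η μ * s * η γ * (η μ * s)⁻¹ = η (σ i γ) := by
  obtain ⟨i, hi, μ, act⟩ : ∃ i < 12, ∃ μ, ∀ γ, η μ * s * η γ * (η μ * s)⁻¹ = η (σ i γ) := by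
    obtain ⟨μ, h⟩ := c.step1 hs
    have h1 := mul_mem (le_normalizer (mem_rg η μ)) hs
    have h2 : (∃ i < 12, ∃ ν, ∀ γ, η ν * (η μ * s) * η γ * (η ν * (η μ * s))⁻¹ = η (σ i γ)) →
        ∃ i < 12, ∃ μ, ∀ γ, η μ * s * η γ * (η μ * s)⁻¹ = η (σ i γ) := fun ⟨i, hi, ν, h⟩ =>
      ⟨i, hi, ν * μ, by simpa only [map_mul, mul_assoc] using h⟩
    rcases h with h | h
    · exact h2 (c.step2 h1 (.inl rfl) h (a := nth P.one cL 0) (by simpa [σx, π0_x, tri] using repL.nth 0)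
        (by decide +kernel))
    · exact h2 (c.step2 h1 (.inr rfl) h (a := nth P.one cL 1) (by simpa [σx, π0_x, tri] using repL.nth 1)
        (by decide +kernel))
  refine ⟨i, ?_, μ, act⟩
  have bad : anyZ q (sκ i q) [1, 2, 3] = true → i ∈ [0, 1, 9, 11] := fun hc => by
    obtain ⟨a, ha, h⟩ := anyZ_sound c.hκ (rep_sκ hi q) hc
    rw [← act, c.hκ, mul_one, mul_inv_cancel, eq_comm, c.pow_y] at h
    simp only [List.mem_cons, List.not_mem_nil, or_false] at ha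
    omega
  have hq := c.hq
  clear act
  simp only [List.mem_cons, List.not_mem_nil, or_false] at hq
  rcases hq with rfl | rfl <;> interval_cases i <;>
    first
      | decide
      | exact bad (by decide +kernel)

theorem ker_σ {i : ℕ} (h : η (σ i (κ q)) = 1) {γ : Γ} (e : η γ = 1) : η (σ i γ) = 1 := by
  obtain ⟨k, hk⟩ := map_Z0 (η := η.prod (η.comp (σ i))) (q := q) (Prod.ext c.hκ h) (ker_le c.ne e)
  have h1 : η y1 ^ k = 1 := (congrArg Prod.fst hk).trans e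
  obtain ⟨m, rfl⟩ := orderOf_dvd_iff_zpow_eq_one.2 h1
  refine (congrArg Prod.snd hk).symm.trans (?_ : η (σ i y1) ^ (_ * m) = 1)
  rw [c.hy, zpow_mul, zpow_natCast, ← map_pow, ← map_pow, (Z0_facts.2.2 _ y1_mem).2.2, map_one, map_one, one_zpow]

theorem σ_κ {i : ℕ} (hi : i = 1 ∨ i = 9) : η (σ i (κ q)) = 1 := by
  have h : anyZ q (sκ i q) [0] = true := by
    have hq := c.hq
    simp only [List.mem_cons, List.not_mem_nil, or_false] at hq
    rcases hq with rfl | rfl <;> rcases hi with rfl | rfl <;> decide +kernel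
  obtain ⟨a, ha, h⟩ := anyZ_sound c.hκ (rep_sκ (by omega) q) h
  rw [h, List.mem_singleton.1 ha, pow_zero]

end Cv

theorem σ11 (γ : Γ) : σ 1 (σ 1 γ) = γ := σ_σ (by norm_num) (by norm_num) Iff.rfl (by decide +kernel) γ
theorem σ99 (γ : Γ) : σ 9 (σ 9 γ) = γ := σ_σ (by norm_num) (by norm_num) Iff.rfl (by decide +kernel) γ

theorem σ19 (γ : Γ) : σ 1 (σ 9 γ) = σ 9 (σ 1 γ) := by
  refine DFunLike.congr_fun (hom_ext (f := (σ 1).comp (σ 9)) (g := (σ 9).comp (σ 1)) ?_ ?_) γ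
  · simp [σ_x, σx]
  · simp only [MonoidHom.comp_apply, σ_w (i := 1) (by norm_num), σ_w (i := 9) (by norm_num), σw]
    exact ((rep_σ (by norm_num) _).eq_iff (rep_σ (by norm_num) _)).1 ((nbeq_iff _ _).1 (by decide +kernel))

theorem σ_11 (γ : Γ) : σ 11 γ = x0 * σ 1 (σ 9 γ) * x0⁻¹ := by
  refine DFunLike.congr_fun (hom_ext (f := σ 11) (g := (MulAut.conj x0).toMonoidHom.comp ((σ 1).comp (σ 9))) ?_ ?_) γ
  · simp [σ_x, σx]
  · simp only [MonoidHom.comp_apply, σ_w (i := 11) (by norm_num), σ_w (i := 9) (by norm_num)]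
    exact ((rep_sw 11).eq_iff (((rep0.nth 0).mul (rep_σ (i := 1) (by norm_num) (nth [] WS 9))).mul (rep0.nth 0).inv)).1
      ((nbeq_iff _ _).1 (by decide +kernel))

theorem σ_0 (γ : Γ) : σ 0 γ = γ :=
  DFunLike.congr_fun (hom_ext (f := σ 0) (g := MonoidHom.id Γ) (σ_x (by norm_num))
    ((σ_w (by norm_num)).trans (by simp [σw, WS, ev, tri]))) γ

/-- A model of the split extension by a four-group of outer automorphisms. -/
structure Mdl (η : Γ →* G) {B : Type} [Group B] (ι : Γ →* B) (r s : B) : Prop where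
  ker : ∀ γ, ι γ = 1 ↔ η γ = 1
  actr : ∀ γ, r * ι γ * r⁻¹ = ι (σ 1 γ)
  acts : ∀ γ, s * ι γ * s⁻¹ = ι (σ 9 γ)
  rr : r * r = 1
  ss : s * s = 1
  rs : r * s = s * r
  nr : r ∉ ι.range
  ns : s ∉ ι.range
  nrs : s * r ∉ ι.range

theorem Cv.exists_mdl (c : Cv η q) : ∃ (B : Type) (_ : Group B) (ι : Γ →* B) (r s : B), Mdl η ι r s := by
  let Λ := Γ ⧸ η.ker
  let ρ : Γ →* Λ := QuotientGroup.mk' _
  have hρ : ∀ γ, ρ γ = 1 ↔ η γ = 1 := fun γ => QuotientGroup.eq_one_iff γ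
  have hs : ∀ {p : Λ → Prop}, (∀ γ, p (ρ γ)) → ∀ l, p l := fun h l => QuotientGroup.induction_on l h
  have h1 : ∀ i, i = 1 ∨ i = 9 → (∀ γ, σ i (σ i γ) = γ) → ∃ r : Equiv.Perm Λ, ∀ γ, r (ρ γ) = ρ (σ i γ) := fun i hi h =>
    ⟨Function.Involutive.toPerm (QuotientGroup.map η.ker η.ker (σ i) fun _ e => c.ker_σ (c.σ_κ hi) e)
      (hs fun γ => congrArg ρ (h γ)), fun _ => rfl⟩
  obtain ⟨r, hr⟩ := h1 1 (.inl rfl) σ11
  obtain ⟨s, hs'⟩ := h1 9 (.inr rfl) σ99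
  let ι : Γ →* Equiv.Perm Λ := (MulAction.toPermHom Λ Λ).comp ρ
  have hι : ∀ γ δ, ι γ (ρ δ) = ρ (γ * δ) := fun γ δ => (map_mul ρ γ δ).symm
  have h2 : ∀ (t : Equiv.Perm Λ) (δ ε : Γ), t (ρ 1) = ρ 1 → t (ρ δ) = ρ ε → δ⁻¹ * ε ∉ Z0 → t ∉ ι.range := by
    rintro _ δ ε h1 h2 h3 ⟨γ, rfl⟩
    rw [hι, mul_one, map_one] at h1
    rw [hι, map_mul, h1, one_mul] at h2
    exact h3 (ker_le c.ne ((hρ _).1 (by rw [map_mul, map_inv, h2, inv_mul_cancel])))
  have h3 : x0⁻¹ * x0⁻¹ ∉ Z0 := hZ.decide rep5 (by decide +kernel)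
  refine ⟨_, inferInstance, ι, r, s, fun γ => ⟨fun h => (hρ γ).1 (by simpa [h] using (hι γ 1).symm),
    fun h => (congrArg (MulAction.toPermHom Λ Λ) ((hρ γ).2 h)).trans (map_one _)⟩, fun γ => mul_inv_eq_iff_eq_mul.2 (Equiv.ext (hs fun δ => by
      simp only [Equiv.Perm.mul_apply, hι, hr]; rw [map_mul])),
    fun γ => mul_inv_eq_iff_eq_mul.2 (Equiv.ext (hs fun δ => by
      simp only [Equiv.Perm.mul_apply, hι, hs']; rw [map_mul])),
    Equiv.ext (hs fun δ => by simp [hr, σ11]), Equiv.ext (hs fun δ => by simp [hs', σ99]),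
    Equiv.ext (hs fun δ => by simp [hr, hs', σ19]), h2 r w0 _ (by rw [hr, map_one]) (hr _) ?_,
    h2 s x0 x0⁻¹ (by rw [hs', map_one]) (by simp [hs', σ_x, σx]) h3,
    h2 _ x0 x0⁻¹ (by rw [Equiv.Perm.mul_apply, hr, hs', map_one, map_one]) (by simp [hr, hs', σ_x, σx]) h3⟩
  rw [σ_w (by norm_num)]
  exact hZ.decide (e := [w0, σw 1]) ((rep0.nth 2).cons ((rep_sw 1).cons Cod.repL_nil)) (by decide +kernel)

/-- The relations for an outer generator. -/
noncomputable def outOK (q i : ℕ) (m : List ℕ) (c : ℕ → ℕ) (d : ℕ) : Bool :=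
  force (evC A c0 m) fun a => force (A.inv a) fun a' =>
    band (allLt 8 fun l => force (sC i (nth [] WT l)) fun b => force (A.mul a b) fun b =>
        eqK q (A.mul b a') (evC A cT (bitsW 8 (c l))))
      (force (sC i m) fun b => force (A.mul a b) fun b => force (evC A cT (bitsW 8 d)) fun g => eqK q (A.mul b g) A.one)

theorem out_sound {B : Type v} [Group B] {ι : Γ →* B} (hκ : ι (κ q) = 1) {i : ℕ} (hi : i < 12) {s : B}
    (act : ∀ γ, s * ι γ * s⁻¹ = ι (σ i γ)) (ss : s * s = 1) {m : List ℕ} {c : ℕ → ℕ} {d : ℕ}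
    (hc : outOK q i m c d = true) : (∀ l < 8, ι (nth 1 eT l) * (ι (ev x0 w0 m) * s)⁻¹ =
      (ι (ev x0 w0 m) * s)⁻¹ * ι (elt (nth 1 eT) 8 (c l))) ∧
      (ι (ev x0 w0 m) * s)⁻¹ * (ι (ev x0 w0 m) * s)⁻¹ = ι (elt (nth 1 eT) 8 d) := by
  rw [outOK] at hc
  simp only [band_iff, force_eq', allLt_iff] at hc
  have hμ : CΓ.Rep (evC A c0 m) (ev x0 w0 m) := rep0.word m
  refine ⟨fun l hl => ?_, ?_⟩
  · rw [← eqK_sound hκ ((hμ.mul (rep_σ hi _)).mul hμ.inv) (rep_elt repT _ _) (hc.1 l hl), map_mul,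
      map_mul, map_inv, ← act, eT_ev]
    group
  · have h8 := eqK_sound hκ ((hμ.mul (rep_σ hi m)).mul (rep_elt repT _ _)) Cod.rep_one hc.2
    rw [map_one, map_mul, map_mul, ← act, mul_eq_one_iff_inv_eq, inv_eq_of_mul_eq_one_right ss] at h8
    rw [← h8]
    group

/-- The words correcting the outer generators. -/
def M1 : List ℕ := [0, 2, 0, 2, 0, 0]
/-- The words correcting the outer generators. -/
def M9 : List ℕ := [1, 1, 2, 0, 2, 1, 1, 2, 1, 2]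

/-- The polycyclic relations. -/
noncomputable def relOK (q : ℕ) (C : ℕ → ℕ → ℕ) (d : ℕ) : Bool :=
  band (band (allLt 10 fun k => band (blt (C k k) 256) (allLt 8 fun l => blt (C l k) 256))
      (band (blt d 256) (Nat.beq (C 8 9) (Nat.add 256 d))))
    (band (allLt 8 fun k => band (eqK q (evC A cT [k, k]) (evC A cT (bitsW 8 (C k k))))
        (allLt k fun l => eqK q (evC A cT [l, k]) (evC A cT (k :: bitsW 8 (C l k)))))
      (band (band (outOK q 1 M1 (fun l => C l 8) (C 8 8)) (outOK q 9 M9 (fun l => C l 9) (C 9 9)))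
        (force (sC 1 M9) fun a => force (A.mul (evC A c0 M1) a) fun a => force (sC 9 M1) fun b =>
          force (A.mul (evC A c0 M9) b) fun b => force (evC A cT (bitsW 8 d)) fun g => eqK q a (A.mul g b))))

/-- The polycyclic sequence of the model. -/
noncomputable def gs {B : Type} [Group B] (ι : Γ →* B) (r s : B) (k : ℕ) : B :=
  if k < 8 then ι (nth 1 eT k) else if k = 8 then (ι (ev x0 w0 M1) * r)⁻¹ else (ι (ev x0 w0 M9) * s)⁻¹

theorem eT0 : nth 1 eT 0 = y1 * y1 :=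
  ((repT.nth 0).eq_iff ((repZ.nth 0).mul (repZ.nth 0))).1 ((nbeq_iff _ _).1 (by decide +kernel))

theorem eT1 : nth 1 eT 1 = y1 := eT_ev 1

theorem eT2 : nth 1 eT 2 = w0 := by simp [eT_ev, ev, WT, tri]

namespace Mdl

variable {B : Type} [Group B] {ι : Γ →* B} {r s : B}

theorem g1 {k : ℕ} (hk : k < 8) : gs ι r s k = ι (nth 1 eT k) := if_pos hk
theorem g8 : gs ι r s 8 = (ι (ev x0 w0 M1) * r)⁻¹ := rfl
theorem g9 : gs ι r s 9 = (ι (ev x0 w0 M9) * s)⁻¹ := rfl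

theorem g3 {c : ℕ} (hc : c < 256) : elt (gs ι r s) 10 c = ι (elt (nth 1 eT) 8 c) := by
  rw [elt_of_lt (k := 8) hc (by norm_num), map_elt]
  exact evalW_congr fun x hx => g1 (lt_of_mem_bitsW hx)

theorem cv (m : Mdl η ι r s) (c : Cv η q) : Cv ι q :=
  ⟨c.hq, (m.ker _).2 c.hκ, c.hy ▸ orderOf_eq_orderOf_iff.2 fun n => by rw [← map_pow, ← map_pow, m.ker]⟩

theorem pc (m : Mdl η ι r s) (c : Cv η q) {R C : ℕ → ℕ → ℕ} {d : ℕ} (hc : relOK q C d = true)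
    (h5 : chkTab R C 10 = true) : IsPC (gs ι r s) 10 R := by
  replace c := m.cv c
  rw [relOK] at hc
  simp only [band_iff, force_eq', allLt_iff, blt_iff, nbeq_iff] at hc
  obtain ⟨⟨h1, hd, h0⟩, h2, ⟨h3, h4⟩, h6⟩ := hc
  obtain ⟨a1, a2⟩ := out_sound c.hκ (by norm_num) m.actr m.rr h3
  obtain ⟨b1, b2⟩ := out_sound c.hκ (by norm_num) m.acts m.ss h4
  refine ⟨tabs_of_chkTab h5 (fun k hk => ?_) fun k hk l hl => ?_, fun n hn e => ?_⟩
  · rw [g3 (h1 k hk).1]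
    rcases (by omega : k < 8 ∨ k = 8 ∨ k = 9) with hk | rfl | rfl
    · simpa [g1 hk] using eqK_sound c.hκ (repT.word _) (rep_elt repT _ _) (h2 k hk).1
    exacts [a2, b2]
  · rcases (by omega : l < 8 ∨ l = 8 ∧ k = 9) with h | ⟨rfl, rfl⟩
    · rw [g3 ((h1 k hk).2 l h), g1 h]
      rcases (by omega : k < 8 ∨ k = 8 ∨ k = 9) with hk | rfl | rfl
      · simpa [g1 hk, elt] using eqK_sound c.hκ (repT.word _) (repT.word _) ((h2 k hk).2 l hl)
      exacts [a1 l h, b1 l h]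
    · have h7 := eqK_sound c.hκ ((rep0.word M1).mul (rep_σ (i := 1) (by norm_num) M9))
        ((rep_elt repT 8 d).mul ((rep0.word M9).mul (rep_σ (i := 9) (by norm_num) M1))) h6
      rw [map_mul, map_mul, map_mul, ← m.actr, ← m.acts, ← mul_inv_eq_iff_eq_mul] at h7
      rw [h0, show Nat.add 256 d = 2 ^ 8 + d from rfl, elt_add (k := 8) hd (by norm_num), g3 hd, ← h7, g8, g9]
      change _ = _ * (_ * (ι (ev x0 w0 M1) * _ * (ι (ev x0 w0 M9) * (s * ι (ev x0 w0 M1) * s⁻¹))⁻¹))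
      generalize ι (ev x0 w0 M1) = a, ι (ev x0 w0 M9) = b
      calc _ = r⁻¹ * a⁻¹ * s⁻¹ * b⁻¹ := by group
        _ = s⁻¹ * (s * r⁻¹) * a⁻¹ * s⁻¹ * b⁻¹ := by group
        _ = _ := by rw [← (Commute.inv_left m.rs).eq]; group
  · obtain ⟨a, ha, rfl | rfl | rfl | rfl⟩ : ∃ a < 2 ^ 8, n = a ∨ n = 2 ^ 8 + a ∨ n = 2 ^ 9 + a ∨
        n = 2 ^ 9 + (2 ^ 8 + a) := ⟨n % 256, Nat.mod_lt _ (by norm_num), by omega⟩
    · rw [g3 ha] at e
      have h9 : n < 4 := by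
        by_contra h9
        refine (bneg_iff _).1 (allRange_spec V_ok n (by omega) (by omega)) ((nbeq_iff _ _).2
          (((rep_elt (repL.words WT cV_ok) 8 n).eq_iff Cod.rep_one).2 ?_))
        refine Eq.trans ?_ ((map_elt π0 n).symm.trans (π0_eq_one.2 (ker_le c.ne e)))
        exact evalW_congr fun k _ => (nth_words _ _ _).trans ((congrArg π0 (eT_ev k)).trans (π0_ev _)).symm
      have h10 : ∀ k, ¬ 4 ∣ k → ι (y1 ^ k) ≠ 1 := fun k hk h => hk (c.pow_y.1 ((map_pow _ _ _).symm.trans h))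
      interval_cases n
      · rfl
      · exact absurd ((congrArg ι ((pow_two _).trans ((elt_pow (k := 0) (by norm_num)).trans eT0).symm)).trans e)
          (h10 2 (by norm_num))
      · exact absurd ((congrArg ι ((pow_one _).trans ((elt_pow (k := 1) (by norm_num)).trans eT1).symm)).trans e)
          (h10 1 (by norm_num))
      · rw [show 3 = 2 ^ 1 + 2 ^ 0 by norm_num, elt_add (by norm_num) (by norm_num), elt_pow (by norm_num), eT0, eT1] at e
        exact absurd (by rw [← e, pow_succ', pow_two]) (h10 3 (by norm_num))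
    · rw [elt_add ha (by norm_num), g3 ha, g8, inv_mul_eq_one, ← eq_inv_mul_iff_mul_eq] at e
      exact absurd (e ▸ mul_mem (inv_mem (mem_rg _ _)) (mem_rg _ _)) m.nr
    · rw [elt_add (by omega) (by norm_num), g3 ha, g9, inv_mul_eq_one, ← eq_inv_mul_iff_mul_eq] at e
      exact absurd (e ▸ mul_mem (inv_mem (mem_rg _ _)) (mem_rg _ _)) m.ns
    · rw [elt_add (by omega) (by norm_num), elt_add ha (by norm_num), g3 ha, g8, g9, inv_mul_eq_one,
        eq_inv_mul_iff_mul_eq, mul_assoc, ← mul_assoc r, ← inv_mul_cancel_right (r * _) r, m.actr, mul_assoc _ r, m.rs,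
        ← eq_inv_mul_iff_mul_eq, ← eq_inv_mul_iff_mul_eq] at e
      exact absurd (e ▸ mul_mem (inv_mem (mem_rg _ _)) (mul_mem (inv_mem (mem_rg _ _)) (mem_rg _ _))) m.nrs

end Mdl

end Cfsg.Agent.Std.ON
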