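import Mathlib
import Cfsg.Agent.Std.RuM

/-! Generated by a script: a Sylow 2-subgroup of the double cover of Ru -/

set_option autoImplicit false
set_option maxRecDepth 100000
set_option linter.unusedVariables false
set_option exponentiation.threshold 100000
set_option Elab.async false

namespace Cfsg.Agent.Std.Ru

open Cfsg.Spor Cfsg.Agent.Spor Cfsg.Agent.Spor.FL Cfsg.Agent.Spor.MRu

noncomputable def w : LT :=
(.node (.node (.node (.node (.leaf [nat_lit 0,nat_lit 1,nat_lit 1,nat_lit 0,nat_lit 1,nat_lit 0,nat_lit 1,nat_lit 0,nat_lit 1,nat_lit 0,nat_lit 1,nat_lit 1,nat_lit 1,nat_lit 0,nat_lit 1,nat_lit 1,nat_lit 0,nat_lit 1,nat_lit 1,nat_lit 0,nat_lit 1,nat_lit 1,nat_lit 1,nat_lit 0,nat_lit 1,nat_lit 0,nat_lit 1,nat_lit 0,nat_lit 1,nat_lit 0,nat_lit 1,nat_lit 1,nat_lit 0,nat_lit 1,nat_lit 1,nat_lit 0,nat_lit 1,nat_lit 1,nat_lit 1,nat_lit 0,nat_lit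 1,nat_lit 0,nat_lit 1,nat_lit 0,nat_lit 1,nat_lit 0,nat_lit 1,nat_lit 1,nat_lit 0,nat_lit 1,nat_lit 1,nat_lit 0,nat_lit 1,nat_lit 1,nat_lit 1,nat_lit 0,nat_lit 1,nat_lit 0,nat_lit 1,nat_lit 1,nat_lit 1,nat_lit 0,nat_lit 1,nat_lit 0,nat_lit 1,nat_lit 1,nat_lit 1,nat_lit 0,nat_lit 1,nat_lit 1,nat_lit 0,nat_lit 1,nat_lit 0,nat_lit 1,nat_lit 0,nat_lit 1,nat_lit 1,nat_lit 1,nat_lit 0,nat_lit 1,nat_lit 1,nat_lit 1,nat_lit 0,nat_lit 1,nat_lit 0,nat_lit 1,nat_lit 1,nat_lit 1,nat_lit 0,nat_lit 1,nat_lit 1,nat_lit 1,nat_lit 0,nat_lit 1,nat_lit 1,nat_lit 0,nat_lit 1,nat_lit 0,nat_lit 1,nat_lit 1,nat_lit 0,nat_lit 1,nat_lit 0,nat_lit 1,nat_lit 0,nat_lit 1,nat_lit 1,nat_lit 1,nat_lit 0,nat_lit 1,nat_lit 0,nat_lit 1,nat_lit 1,nat_lit 1,nat_lit 0,nat_lit 1,nat_lit 1,nat_lit 1,nat_lit 0,nat_lit 1,nat_lit 1])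
 (.leaf [nat_lit 0,nat_lit 1,nat_lit 1,nat_lit 0,nat_lit 1,nat_lit 0,nat_lit 1,nat_lit 1,nat_lit 1,nat_lit 0,nat_lit 1,nat_lit 1,nat_lit 0,nat_lit 1,nat_lit 0,nat_lit 1,nat_lit 1,nat_lit 1,nat_lit 0,nat_lit 1,nat_lit 1,nat_lit 0]))
 (.node (.leaf [nat_lit 0,nat_lit 1,nat_lit 1,nat_lit 0,nat_lit 1,nat_lit 1,nat_lit 1,nat_lit 0,nat_lit 1,nat_lit 0,nat_lit 1,nat_lit 0,nat_lit 1,nat_lit 0,nat_lit 1,nat_lit 1,nat_lit 0,nat_lit 1,nat_lit 0,nat_lit 1,nat_lit 1,nat_lit 1,nat_lit 0,nat_lit 1,nat_lit 1,nat_lit 1,nat_lit 0,nat_lit 1,nat_lit 1,nat_lit 0,nat_lit 1,nat_lit 1,nat_lit 1,nat_lit 0,nat_lit 1,nat_lit 1,nat_lit 0,nat_lit 1,nat_lit 1,nat_lit 1,nat_lit 0,nat_lit 1,nat_lit 0,nat_lit 1,nat_lit 1,nat_lit 0,nat_lit 1,nat_lit 1,nat_lit 1,nat_lit 0,nat_lit 1,nat_lit 1,nat_lit 1,nat_lit 0,nat_lit 1,nat_lit 0,nat_lit 1,nat_lit 0,nat_lit 1,nat_lit 1,nat_lit 0,nat_lit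 1,nat_lit 0,nat_lit 1,nat_lit 1,nat_lit 0,nat_lit 1,nat_lit 0,nat_lit 1,nat_lit 1,nat_lit 1,nat_lit 0,nat_lit 1,nat_lit 0,nat_lit 1,nat_lit 0,nat_lit 1,nat_lit 1,nat_lit 1,nat_lit 0,nat_lit 1,nat_lit 1,nat_lit 0,nat_lit 1,nat_lit 0,nat_lit 1,nat_lit 0,nat_lit 1,nat_lit 1,nat_lit 0,nat_lit 1,nat_lit 1,nat_lit 1,nat_lit 0,nat_lit 1,nat_lit 0,nat_lit 1,nat_lit 1,nat_lit 1])
 (.leaf [nat_lit 1,nat_lit 0,nat_lit 1,nat_lit 0,nat_lit 1,nat_lit 0,nat_lit 1,nat_lit 1,nat_lit 0,nat_lit 1,nat_lit 1,nat_lit 1,nat_lit 0,nat_lit 1,nat_lit 0,nat_lit 1,nat_lit 0,nat_lit 1,nat_lit 0,nat_lit 1,nat_lit 1,nat_lit 1,nat_lit 0,nat_lit 1,nat_lit 1,nat_lit 1,nat_lit 0,nat_lit 1,nat_lit 1,nat_lit 1,nat_lit 0,nat_lit 1,nat_lit 1,nat_lit 0,nat_lit 1,nat_lit 0,nat_lit 1,nat_lit 1,nat_lit 1,nat_lit 0,nat_lit 1,nat_lit 1,nat_lit 1,nat_lit 0,nat_lit 1,nat_lit 0,nat_lit 1,nat_lit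 1,nat_lit 0,nat_lit 1,nat_lit 0,nat_lit 1,nat_lit 0,nat_lit 1,nat_lit 1,nat_lit 0,nat_lit 1,nat_lit 0,nat_lit 1,nat_lit 1,nat_lit 1,nat_lit 0,nat_lit 1,nat_lit 1,nat_lit 0,nat_lit 1,nat_lit 0,nat_lit 1,nat_lit 1,nat_lit 1,nat_lit 0,nat_lit 1,nat_lit 0,nat_lit 1,nat_lit 0,nat_lit 1,nat_lit 0,nat_lit 1,nat_lit 1,nat_lit 1,nat_lit 0,nat_lit 1,nat_lit 0,nat_lit 1,nat_lit 1,nat_lit 0,nat_lit 1,nat_lit 1,nat_lit 1,nat_lit 0])))
 (.node (.node (.leaf [nat_lit 1,nat_lit 0,nat_lit 1,nat_lit 1,nat_lit 1,nat_lit 0,nat_lit 1,nat_lit 1,nat_lit 0,nat_lit 1,nat_lit 0,nat_lit 1,nat_lit 1,nat_lit 1,nat_lit 0,nat_lit 1,nat_lit 0,nat_lit 1,nat_lit 1,nat_lit 1,nat_lit 0,nat_lit 1,nat_lit 0,nat_lit 1,nat_lit 0,nat_lit 1,nat_lit 0,nat_lit 1,nat_lit 1,nat_lit 1,nat_lit 0,nat_lit 1,nat_lit 1,nat_lit 0,nat_lit 1,nat_lit 1,nat_lit 1,nat_lit 0,nat_lit 1,nat_lit 1,nat_lit 1,nat_lit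 0,nat_lit 1,nat_lit 0,nat_lit 1,nat_lit 0,nat_lit 1,nat_lit 0,nat_lit 1,nat_lit 0,nat_lit 1,nat_lit 1,nat_lit 0,nat_lit 1,nat_lit 0,nat_lit 1,nat_lit 1,nat_lit 1,nat_lit 0,nat_lit 1,nat_lit 1,nat_lit 1,nat_lit 0,nat_lit 1,nat_lit 0,nat_lit 1,nat_lit 1,nat_lit 1,nat_lit 0,nat_lit 1,nat_lit 1,nat_lit 0,nat_lit 1,nat_lit 0,nat_lit 1,nat_lit 1,nat_lit 0,nat_lit 1,nat_lit 1,nat_lit 0,nat_lit 1,nat_lit 1,nat_lit 1,nat_lit 0,nat_lit 1,nat_lit 0,nat_lit 1,nat_lit 0,nat_lit 1,nat_lit 0,nat_lit 1,nat_lit 0,nat_lit 1,nat_lit 0,nat_lit 1,nat_lit 1,nat_lit 1,nat_lit 0,nat_lit 1,nat_lit 1,nat_lit 1,nat_lit 0,nat_lit 1,nat_lit 0,nat_lit 1,nat_lit 0,nat_lit 1,nat_lit 1,nat_lit 1])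
 (.leaf [nat_lit 0,nat_lit 1,nat_lit 1,nat_lit 0,nat_lit 1,nat_lit 1,nat_lit 1,nat_lit 0,nat_lit 1,nat_lit 1,nat_lit 1,nat_lit 0,nat_lit 1,nat_lit 0,nat_lit 1,nat_lit 0,nat_lit 1,nat_lit 0,nat_lit 1,nat_lit 1,nat_lit 1,nat_lit 0,nat_lit 1,nat_lit 1,nat_lit 0,nat_lit 1,nat_lit 1,nat_lit 1,nat_lit 0,nat_lit 1,nat_lit 0,nat_lit 1,nat_lit 1,nat_lit 1,nat_lit 0,nat_lit 1,nat_lit 0,nat_lit 1,nat_lit 0,nat_lit 1,nat_lit 1,nat_lit 1,nat_lit 0,nat_lit 1,nat_lit 0,nat_lit 1,nat_lit 0,nat_lit 1,nat_lit 1,nat_lit 1,nat_lit 0,nat_lit 1,nat_lit 0,nat_lit 1,nat_lit 1,nat_lit 1,nat_lit 0,nat_lit 1,nat_lit 1,nat_lit 1,nat_lit 0,nat_lit 1,nat_lit 0,nat_lit 1,nat_lit 1,nat_lit 0,nat_lit 1,nat_lit 0,nat_lit 1,nat_lit 1,nat_lit 1,nat_lit 0,nat_lit 1,nat_lit 1,nat_lit 1,nat_lit 0,nat_lit 1,nat_lit 0,nat_lit 1,nat_lit 0,nat_lit 1]))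
 (.node (.leaf [nat_lit 0,nat_lit 1,nat_lit 0,nat_lit 1,nat_lit 0,nat_lit 1,nat_lit 0,nat_lit 1,nat_lit 1,nat_lit 1,nat_lit 0,nat_lit 1,nat_lit 1,nat_lit 1,nat_lit 0,nat_lit 1,nat_lit 1,nat_lit 1,nat_lit 0,nat_lit 1,nat_lit 0,nat_lit 1,nat_lit 1,nat_lit 0,nat_lit 1,nat_lit 1,nat_lit 0,nat_lit 1,nat_lit 1,nat_lit 0,nat_lit 1,nat_lit 1,nat_lit 1,nat_lit 0,nat_lit 1,nat_lit 0,nat_lit 1,nat_lit 1,nat_lit 0,nat_lit 1,nat_lit 1,nat_lit 1,nat_lit 0,nat_lit 1,nat_lit 1,nat_lit 1,nat_lit 0,nat_lit 1,nat_lit 1,nat_lit 1,nat_lit 0,nat_lit 1,nat_lit 0,nat_lit 1,nat_lit 0,nat_lit 1,nat_lit 0,nat_lit 1,nat_lit 1,nat_lit 0,nat_lit 1,nat_lit 0,nat_lit 1,nat_lit 1,nat_lit 1])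
 (.leaf [nat_lit 0,nat_lit 1,nat_lit 1,nat_lit 1,nat_lit 0,nat_lit 1,nat_lit 0,nat_lit 1,nat_lit 1,nat_lit 1,nat_lit 0,nat_lit 1,nat_lit 1,nat_lit 1,nat_lit 0,nat_lit 1,nat_lit 1,nat_lit 1,nat_lit 0,nat_lit 1,nat_lit 0,nat_lit 1,nat_lit 1,nat_lit 1,nat_lit 0,nat_lit 1,nat_lit 0,nat_lit 1,nat_lit 0,nat_lit 1,nat_lit 1,nat_lit 1,nat_lit 0,nat_lit 1,nat_lit 0,nat_lit 1,nat_lit 1,nat_lit 1,nat_lit 0,nat_lit 1,nat_lit 1,nat_lit 1,nat_lit 0,nat_lit 1,nat_lit 1,nat_lit 0,nat_lit 1,nat_lit 0,nat_lit 1,nat_lit 0,nat_lit 1,nat_lit 1,nat_lit 0,nat_lit 1,nat_lit 1,nat_lit 1,nat_lit 0,nat_lit 1,nat_lit 0,nat_lit 1,nat_lit 0,nat_lit 1,nat_lit 0,nat_lit 1,nat_lit 0,nat_lit 1,nat_lit 1,nat_lit 0,nat_lit 1,nat_lit 1,nat_lit 0,nat_lit 1,nat_lit 1,nat_lit 1,nat_lit 0,nat_lit 1,nat_lit 1,nat_lit 1,nat_lit 0,nat_lit 1,nat_lit 1,nat_lit 0,nat_lit 1,nat_lit 1,nat_lit 0,nat_lit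 1,nat_lit 0,nat_lit 1,nat_lit 1,nat_lit 1]))))
 (.node (.node (.node (.leaf [nat_lit 0,nat_lit 1,nat_lit 0,nat_lit 1,nat_lit 1,nat_lit 1,nat_lit 0,nat_lit 1,nat_lit 1,nat_lit 1,nat_lit 0,nat_lit 1,nat_lit 1,nat_lit 1,nat_lit 0,nat_lit 1,nat_lit 0,nat_lit 1,nat_lit 0,nat_lit 1,nat_lit 1,nat_lit 1,nat_lit 0,nat_lit 1,nat_lit 0,nat_lit 1,nat_lit 0,nat_lit 1,nat_lit 0,nat_lit 1,nat_lit 1,nat_lit 1,nat_lit 0,nat_lit 1,nat_lit 1,nat_lit 0,nat_lit 1,nat_lit 0,nat_lit 1,nat_lit 1,nat_lit 0,nat_lit 1,nat_lit 1,nat_lit 1,nat_lit 0,nat_lit 1,nat_lit 1,nat_lit 0,nat_lit 1,nat_lit 0,nat_lit 1,nat_lit 0,nat_lit 1,nat_lit 0,nat_lit 1,nat_lit 1,nat_lit 1,nat_lit 0,nat_lit 1,nat_lit 1,nat_lit 1,nat_lit 0,nat_lit 1,nat_lit 1,nat_lit 1,nat_lit 0,nat_lit 1,nat_lit 1,nat_lit 0,nat_lit 1,nat_lit 0,nat_lit 1,nat_lit 1,nat_lit 1,nat_lit 0,nat_lit 1,nat_lit 1,nat_lit 1,nat_lit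 0,nat_lit 1,nat_lit 0,nat_lit 1,nat_lit 0,nat_lit 1,nat_lit 1,nat_lit 1,nat_lit 0,nat_lit 1,nat_lit 1,nat_lit 1,nat_lit 0,nat_lit 1,nat_lit 1,nat_lit 1,nat_lit 0,nat_lit 1,nat_lit 1,nat_lit 1,nat_lit 0,nat_lit 1,nat_lit 1,nat_lit 1,nat_lit 0,nat_lit 1,nat_lit 0,nat_lit 1,nat_lit 1,nat_lit 0,nat_lit 1,nat_lit 1,nat_lit 0,nat_lit 1,nat_lit 1,nat_lit 1,nat_lit 0,nat_lit 1,nat_lit 1,nat_lit 0,nat_lit 1,nat_lit 0,nat_lit 1,nat_lit 1,nat_lit 1,nat_lit 0,nat_lit 1,nat_lit 0,nat_lit 1,nat_lit 1,nat_lit 1])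
 (.leaf [nat_lit 0,nat_lit 1,nat_lit 0,nat_lit 1,nat_lit 1,nat_lit 0,nat_lit 1,nat_lit 1,nat_lit 1,nat_lit 0,nat_lit 1,nat_lit 1,nat_lit 1,nat_lit 0,nat_lit 1,nat_lit 0,nat_lit 1,nat_lit 1,nat_lit 1,nat_lit 0,nat_lit 1,nat_lit 0,nat_lit 1,nat_lit 0,nat_lit 1,nat_lit 0,nat_lit 1,nat_lit 1,nat_lit 1,nat_lit 0,nat_lit 1,nat_lit 1,nat_lit 1,nat_lit 0,nat_lit 1,nat_lit 1,nat_lit 1,nat_lit 0,nat_lit 1,nat_lit 1,nat_lit 1,nat_lit 0,nat_lit 1,nat_lit 1,nat_lit 1,nat_lit 0,nat_lit 1,nat_lit 0,nat_lit 1,nat_lit 1,nat_lit 1,nat_lit 0,nat_lit 1,nat_lit 0,nat_lit 1,nat_lit 1,nat_lit 0,nat_lit 1,nat_lit 0,nat_lit 1,nat_lit 1,nat_lit 0,nat_lit 1,nat_lit 1,nat_lit 0,nat_lit 1,nat_lit 1,nat_lit 1,nat_lit 0,nat_lit 1,nat_lit 0,nat_lit 1,nat_lit 1,nat_lit 1]))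
 (.node (.leaf [nat_lit 1,nat_lit 1,nat_lit 1,nat_lit 0,nat_lit 1,nat_lit 1,nat_lit 1,nat_lit 0,nat_lit 1,nat_lit 0,nat_lit 1,nat_lit 0,nat_lit 1,nat_lit 1,nat_lit 1,nat_lit 0,nat_lit 1,nat_lit 1,nat_lit 1,nat_lit 0,nat_lit 1,nat_lit 0,nat_lit 1,nat_lit 1,nat_lit 1,nat_lit 0,nat_lit 1,nat_lit 1,nat_lit 0,nat_lit 1,nat_lit 0,nat_lit 1,nat_lit 1,nat_lit 1,nat_lit 0,nat_lit 1,nat_lit 0,nat_lit 1,nat_lit 0,nat_lit 1,nat_lit 1,nat_lit 1,nat_lit 0,nat_lit 1,nat_lit 1,nat_lit 1,nat_lit 0,nat_lit 1,nat_lit 0,nat_lit 1])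
 (.leaf [nat_lit 0,nat_lit 1,nat_lit 1,nat_lit 1,nat_lit 0,nat_lit 1,nat_lit 0,nat_lit 1,nat_lit 1,nat_lit 1,nat_lit 0,nat_lit 1,nat_lit 1,nat_lit 1,nat_lit 0,nat_lit 1,nat_lit 0,nat_lit 1,nat_lit 1,nat_lit 1,nat_lit 0,nat_lit 1,nat_lit 0,nat_lit 1,nat_lit 1,nat_lit 0,nat_lit 1,nat_lit 0,nat_lit 1,nat_lit 1,nat_lit 1,nat_lit 0,nat_lit 1,nat_lit 0,nat_lit 1,nat_lit 1,nat_lit 1,nat_lit 0,nat_lit 1,nat_lit 0,nat_lit 1,nat_lit 0,nat_lit 1,nat_lit 0,nat_lit 1,nat_lit 0,nat_lit 1,nat_lit 1,nat_lit 0,nat_lit 1,nat_lit 0,nat_lit 1,nat_lit 0,nat_lit 1,nat_lit 1,nat_lit 1,nat_lit 0,nat_lit 1,nat_lit 1,nat_lit 1,nat_lit 0,nat_lit 1,nat_lit 1,nat_lit 1,nat_lit 0,nat_lit 1,nat_lit 1,nat_lit 0,nat_lit 1,nat_lit 1,nat_lit 1,nat_lit 0,nat_lit 1,nat_lit 0,nat_lit 1,nat_lit 1,nat_lit 0,nat_lit 1,nat_lit 1,nat_lit 1,nat_lit 0,nat_lit 1,nat_lit 1,nat_lit 1,nat_lit 0,nat_lit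 1,nat_lit 1,nat_lit 1,nat_lit 0])))
 (.node (.node (.leaf [nat_lit 1,nat_lit 1,nat_lit 1,nat_lit 0,nat_lit 1,nat_lit 1,nat_lit 1,nat_lit 0,nat_lit 1,nat_lit 1,nat_lit 1,nat_lit 0,nat_lit 1,nat_lit 1,nat_lit 0,nat_lit 1,nat_lit 0,nat_lit 1,nat_lit 1,nat_lit 0,nat_lit 1,nat_lit 0,nat_lit 1,nat_lit 1,nat_lit 1,nat_lit 0,nat_lit 1,nat_lit 1,nat_lit 1,nat_lit 0,nat_lit 1,nat_lit 1,nat_lit 0,nat_lit 1,nat_lit 0,nat_lit 1,nat_lit 0,nat_lit 1,nat_lit 1,nat_lit 1,nat_lit 0,nat_lit 1,nat_lit 1,nat_lit 0,nat_lit 1,nat_lit 1,nat_lit 1,nat_lit 0,nat_lit 1,nat_lit 1,nat_lit 0,nat_lit 1,nat_lit 0,nat_lit 1,nat_lit 0,nat_lit 1])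
 (.leaf [nat_lit 1,nat_lit 1,nat_lit 0,nat_lit 1,nat_lit 0,nat_lit 1,nat_lit 0,nat_lit 1,nat_lit 1,nat_lit 1,nat_lit 0,nat_lit 1,nat_lit 0,nat_lit 1,nat_lit 1,nat_lit 1,nat_lit 0,nat_lit 1,nat_lit 1,nat_lit 0,nat_lit 1,nat_lit 0,nat_lit 1,nat_lit 1,nat_lit 1,nat_lit 0,nat_lit 1,nat_lit 1,nat_lit 1,nat_lit 0,nat_lit 1,nat_lit 0,nat_lit 1,nat_lit 1,nat_lit 1,nat_lit 0,nat_lit 1,nat_lit 1,nat_lit 0,nat_lit 1,nat_lit 0,nat_lit 1,nat_lit 0,nat_lit 1,nat_lit 1,nat_lit 1,nat_lit 0,nat_lit 1,nat_lit 0,nat_lit 1,nat_lit 1,nat_lit 0,nat_lit 1,nat_lit 1,nat_lit 0,nat_lit 1,nat_lit 0,nat_lit 1,nat_lit 1,nat_lit 1,nat_lit 0,nat_lit 1,nat_lit 1,nat_lit 0,nat_lit 1,nat_lit 1,nat_lit 0,nat_lit 1,nat_lit 0,nat_lit 1]))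
 (.leaf [nat_lit 1,nat_lit 0,nat_lit 1,nat_lit 1,nat_lit 1,nat_lit 0,nat_lit 1,nat_lit 1,nat_lit 0,nat_lit 1,nat_lit 0,nat_lit 1,nat_lit 1,nat_lit 0,nat_lit 1,nat_lit 1,nat_lit 1,nat_lit 0,nat_lit 1,nat_lit 0,nat_lit 1,nat_lit 1,nat_lit 1,nat_lit 0,nat_lit 1,nat_lit 1,nat_lit 1,nat_lit 0,nat_lit 1,nat_lit 1,nat_lit 0,nat_lit 1,nat_lit 0,nat_lit 1,nat_lit 0,nat_lit 1,nat_lit 0,nat_lit 1,nat_lit 1,nat_lit 1,nat_lit 0,nat_lit 1,nat_lit 0,nat_lit 1,nat_lit 1,nat_lit 0,nat_lit 1,nat_lit 0,nat_lit 1,nat_lit 1,nat_lit 1,nat_lit 0,nat_lit 1,nat_lit 0,nat_lit 1,nat_lit 0,nat_lit 1,nat_lit 1,nat_lit 0,nat_lit 1,nat_lit 0,nat_lit 1,nat_lit 1,nat_lit 1,nat_lit 0,nat_lit 1,nat_lit 1,nat_lit 1,nat_lit 0,nat_lit 1,nat_lit 1,nat_lit 0,nat_lit 1,nat_lit 1,nat_lit 0,nat_lit 1,nat_lit 0,nat_lit 1,nat_lit 1,nat_lit 0,nat_lit 1,nat_lit 1,nat_lit 0,nat_lit 1,nat_lit 1,nat_lit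 1,nat_lit 0]))))

theorem hw : w.all (lettersLt 2) = true := by decide +kernel

theorem hw2 : w.all (fun v => band (lettersLt 2 v) (Nat.beq (v.count 0 % 2) 0)) = true := by decide +kernel

/-- The polycyclic generators of a Sylow `2`-subgroup of the double cover. -/
noncomputable abbrev gT : ℕ → fourRu := fun s => evalW gF (w.get s)

theorem lmG : LM e 16240 (wT X w) gT 15 [0, 28, 50, 33] :=
  ⟨inj, fun s _ => tabs.evalW (LT.all_get hw s), base.mono le_top, by decide⟩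

theorem chk_z : allL [0, 28, 50, 33] (fun b => Nat.beq (wT X w 0 b) (iterT rt 2 b)) = true := by decide +kernel

noncomputable def pA : ℕ → ℕ := fun i => Nat.land (Nat.shiftRight (nat_lit 0xc04a49163c2eb07b80be0188028405700f40140030007000800100000046da880c1ce0207042c08701000250070008001000200040000000b3921307240b48182023804400ec01f003c004000800100000000000004112c20204340880100028005000800100020004000000000000000500880125024404700ac017002c00400080010000000000000000000030414089012c02000400080010002000400000000000000000000000002140480080013002000400080010000000000000000000000000005011c0230040008001000200040000000000000000000000000000000008c01000200040008001000000000000000000000000000000000000040008001000200040000000000000000000000000000000000000000200040008001000000000000000000000000000000000000000000001000200040000000000000000000000000000000000000000000000008001000000000000000000000000000000000000000000000000000040000000000000000000000000000000000000000000000000000)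 (Nat.mul (nat_lit 14) i)) (nat_lit 16383)

theorem pr_0 : allRange (nat_lit 0) (nat_lit 2) (pcOK (wT X w) (nat_lit 2) (nat_lit 15) [0, 28, 50, 33] pA) = true := by decide +kernel

theorem pr_1 : allRange (nat_lit 2) (nat_lit 2) (pcOK (wT X w) (nat_lit 2) (nat_lit 15) [0, 28, 50, 33] pA) = true := by decide +kernel

theorem pr_2 : allRange (nat_lit 4) (nat_lit 2) (pcOK (wT X w) (nat_lit 2) (nat_lit 15) [0, 28, 50, 33] pA) = true := by decide +kernel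

theorem pr_3 : allRange (nat_lit 6) (nat_lit 2) (pcOK (wT X w) (nat_lit 2) (nat_lit 15) [0, 28, 50, 33] pA) = true := by decide +kernel

theorem pr_4 : allRange (nat_lit 8) (nat_lit 2) (pcOK (wT X w) (nat_lit 2) (nat_lit 15) [0, 28, 50, 33] pA) = true := by decide +kernel

theorem pr_5 : allRange (nat_lit 10) (nat_lit 2) (pcOK (wT X w) (nat_lit 2) (nat_lit 15) [0, 28, 50, 33] pA) = true := by decide +kernel

theorem pr_6 : allRange (nat_lit 12) (nat_lit 2) (pcOK (wT X w) (nat_lit 2) (nat_lit 15) [0, 28, 50, 33] pA) = true := by decide +kernel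

theorem pr_7 : allRange (nat_lit 14) (nat_lit 1) (pcOK (wT X w) (nat_lit 2) (nat_lit 15) [0, 28, 50, 33] pA) = true := by decide +kernel

theorem pr : ∀ i < 15, (pcOK (wT X w) (nat_lit 2) (nat_lit 15) [0, 28, 50, 33] pA) i = true := range_append 1 (range_append 2 (range_append 2 (range_append 2 (range_append 2 (range_append 2 (range_append 2 (allRange_zero pr_0) pr_1 (b := 4)) pr_2 (b := 6)) pr_3 (b := 8)) pr_4 (b := 10)) pr_5 (b := 12)) pr_6 (b := 14)) pr_7 (b := 15)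

theorem pc : IsPC gT 2 15 := lmG.isPC pr

noncomputable def P : ℕ → ℕ := fun i => Nat.land (Nat.shiftRight (nat_lit 0xfd3ff04fb5feb2fa73ddaf043b56eb7ba30e36b8aee10f80edde3753d1ef455d06b40ccbdb2e5cb3b276c38f0abbfcafd3bdcef28bbeeed6bb02dfeb0d2b7aac0aa54a3fa8d2a19e8329e72777927e47990fa4308c6a3098bca29a841e0cf8059ff77e5df4c7c7defa7b91e227161b9e6c99a7864898f6622d8565f0179b530d49d51894544cf932d4c592be44ad0f340e901b3eecf703d0cf1e3c20e4631f0bc22d28a9c251891a22bc87a1f907bf139c4c112184780d883510ce82e2053c117017803f) (Nat.mul (nat_lit 14) i)) (nat_lit 16383)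

noncomputable def T_t : BT :=
(.node (.node (.node (.node (.leaf (nat_lit 0x6ed9ab466c98b05eb96ac56a94a84e992a446890a03e78e9c3668c982e58a9426488901e3868c16284880e182840608080dfbb6ecd7ab4e8cf9b2e4c78b0e0bf7aedcb76acd8af5aad4a74a8d09f3a6cc972a4c88f1a2c4870a0c07ef9ebc76e9cb8))
 (.leaf (nat_lit 0x6ef3688c3ab491ceba6017b8b5a2bf78e50b6a079a3e7a42536828dc8b3a6e59649855431a78687080347e331ee0609609de11ac052c98c95f98a390aa99da4e9aa1847823d2af5885da760ca41a58aad272b41db238bbe1629c6c0f115b676eb241)))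
 (.node (.leaf (nat_lit 0x7ec01c8d6cb4b6ce9d018c60b0e05c99281376acada31a01c4652bac9e5a69a962c26c8f5a2c424284d5def9e916aa92000fa1d9067a98ee5f7ec5056e94a8cd7aeb9a6890e53238454b730fe42f38ad2270de341e7868c950a09d6e182c9db8ae38))
 (.leaf (nat_lit 0x6eeb2b95306d2a197cfc0b34a7965c009b4b62a39909a3269367a49d1a95f0ec10c1a47ad99ea25533987f795edb13244dde09681c225162889eb884268bcecce25ec47087d178c1631a7588d58b74346502dddc0bbb5b294717d00e9b1b54050815))))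
 (.node (.node (.leaf (nat_lit 0x6fbb6b4d6c98e85ebb2acc78b0a84e992a4468acd8af58e9c374a8989e58acc264a4908f1a28c16284880e19ebc76e8080ded9aec67ab4b0cf996e456a94e0bf7aedcb7690a03e7aad4a668cd02f3a69497288c81e386c4870a0c07ef82840609cb8))
 (.leaf (nat_lit 0xaaef70b8a553352cb07660af2789319d15bb80079e98b77e0727e95f53a4519d44314ab2819ddd92c33f815318260469c43a0db431b36f6d9d9232e7a10bc1a0bed2348e23d62995ba8035cd27c2c6151652151243635a5684df0710715bad124d8c)))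
 (.node (.leaf (nat_lit 0x7fb9a9066297e8637d6d057894becd3800136310a03f5a0414748ce42f789cc2b0c8b41f186a294caa55df8028406e92250edb6c8d70b3b0d29f298c6ab0865c59c39a712cd8ae78409b66a8ac9e9a5949a2e4ec8e3a2da25a8e1d6ea1ebc760ae5d))
 (.leaf (nat_lit 0x22e618e7b80e24826a43ad7be396296b483b1094ec5d6e8cbca753e243100084bb961e9f4d5ead0fa6d778986d024fdaaf92045c60aa2a5c134880266dc7ce98898bb402b0b4cc8cc935b56faab231c40badb2562e6f1b26018a9f097a298941f6e7)))))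
 (.node (.node (.node (.leaf (nat_lit 0xdfbb6ec66c98e85f9b2e457894a8be992dcb6890d8af5aa9ca74a8d02e58acc272a4c81f1868c86284c07e182bc76e9c806ed9ab4d7ab4b0ceb96acc6ab0e04f7aea4476aca03e78ed43668c989f3a69496488908e3a2c4170a0880ef9e8406080b8))
 (.leaf (nat_lit 0xa652b5c8b0979a632821d435cbda865aa347f8159154d725d6fa1d4052989ee2abac010aef5be4fa9c1847107e51c664413730f241a2b3d2d249e55b27e7a21738e6c0ea31c9c5b5625dec0108c37a5b69b990397a0d986bec8050b6323ad8d44809)))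
 (.node (.leaf (nat_lit 0x241150867ab491cf4e639c6d54a8b77aed0be8acd23c7c854cd6075c2f3a6e596dd81d8e6468c7f0a0b48619eb6040f23894f3140d6c98c95e6ca0157b70e046992984f6909aad5e41c5c823249e58aad27bf4551f462c40e284ec16f82ee74ed600))
 (.leaf (nat_lit 0x36501d5c64ef522c48224d6e9eda16c4e640ea06c9a239a5ddfa2bb98f9e136d59ac089e790bebe54048b6330ad6b88c41a731d9d572d31a9d29e5c66082a287a6a2c7f82291331b6256ec0f811ebc56e64b90402f5ac864f35c1047114e5daaa809))))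
 (.node (.node (.leaf (nat_lit 0x6edb6ecd7ab4b0ceb96e4c78b0a84f792dc468aca0af5aa9c366a8d09f3a69496488c88f1a28c17084c00e19e8476e9c80dfb9ab466c98e85f9b2ac56a94e0be9aea4b7690d83e78ed4a748c982e58acc272a4901e386c4862a0887ef82bc06080b8))
 (.leaf (nat_lit 0xbfa01dcd7a596e141d055c6094dd6e4d43424710ada31965a8732bc09f34b52bd6c2398f586c1379c618cc002916aa883e4ec1da466c753684fec1d56eb0a5df2f06c9552ce5323b2221650f882e5671a4c8de011e7a289a6be2505ce1ec9db8a406)))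
 (.leaf (nat_lit 0xdef01482f789c99aba6181eee2da4faaa39b781ed28c6445da682b2cd70b3ad624986cc67d4be1739c1d7f110b655b6e416e11d109e9a5912b98a508e0c6a2bec8e0146a029a1d460253760f6466297e5d32b434575f08686580550e32ceec4d5209)))))

noncomputable def T : ℕ → ℕ → ℕ := fun x i => Nat.land (Nat.shiftRight (BT.get T_t x) (Nat.mul (nat_lit 7) i)) (nat_lit 127)

theorem res_0 : allRange (nat_lit 0) (nat_lit 16) (resOK (wT X w) T P (nat_lit 16240) (nat_lit 112) (nat_lit 15)) = true := by decide +kernel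

theorem res_1 : allRange (nat_lit 16) (nat_lit 16) (resOK (wT X w) T P (nat_lit 16240) (nat_lit 112) (nat_lit 15)) = true := by decide +kernel

theorem res_2 : allRange (nat_lit 32) (nat_lit 16) (resOK (wT X w) T P (nat_lit 16240) (nat_lit 112) (nat_lit 15)) = true := by decide +kernel

theorem res_3 : allRange (nat_lit 48) (nat_lit 16) (resOK (wT X w) T P (nat_lit 16240) (nat_lit 112) (nat_lit 15)) = true := by decide +kernel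

theorem res_4 : allRange (nat_lit 64) (nat_lit 16) (resOK (wT X w) T P (nat_lit 16240) (nat_lit 112) (nat_lit 15)) = true := by decide +kernel

theorem res_5 : allRange (nat_lit 80) (nat_lit 16) (resOK (wT X w) T P (nat_lit 16240) (nat_lit 112) (nat_lit 15)) = true := by decide +kernel

theorem res_6 : allRange (nat_lit 96) (nat_lit 16) (resOK (wT X w) T P (nat_lit 16240) (nat_lit 112) (nat_lit 15)) = true := by decide +kernel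

theorem res : ∀ i < 112, (resOK (wT X w) T P (nat_lit 16240) (nat_lit 112) (nat_lit 15)) i = true := range_append 16 (range_append 16 (range_append 16 (range_append 16 (range_append 16 (range_append 16 (allRange_zero res_0) res_1 (b := 32)) res_2 (b := 48)) res_3 (b := 64)) res_4 (b := 80)) res_5 (b := 96)) res_6 (b := 112)

theorem tabsT : Tabs (fun i => e (P i)) 112 T gT 15 ∧ Set.InjOn (fun i => e (P i)) (Set.Iio 112) :=
  res_spec lmG.tabs inj res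

noncomputable def ch_l : LT :=
(.node (.node (.node (.leaf [nat_lit 3,nat_lit 1])
 (.leaf [nat_lit 13,nat_lit 11,nat_lit 10,nat_lit 3]))
 (.node (.leaf [nat_lit 13,nat_lit 7,nat_lit 5,nat_lit 2])
 (.leaf [nat_lit 13,nat_lit 12,nat_lit 5,nat_lit 4])))
 (.node (.node (.leaf [nat_lit 13,nat_lit 8,nat_lit 4,nat_lit 0])
 (.leaf [nat_lit 14,nat_lit 12,nat_lit 9,nat_lit 8,nat_lit 2,nat_lit 1]))
 (.leaf [nat_lit 2,nat_lit 0])))

theorem ch_hl : ch_l.all (lettersLt 15) = true := by decide +kernel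

noncomputable def ch_3O : ℕ → ℕ := fun i => Nat.land (Nat.shiftRight (nat_lit 0xd19693c60b4d04) (Nat.mul (nat_lit 7) i)) (nat_lit 127)

noncomputable def ch_3E : ℕ → ℕ := fun i => Nat.land (Nat.shiftRight (nat_lit 0xa040500808008080100206040040a010080000) (Nat.mul (nat_lit 19) i)) (nat_lit 524287)

theorem ch_3_s : band (blt (nat_lit 4) (nat_lit 112)) (band (Nat.ble (nat_lit 0) (nat_lit 3)) (allLt (nat_lit 0) fun y => Nat.beq (wT T ch_l y (nat_lit 4)) (nat_lit 4))) = true := by decide +kernel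

theorem ch_3_o : ∀ i < 8, (fun i => band (incOK ch_3O (nat_lit 8) (nat_lit 112) i) (orbL (wT T ch_l) (nat_lit 3) ch_3O ch_3E (nat_lit 8) (Nat.beq (nat_lit 4)) i)) i = true := allRange_zero (len := (nat_lit 8)) (by decide +kernel)

noncomputable def ch_2O : ℕ → ℕ := fun i => Nat.land (Nat.shiftRight (nat_lit 3714) (Nat.mul (nat_lit 6) i)) (nat_lit 63)

noncomputable def ch_2E : ℕ → ℕ := fun i => Nat.land (Nat.shiftRight (nat_lit 132608) (Nat.mul (nat_lit 9) i)) (nat_lit 511)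

theorem ch_2_s : band (blt (nat_lit 2) (nat_lit 112)) (band (Nat.ble (nat_lit 3) (nat_lit 4)) (allLt (nat_lit 3) fun y => Nat.beq (wT T ch_l y (nat_lit 2)) (nat_lit 2))) = true := by decide +kernel

theorem ch_2_o : ∀ i < 2, (fun i => band (incOK ch_2O (nat_lit 2) (nat_lit 112) i) (orbL (wT T ch_l) (nat_lit 4) ch_2O ch_2E (nat_lit 2) (Nat.beq (nat_lit 2)) i)) i = true := allRange_zero (len := (nat_lit 2)) (by decide +kernel)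

noncomputable def ch_1O : ℕ → ℕ := fun i => Nat.land (Nat.shiftRight (nat_lit 0xdfbb6ecd19b2e4c57ee5bb15eb55a74a8d0992a4c88d0e03f78edd396ed9ab460b96ac549d223407cf1d3668c9828488901c2c407080c101) (Nat.mul (nat_lit 7) i)) (nat_lit 127)

noncomputable def ch_1E : ℕ → ℕ := fun i => Nat.land (Nat.shiftRight (nat_lit 0xcc101760305ec1011a0404640c07e0405040c1010305a414116020074141580304780c04803054c101340404280c0bb0402ac1010a0304780c0b603012c100760304640c10b04053c141360302e41009e0304000416404044c101560205b01017a0504681015e03058408121020524141000104fc141380404100c1680405cc101320405a81009d05042c1012a0404280c1560201bc101560204e41012b0405bc101160202640c098030584080c00000) (Nat.mul (nat_lit 22) i)) (nat_lit 0x3fffff)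

theorem ch_1_s : band (blt (nat_lit 1) (nat_lit 112)) (band (Nat.ble (nat_lit 4) (nat_lit 6)) (allLt (nat_lit 4) fun y => Nat.beq (wT T ch_l y (nat_lit 1)) (nat_lit 1))) = true := by decide +kernel

theorem ch_1_o : ∀ i < 64, (fun i => band (incOK ch_1O (nat_lit 64) (nat_lit 112) i) (orbL (wT T ch_l) (nat_lit 6) ch_1O ch_1E (nat_lit 64) (Nat.beq (nat_lit 1)) i)) i = true := allRange_zero (len := (nat_lit 64)) (by decide +kernel)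

noncomputable def ch_0O : ℕ → ℕ := fun i => Nat.land (Nat.shiftRight (nat_lit 0xd5a73e0bd76d549d365c48505f3864c57a84c9511c2c5498c1424300) (Nat.mul (nat_lit 7) i)) (nat_lit 127)

noncomputable def ch_0E : ℕ → ℕ := fun i => Nat.land (Nat.shiftRight (nat_lit 0xf02010c0c1060604e0306701808c0c1a8080870406b01814c08168080c60306000836c1019a060df0506701814c081260405e0406f0200cc081a2080b70406301814c0804e080960306981002c141ba080c00000) (Nat.mul (nat_lit 21) i)) (nat_lit 0x1fffff)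

theorem ch_0_s : band (blt (nat_lit 0) (nat_lit 112)) (band (Nat.ble (nat_lit 6) (nat_lit 7)) (allLt (nat_lit 6) fun y => Nat.beq (wT T ch_l y (nat_lit 0)) (nat_lit 0))) = true := by decide +kernel

theorem ch_0_o : ∀ i < 32, (fun i => band (incOK ch_0O (nat_lit 32) (nat_lit 112) i) (orbL (wT T ch_l) (nat_lit 7) ch_0O ch_0E (nat_lit 32) (Nat.beq (nat_lit 0)) i)) i = true := allRange_zero (len := (nat_lit 32)) (by decide +kernel)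

theorem ch  : ∀ Y : Subgroup fourRu, Finite Y → genLt (fun s => evalW gT (ch_l.get s)) 7 ≤ Y → 32768 * Nat.card (fixB (fun i => e (P i)) Y [nat_lit 0,nat_lit 1,nat_lit 2,nat_lit 4]) ≤ Nat.card Y :=
  (LowLevel.card_fix (e := (fun i => e (P i))) (lowLevel_words tabsT.1 tabsT.2 ch_hl ch_0_s ch_0_o) (LowLevel.card_fix (e := (fun i => e (P i))) (lowLevel_words tabsT.1 tabsT.2 ch_hl ch_1_s ch_1_o) (LowLevel.card_fix (e := (fun i => e (P i))) (lowLevel_words tabsT.1 tabsT.2 ch_hl ch_2_s ch_2_o) (LowLevel.card_fix (e := (fun i => e (P i))) (lowLevel_words tabsT.1 tabsT.2 ch_hl ch_3_s ch_3_o) (card_fix_nil (fun i => e (P i)) _)))))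

theorem cb : Nat.card (genLt gT 15) = 2 ^ 15 ∧ IsBase (fun i => e (P i)) (genLt gT 15) [nat_lit 0,nat_lit 1,nat_lit 2,nat_lit 4] :=
  card_base_of_chain ch (words_le_genLt ch_hl _) (pc.card_le (by decide))

theorem lmT : LM (fun i => e (P i)) 112 T gT 15 [nat_lit 0,nat_lit 1,nat_lit 2,nat_lit 4] :=
  ⟨tabsT.2, tabsT.1, cb.2, by decide +kernel⟩

end Cfsg.Agent.Std.Ru
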